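/-
Simultaneous diagonalisation of commuting matrices of finite order prime to the characteristic.
-/
import Mathlib.LinearAlgebra.Eigenspace.Pi
import Mathlib.LinearAlgebra.Eigenspace.Semisimple
import Mathlib.LinearAlgebra.Eigenspace.Triangularizable
import Mathlib.FieldTheory.Separable
import Mathlib.LinearAlgebra.Matrix.ToLin
import Mathlib.LinearAlgebra.Matrix.GeneralLinearGroup.Defs

set_option autoImplicit false

namespace CfsgLib.Geo.SL3.Hessian

open Matrix Module

variable {K : Type*} [Field K] [IsAlgClosed K] {n : ℕ}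

/-- Commuting matrices of finite order prime to the characteristic have a common frame of eigenvectors. -/
theorem exists_diag (S : Set (Matrix (Fin n) (Fin n) K)) (hc : ∀ s ∈ S, ∀ t ∈ S, s * t = t * s)
    (hs : ∀ s ∈ S, ∃ m : ℕ, (m : K) ≠ 0 ∧ s ^ m = 1) :
    ∃ P : GL (Fin n) K, ∀ s ∈ S, ∃ χ : Fin n → K,
      s * (P : Matrix (Fin n) (Fin n) K) = (P : Matrix (Fin n) (Fin n) K) * Matrix.diagonal χ := by
  classical
  let f : S → End K (Fin n → K) := fun s => Matrix.toLinAlgEquiv' (s : Matrix (Fin n) (Fin n) K)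
  have hss : ∀ s : S, (f s).IsFinitelySemisimple := fun s => by
    obtain ⟨m, hm, hsm⟩ := hs s s.2
    refine (End.isSemisimple_of_squarefree_aeval_eq_zero
      (Polynomial.X_pow_sub_one_separable_iff.2 hm).squarefree (f := f s) ?_).isFinitelySemisimple
    simp only [f, map_sub, Polynomial.aeval_X_pow, map_one]
    rw [← map_pow, hsm, map_one, sub_self]
  have htop : ⨆ χ : S → K, ⨅ s, (f s).maxGenEigenspace (χ s) = ⊤ :=
    End.iSup_iInf_maxGenEigenspace_eq_top_of_iSup_maxGenEigenspace_eq_top_of_commute f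
      (fun s t _ => by
        simp only [Commute, SemiconjBy, f, ← map_mul, hc s s.2 t t.2])
      (fun s => End.iSup_maxGenEigenspace_eq_top (f s))
  let E : Set (Fin n → K) := {v | ∀ s : S, ∃ c : K, f s v = c • v}
  have hspan : Submodule.span K E = ⊤ := by
    rw [eq_top_iff, ← htop, iSup_le_iff]
    intro χ v hv
    rw [Submodule.mem_iInf] at hv
    refine Submodule.subset_span fun s => ⟨χ s, ?_⟩
    have h := hv s
    rw [(hss s).maxGenEigenspace_eq_eigenspace, End.mem_eigenspace_iff] at h
    exact h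
  obtain ⟨b, hbE, hbspan, hbli⟩ := exists_linearIndependent K E
  let B : Basis b K (Fin n → K) := Basis.mk hbli (by rw [Subtype.range_coe, hbspan, hspan])
  haveI : Fintype b := FiniteDimensional.fintypeBasisIndex B
  let B' : Basis (Fin n) K (Fin n → K) := B.reindex (Fintype.equivFinOfCardEq (by
    rw [← finrank_eq_card_basis B, Module.finrank_fin_fun]))
  have hB' : ∀ j, B' j ∈ E := fun j => by
    simp only [B', Basis.reindex_apply, B, Basis.mk_apply]
    exact hbE (Subtype.mem _)
  let P : Matrix (Fin n) (Fin n) K := (Pi.basisFun K (Fin n)).toMatrix B'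
  haveI : Invertible P := Basis.invertibleToMatrix _ _
  refine ⟨unitOfInvertible P, fun s hs' => ?_⟩
  choose χ hχ using fun j => hB' j ⟨s, hs'⟩
  refine ⟨χ, ?_⟩
  ext i j
  rw [Matrix.mul_diagonal]
  have h := congrFun (hχ j) i
  simp only [f, Matrix.toLinAlgEquiv'_apply, Pi.smul_apply, smul_eq_mul] at h
  simp only [val_unitOfInvertible, P, Basis.toMatrix_apply, Pi.basisFun_repr, Matrix.mul_apply]
  rw [mul_comm]
  rw [← h]
  rfl

end CfsgLib.Geo.SL3.Hessian
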