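/-
Block decompositions of the space into a point and a line, and the nilpotent facts that go with them.
-/
import Cfsg.Agent.Geo.SLFour.Quadric
import Mathlib.LinearAlgebra.Matrix.Charpoly.Minpoly
import Mathlib.LinearAlgebra.Matrix.Charpoly.Coeff
import Mathlib.Algebra.CharP.Lemmas

set_option autoImplicit false
set_option linter.unusedSectionVars false

namespace CfsgLib.Geo.SL3.Hessian

open Matrix

variable {K : Type*} [Field K]

/-- The block subgroup for a frame: the centraliser of the projection on the first vector along the others. -/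
def Blk (Q : GL (Fin 3) K) : Subgroup (GL (Fin 3) K) :=
  Subgroup.comap (MulAut.conj Q⁻¹).toMonoidHom
    { carrier := {g | Commute (g : Matrix (Fin 3) (Fin 3) K) (Matrix.diagonal ![1, 0, 0])}
      mul_mem' := fun {g h} hg hh => by
        show Commute ((g * h : GL (Fin 3) K) : Matrix (Fin 3) (Fin 3) K) _
        rw [Units.val_mul]; exact Commute.mul_left hg hh
      one_mem' := by show Commute ((1 : GL (Fin 3) K) : Matrix (Fin 3) (Fin 3) K) _; simp
      inv_mem' := fun {g} hg => Commute.units_inv_left hg }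

/-- The matrix in the frame. -/
abbrev inFrame (Q g : GL (Fin 3) K) : Matrix (Fin 3) (Fin 3) K :=
  ((Q⁻¹ * g * Q : GL (Fin 3) K) : Matrix (Fin 3) (Fin 3) K)

lemma inFrame_mul (Q g h : GL (Fin 3) K) : inFrame Q (g * h) = inFrame Q g * inFrame Q h := by
  simp only [inFrame, ← Units.val_mul]
  refine congrArg Units.val ?_
  group

lemma inFrame_one (Q : GL (Fin 3) K) : inFrame Q 1 = 1 := by simp [inFrame]

lemma inFrame_injective (Q : GL (Fin 3) K) : Function.Injective (inFrame Q) := fun g h e => by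
  have := Units.ext e
  exact mul_left_cancel (mul_right_cancel this)

lemma det_inFrame (Q g : GL (Fin 3) K) : (inFrame Q g).det = (g : Matrix (Fin 3) (Fin 3) K).det := by
  rw [inFrame, Units.val_mul, Units.val_mul, Matrix.det_units_conj']

lemma inFrame_scalar {Q g : GL (Fin 3) K} {c : K} (h : (g : Matrix (Fin 3) (Fin 3) K) = c • 1) :
    inFrame Q g = c • 1 := by
  rw [inFrame, Units.val_mul, Units.val_mul, h, mul_smul_comm, mul_one, smul_mul_assoc, Units.inv_mul]

lemma scalar_of_inFrame {Q g : GL (Fin 3) K} {c : K} (h : inFrame Q g = c • 1) :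
    (g : Matrix (Fin 3) (Fin 3) K) = c • 1 := by
  have e : (g : Matrix (Fin 3) (Fin 3) K) =
      (Q : Matrix (Fin 3) (Fin 3) K) * inFrame Q g * ((Q⁻¹ : GL (Fin 3) K) : Matrix (Fin 3) (Fin 3) K) := by
    rw [← Units.val_mul, ← Units.val_mul]; congr 1; group
  rw [e, h, mul_smul_comm, mul_one, smul_mul_assoc, Units.mul_inv]

lemma mem_blk_iff {Q g : GL (Fin 3) K} :
    g ∈ Blk Q ↔ inFrame Q g 0 1 = 0 ∧ inFrame Q g 0 2 = 0 ∧ inFrame Q g 1 0 = 0 ∧ inFrame Q g 2 0 = 0 := by
  have e : (MulAut.conj Q⁻¹).toMonoidHom g = Q⁻¹ * g * Q := by simp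
  rw [Blk, Subgroup.mem_comap, e]
  change Commute (inFrame Q g) _ ↔ _
  generalize inFrame Q g = A
  rw [commute_iff_eq]
  constructor
  · intro h
    have h1 := congrFun (congrFun h 0) 1
    have h2 := congrFun (congrFun h 0) 2
    have h3 := congrFun (congrFun h 1) 0
    have h4 := congrFun (congrFun h 2) 0
    simp [Matrix.diagonal_mul, Matrix.mul_diagonal] at h1 h2 h3 h4
    exact ⟨h1.symm, h2.symm, h3, h4⟩
  · rintro ⟨h1, h2, h3, h4⟩
    ext i j
    fin_cases i <;> fin_cases j <;> simp [Matrix.diagonal_mul, Matrix.mul_diagonal, h1, h2, h3, h4]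

lemma mem_blk_of_commute {Q t g : GL (Fin 3) K} {α β : K} (hab : α ≠ β)
    (ht : inFrame Q t = Matrix.diagonal ![α, β, β]) (h : g * t = t * g) : g ∈ Blk Q := by
  have e : inFrame Q g * inFrame Q t = inFrame Q t * inFrame Q g := by rw [← inFrame_mul, ← inFrame_mul, h]
  rw [ht] at e
  rw [mem_blk_iff]
  generalize inFrame Q g = A at e
  have hs := sub_ne_zero.2 hab
  have h1 := congrFun (congrFun e 0) 1
  have h2 := congrFun (congrFun e 0) 2
  have h3 := congrFun (congrFun e 1) 0
  have h4 := congrFun (congrFun e 2) 0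
  simp [Matrix.diagonal_mul, Matrix.mul_diagonal] at h1 h2 h3 h4
  refine ⟨?_, ?_, ?_, ?_⟩
  · exact (mul_eq_zero.1 (show A 0 1 * (α - β) = 0 by linear_combination -h1)).resolve_right hs
  · exact (mul_eq_zero.1 (show A 0 2 * (α - β) = 0 by linear_combination -h2)).resolve_right hs
  · exact (mul_eq_zero.1 (show A 1 0 * (α - β) = 0 by linear_combination h3)).resolve_right hs
  · exact (mul_eq_zero.1 (show A 2 0 * (α - β) = 0 by linear_combination h4)).resolve_right hs

variable {Q : GL (Fin 3) K}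

/-- The action on the line of a block element. -/
def eta (Q : GL (Fin 3) K) : Blk Q →* GL (Fin 2) K :=
  MonoidHom.toHomUnits
    { toFun := fun g => (inFrame Q g).submatrix Fin.succ Fin.succ
      map_one' := by rw [OneMemClass.coe_one, inFrame_one, Matrix.submatrix_one _ (Fin.succ_injective _)]
      map_mul' := fun g h => by
        obtain ⟨-, -, h3, h4⟩ := mem_blk_iff.1 g.2
        ext k l
        rw [Matrix.submatrix_apply, Subgroup.coe_mul, inFrame_mul, Matrix.mul_apply, Matrix.mul_apply,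
          Fin.sum_univ_succ, show inFrame Q (g : GL (Fin 3) K) k.succ 0 = 0 by fin_cases k <;> assumption, zero_mul,
          zero_add]
        rfl }

lemma eta_apply (g : Blk Q) (k l : Fin 2) :
    (eta Q g : Matrix (Fin 2) (Fin 2) K) k l = inFrame Q g k.succ l.succ := rfl

/-- The eigenvalue of a block element on the point. -/
def corner (Q : GL (Fin 3) K) : Blk Q →* K where
  toFun g := inFrame Q g 0 0
  map_one' := by rw [OneMemClass.coe_one, inFrame_one, Matrix.one_apply_eq]
  map_mul' g h := by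
    obtain ⟨h1, h2, -, -⟩ := mem_blk_iff.1 g.2
    rw [Subgroup.coe_mul, inFrame_mul, Matrix.mul_apply, Fin.sum_univ_three, h1, h2, zero_mul, zero_mul, add_zero,
      add_zero]

lemma inFrame_blk (g : Blk Q) :
    inFrame Q g = !![corner Q g, 0, 0; 0, (eta Q g : Matrix (Fin 2) (Fin 2) K) 0 0,
      (eta Q g : Matrix (Fin 2) (Fin 2) K) 0 1; 0, (eta Q g : Matrix (Fin 2) (Fin 2) K) 1 0,
      (eta Q g : Matrix (Fin 2) (Fin 2) K) 1 1] := by
  obtain ⟨h1, h2, h3, h4⟩ := mem_blk_iff.1 g.2
  ext i j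
  fin_cases i <;> fin_cases j <;> first | (simp [h1, h2, h3, h4]; done) | rfl

lemma blk_ext {g h : Blk Q} (h1 : corner Q g = corner Q h)
    (h2 : (eta Q g : Matrix (Fin 2) (Fin 2) K) = (eta Q h : Matrix (Fin 2) (Fin 2) K)) : g = h :=
  Subtype.ext (inFrame_injective Q (by rw [inFrame_blk g, inFrame_blk h, h1, h2]))

lemma det_blk (g : Blk Q) :
    ((g : GL (Fin 3) K) : Matrix (Fin 3) (Fin 3) K).det = corner Q g * (eta Q g : Matrix (Fin 2) (Fin 2) K).det := by
  rw [← det_inFrame Q, inFrame_blk g, Matrix.det_fin_three, Matrix.det_fin_two]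
  simp
  ring

lemma eta_injective_of_det {g h : Blk Q} (hg : ((g : GL (Fin 3) K) : Matrix (Fin 3) (Fin 3) K).det = 1)
    (hh : ((h : GL (Fin 3) K) : Matrix (Fin 3) (Fin 3) K).det = 1) (e : eta Q g = eta Q h) : g = h := by
  refine blk_ext ?_ (by rw [e])
  rw [det_blk, e] at hg
  rw [det_blk, ← hg] at hh
  exact (mul_right_cancel₀ (fun h0 => by rw [h0, mul_zero] at hg; exact zero_ne_one hg) hh).symm

lemma sq_zero_of_nilpotent_two {N : Matrix (Fin 2) (Fin 2) K} (h : IsNilpotent N) : N * N = 0 := by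
  have ht : N.trace = 0 := (Matrix.isNilpotent_trace_of_isNilpotent h).eq_zero
  obtain ⟨n, hn⟩ := h
  have hd : N.det = 0 := by
    have := congrArg Matrix.det hn
    rw [Matrix.det_pow, Matrix.det_zero] at this
    exact eq_zero_of_pow_eq_zero this
  rw [Matrix.trace_fin_two] at ht
  rw [Matrix.det_fin_two] at hd
  ext i j
  fin_cases i <;> fin_cases j <;> simp [Matrix.mul_apply, Fin.sum_univ_two] <;> grind

lemma cube_zero_of_nilpotent {N : Matrix (Fin 3) (Fin 3) K} (h : IsNilpotent N) : N ^ 3 = 0 := by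
  obtain ⟨n, hn⟩ := h
  have h1 : minpoly K N ∣ Polynomial.X ^ n := minpoly.dvd K N (by simp [hn])
  obtain ⟨i, -, hi⟩ := (dvd_prime_pow Polynomial.prime_X n).1 h1
  have heq : minpoly K N = Polynomial.X ^ i := Polynomial.eq_of_monic_of_associated (minpoly.monic (Matrix.isIntegral N))
    (Polynomial.monic_X_pow i) hi
  have hdeg : i ≤ 3 := by
    have := Polynomial.natDegree_le_of_dvd (Matrix.minpoly_dvd_charpoly N) (Matrix.charpoly_monic N).ne_zero
    rwa [heq, Polynomial.natDegree_X_pow, Matrix.charpoly_natDegree_eq_dim, Fintype.card_fin] at this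
  have h2 : N ^ i = 0 := by
    have := minpoly.aeval K N
    rwa [heq, Polynomial.aeval_X_pow] at this
  calc N ^ 3 = N ^ (i + (3 - i)) := by congr 1; omega
    _ = 0 := by rw [pow_add, h2, zero_mul]

lemma isNilpotent_sub_one {n : ℕ} {A : Matrix (Fin n) (Fin n) K} {p : ℕ} [Fact p.Prime] [CharP K p]
    (h : A ^ p = 1) : IsNilpotent (A - 1) := by
  rcases Nat.eq_zero_or_pos n with rfl | hn
  · exact ⟨1, Subsingleton.elim _ _⟩
  haveI : Nonempty (Fin n) := ⟨⟨0, hn⟩⟩
  exact ⟨p, by rw [sub_pow_char_of_commute (p := p) (Commute.one_right A), h, one_pow, sub_self]⟩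

end CfsgLib.Geo.SL3.Hessian
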