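/-
The standard frame of the extraspecial group of order 27 in dimension three and its monomial-free symmetries.
-/
import Cfsg.Agent.Elusive.Heisenberg
import Cfsg.Agent.Geo.SLFour.Quadric

set_option autoImplicit false
set_option linter.unusedSectionVars false

namespace CfsgLib.Geo.SL3.Hessian

open Matrix Cfsg Cfsg.Geo CfsgLib.Geo CfsgLib.Elusive

/-- An overgroup, in special linear dimension three, of the normaliser of the standard extraspecial group of
order 27, without transvections, whose centralisers of elements of order the characteristic have prime slope. The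
field is a prime field in the linear case and quadratic over one in the unitary case. -/
structure Setup (F : Type*) [Field F] [Fintype F] where
  M : Subgroup (GL (Fin 3) F)
  μ : F
  a : GL (Fin 3) F
  b : GL (Fin 3) F
  z : GL (Fin 3) F
  t : GL (Fin 3) F
  u : GL (Fin 3) F
  v : GL (Fin 3) F
  prim : IsPrimitiveRoot μ 3
  three : (3 : F) ≠ 0
  a_val : (a : Matrix (Fin 3) (Fin 3) F) = Matrix.diagonal ![1, μ, μ ^ 2]
  b_val : (b : Matrix (Fin 3) (Fin 3) F) = cycMat F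
  z_val : (z : Matrix (Fin 3) (Fin 3) F) = μ • 1
  t_val : (t : Matrix (Fin 3) (Fin 3) F) = !![-1, 0, 0; 0, 0, -1; 0, -1, 0]
  u_val : (u : Matrix (Fin 3) (Fin 3) F) = ((μ ^ 2 - μ) / 3) • !![1, 1, 1; 1, μ, μ ^ 2; 1, μ ^ 2, μ]
  v_val : (v : Matrix (Fin 3) (Fin 3) F) = ((μ ^ 2 - μ) / 3) • !![1, μ ^ 2, μ ^ 2; μ, μ, μ ^ 2; μ, μ ^ 2, μ]
  le_sl : M ≤ specialLinear (Fin 3) F
  p : ℕ
  prime : p.Prime
  charP : CharP F p
  seven_le : 7 ≤ p
  slope : ∀ x ∈ M, ∀ g ∈ M, ∀ Q : GL (Fin 3) F, ∀ a b c : F,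
    ((Q⁻¹ * x * Q : GL (Fin 3) F) : Matrix (Fin 3) (Fin 3) F) = !![1, 0, 0; 1, 1, 0; 0, 1, 1] →
    ((Q⁻¹ * g * Q : GL (Fin 3) F) : Matrix (Fin 3) (Fin 3) F) = !![a, 0, 0; b, a, 0; c, b, a] → ∃ n : ℕ, b = n * a
  noTv : ∀ w φ : Fin 3 → F, w ≠ 0 → HasTv M w φ → φ = 0
  mem_of_normalizes : ∀ g ∈ specialLinear (Fin 3) F, g * a * g⁻¹ ∈ Subgroup.closure {a, b} →
    g * b * g⁻¹ ∈ Subgroup.closure {a, b} → g ∈ M

namespace Setup

variable {F : Type*} [Field F] [Fintype F] (S : Setup F)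

/-- The extraspecial group. -/
def R : Subgroup (GL (Fin 3) F) := Subgroup.closure {S.a, S.b}

lemma fact : Fact S.p.Prime := ⟨S.prime⟩

lemma natCast_ne {m : ℕ} (h1 : 0 < m) (h2 : m < S.p) : (m : F) ≠ 0 := fun e => by
  haveI := S.charP
  have := Nat.le_of_dvd h1 ((CharP.cast_eq_zero_iff F S.p m).1 e)
  omega

include S in
lemma two : (2 : F) ≠ 0 := by
  have := S.seven_le
  exact_mod_cast S.natCast_ne two_pos (by omega)

lemma mu_cube : S.μ ^ 3 = 1 := S.prim.pow_eq_one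

lemma mu_ne : S.μ ≠ 0 := S.prim.ne_zero (by norm_num)

lemma mu_sum : 1 + S.μ + S.μ ^ 2 = 0 := by
  have := S.prim.geom_sum_eq_zero (by norm_num)
  rwa [Finset.sum_range_succ, Finset.sum_range_succ, Finset.sum_range_succ, Finset.sum_range_zero,
    zero_add, pow_zero, pow_one] at this

lemma mu_ne_one : S.μ ≠ 1 := S.prim.ne_one (by norm_num)

lemma mu_sub : S.μ ^ 2 - S.μ ≠ 0 := by
  rw [show S.μ ^ 2 - S.μ = S.μ * (S.μ - 1) by ring]
  exact mul_ne_zero S.mu_ne (sub_ne_zero.2 S.mu_ne_one)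

lemma det_eq {g : GL (Fin 3) F} (hg : g ∈ S.M) : (g : Matrix (Fin 3) (Fin 3) F).det = 1 :=
  mem_specialLinear.1 (S.le_sl hg)

lemma z_comm (g : GL (Fin 3) F) : S.z * g = g * S.z :=
  Units.ext (by rw [Units.val_mul, Units.val_mul, S.z_val, smul_mul_assoc, mul_smul_comm, one_mul, mul_one])

lemma z_pow_val (i : ℕ) : ((S.z ^ i : GL (Fin 3) F) : Matrix (Fin 3) (Fin 3) F) = S.μ ^ i • 1 := by
  rw [Units.val_pow_eq_pow_val, S.z_val, smul_pow, one_pow]

lemma z_pow_comm (i : ℕ) (g : GL (Fin 3) F) : S.z ^ i * g = g * S.z ^ i :=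
  Units.ext (by rw [Units.val_mul, Units.val_mul, z_pow_val, smul_mul_assoc, mul_smul_comm, one_mul, mul_one])

lemma z_cube : S.z ^ 3 = 1 := Units.ext (by rw [z_pow_val, S.mu_cube, one_smul, Units.val_one])

lemma a_mul_b : S.a * S.b = S.z * S.b * S.a := by
  have := S.mu_cube
  refine Units.ext ?_
  simp only [Units.val_mul, S.a_val, S.b_val, S.z_val]
  ext i j
  fin_cases i <;> fin_cases j <;> simp [Matrix.mul_apply, Fin.sum_univ_three, cycMat, Matrix.diagonal_apply] <;> grind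

lemma a_cube : S.a ^ 3 = 1 := by
  refine Units.ext ?_
  rw [Units.val_pow_eq_pow_val, S.a_val, Matrix.diagonal_pow, Units.val_one, ← Matrix.diagonal_one]
  congr 1
  funext i
  have := S.mu_cube
  fin_cases i <;> simp <;> grind

lemma b_cube : S.b ^ 3 = 1 := by
  refine Units.ext ?_
  rw [Units.val_pow_eq_pow_val, S.b_val]
  ext i j
  fin_cases i <;> fin_cases j <;> simp [pow_succ, Matrix.mul_apply, Fin.sum_univ_three, cycMat]

lemma t_sq : S.t * S.t = 1 := by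
  refine Units.ext ?_
  rw [Units.val_mul, S.t_val, Units.val_one]
  ext i j
  fin_cases i <;> fin_cases j <;> simp [Matrix.mul_apply, Fin.sum_univ_three]

lemma c_sq : ((S.μ ^ 2 - S.μ) / 3) ^ 2 * 3 = -1 := by
  have := S.mu_sum
  have := S.three
  field_simp
  grind

lemma u_sq : S.u * S.u = S.t := by
  refine Units.ext ?_
  have := S.mu_sum
  have := S.c_sq
  rw [Units.val_mul, S.u_val, S.t_val, smul_mul_assoc, mul_smul_comm, smul_smul]
  generalize (S.μ ^ 2 - S.μ) / 3 = c at *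
  ext i j
  fin_cases i <;> fin_cases j <;> simp [Matrix.mul_apply, Fin.sum_univ_three] <;> grind

lemma v_sq : S.v * S.v = S.t := by
  refine Units.ext ?_
  have := S.mu_sum
  have := S.c_sq
  rw [Units.val_mul, S.v_val, S.t_val, smul_mul_assoc, mul_smul_comm, smul_smul]
  generalize (S.μ ^ 2 - S.μ) / 3 = c at *
  ext i j
  fin_cases i <;> fin_cases j <;> simp [Matrix.mul_apply, Fin.sum_univ_three] <;> grind

lemma u_mul_v : S.u * S.v = S.t * (S.v * S.u) := by
  refine Units.ext ?_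
  have := S.mu_sum
  simp only [Units.val_mul, S.u_val, S.v_val, S.t_val, smul_mul_assoc, mul_smul_comm, smul_smul]
  generalize (S.μ ^ 2 - S.μ) / 3 = c at *
  ext i j
  fin_cases i <;> fin_cases j <;> simp [Matrix.mul_apply, Fin.sum_univ_three] <;> grind

lemma t_a : S.t * S.a = S.a ^ 2 * S.t := by
  refine Units.ext ?_
  have := S.mu_cube
  simp only [Units.val_mul, Units.val_pow_eq_pow_val, S.a_val, S.t_val, Matrix.diagonal_pow]
  ext i j
  fin_cases i <;> fin_cases j <;> simp [Matrix.mul_apply, Fin.sum_univ_three, Matrix.diagonal_apply] <;> grind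

lemma t_b : S.t * S.b = S.b ^ 2 * S.t := by
  refine Units.ext ?_
  simp only [Units.val_mul, Units.val_pow_eq_pow_val, S.b_val, S.t_val]
  ext i j
  fin_cases i <;> fin_cases j <;> simp [pow_two, Matrix.mul_apply, Fin.sum_univ_three, cycMat]

lemma a_val' : (S.a : Matrix (Fin 3) (Fin 3) F) = !![1, 0, 0; 0, S.μ, 0; 0, 0, S.μ ^ 2] := by
  rw [S.a_val]
  ext i j
  fin_cases i <;> fin_cases j <;> simp

lemma u_a : S.u * S.a = S.b ^ 2 * S.u := by
  refine Units.ext ?_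
  have := S.mu_cube
  simp only [Units.val_mul, Units.val_pow_eq_pow_val, S.u_val, S.a_val, S.b_val, smul_mul_assoc, mul_smul_comm]
  congr 1
  ext i j
  fin_cases i <;> fin_cases j <;>
    simp [pow_two, Matrix.mul_apply, Fin.sum_univ_three, cycMat, Matrix.diagonal_apply] <;> grind

lemma u_b : S.u * S.b = S.a * S.u := by
  refine Units.ext ?_
  have := S.mu_cube
  simp only [Units.val_mul, S.u_val, S.a_val, S.b_val, smul_mul_assoc, mul_smul_comm]
  congr 1
  ext i j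
  fin_cases i <;> fin_cases j <;>
    simp [pow_two, Matrix.mul_apply, Fin.sum_univ_three, cycMat, Matrix.diagonal_apply] <;> grind

lemma v_a : S.v * S.a = S.z * (S.b ^ 2 * S.a) * S.v := by
  refine Units.ext ?_
  have := S.mu_cube
  simp only [Units.val_mul, Units.val_pow_eq_pow_val, S.v_val, S.a_val', S.b_val, S.z_val, smul_mul_assoc,
    mul_smul_comm, one_mul]
  generalize (S.μ ^ 2 - S.μ) / 3 = c at *
  ext i j
  fin_cases i <;> fin_cases j <;>
    simp [pow_two, Matrix.mul_apply, Fin.sum_univ_three, cycMat] <;> grind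

lemma v_b : S.v * S.b = S.z ^ 2 * (S.b ^ 2 * S.a ^ 2) * S.v := by
  refine Units.ext ?_
  have := S.mu_cube
  simp only [Units.val_mul, Units.val_pow_eq_pow_val, S.v_val, S.a_val', S.b_val, S.z_val, smul_mul_assoc,
    mul_smul_comm, one_mul, smul_pow, one_pow]
  generalize (S.μ ^ 2 - S.μ) / 3 = c at *
  ext i j
  fin_cases i <;> fin_cases j <;>
    simp [pow_two, Matrix.mul_apply, Fin.sum_univ_three, cycMat] <;> grind

/-- The elements of the extraspecial group. -/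
def word (i j k : ℕ) : GL (Fin 3) F := S.z ^ i * (S.a ^ j * S.b ^ k)

lemma a_mem_R : S.a ∈ S.R := Subgroup.subset_closure (by simp)

lemma b_mem_R : S.b ∈ S.R := Subgroup.subset_closure (by simp)

lemma z_mem_R : S.z ∈ S.R := by
  have : S.z = S.a * S.b * S.a⁻¹ * S.b⁻¹ := by rw [S.a_mul_b]; group
  rw [this]
  exact mul_mem (mul_mem (mul_mem S.a_mem_R S.b_mem_R) (inv_mem S.a_mem_R)) (inv_mem S.b_mem_R)

lemma word_mem (i j k : ℕ) : S.word i j k ∈ S.R :=
  mul_mem (pow_mem S.z_mem_R i) (mul_mem (pow_mem S.a_mem_R j) (pow_mem S.b_mem_R k))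

lemma b_pow_a (k : ℕ) : S.b ^ k * S.a = S.z ^ (2 * k) * (S.a * S.b ^ k) := by
  induction k with
  | zero => simp
  | succ k ih =>
    have h1 : S.b * S.a = S.z ^ 2 * (S.a * S.b) := by
      rw [S.a_mul_b, mul_assoc S.z, ← mul_assoc (S.z ^ 2) S.z, ← pow_succ, S.z_cube, one_mul]
    rw [pow_succ S.b, mul_assoc, h1, ← mul_assoc (S.b ^ k), ← S.z_pow_comm, mul_assoc, ← mul_assoc (S.b ^ k), ih,
      mul_assoc (S.z ^ (2 * k)), ← mul_assoc (S.z ^ 2), ← pow_add, mul_assoc S.a, show 2 + 2 * k = 2 * (k + 1) by ring]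

lemma b_pow_a_pow (k j : ℕ) : S.b ^ k * S.a ^ j = S.z ^ (2 * k * j) * (S.a ^ j * S.b ^ k) := by
  induction j with
  | zero => simp
  | succ j ih =>
    rw [pow_succ S.a, ← mul_assoc, ih]
    calc S.z ^ (2 * k * j) * (S.a ^ j * S.b ^ k) * S.a
        = S.z ^ (2 * k * j) * (S.a ^ j * (S.b ^ k * S.a)) := by simp only [mul_assoc]
      _ = S.z ^ (2 * k * j) * ((S.a ^ j * S.z ^ (2 * k)) * (S.a * S.b ^ k)) := by
          rw [S.b_pow_a]; simp only [mul_assoc]
      _ = (S.z ^ (2 * k * j) * S.z ^ (2 * k)) * (S.a ^ j * S.a * S.b ^ k) := by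
          rw [← S.z_pow_comm]; simp only [mul_assoc]
      _ = _ := by rw [← pow_add, show 2 * k * j + 2 * k = 2 * k * (j + 1) by ring]

lemma word_mul (i j k i' j' k' : ℕ) :
    S.word i j k * S.word i' j' k' = S.word (i + i' + 2 * k * j') (j + j') (k + k') := by
  unfold word
  calc S.z ^ i * (S.a ^ j * S.b ^ k) * (S.z ^ i' * (S.a ^ j' * S.b ^ k'))
      = S.z ^ i * ((S.a ^ j * S.b ^ k) * S.z ^ i') * (S.a ^ j' * S.b ^ k') := by simp only [mul_assoc]
    _ = (S.z ^ i * S.z ^ i') * (S.a ^ j * (S.b ^ k * S.a ^ j') * S.b ^ k') := by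
        rw [← S.z_pow_comm]; simp only [mul_assoc]
    _ = (S.z ^ i * S.z ^ i') * ((S.a ^ j * S.z ^ (2 * k * j')) * (S.a ^ j' * (S.b ^ k * S.b ^ k'))) := by
        rw [S.b_pow_a_pow]; simp only [mul_assoc]
    _ = (S.z ^ i * S.z ^ i' * S.z ^ (2 * k * j')) * ((S.a ^ j * S.a ^ j') * (S.b ^ k * S.b ^ k')) := by
        rw [← S.z_pow_comm (2 * k * j') (S.a ^ j)]; simp only [mul_assoc]
    _ = _ := by simp only [← pow_add]

lemma word_mod (i j k : ℕ) : S.word i j k = S.word (i % 3) (j % 3) (k % 3) := by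
  unfold word
  rw [← pow_eq_pow_mod i S.z_cube, ← pow_eq_pow_mod j S.a_cube, ← pow_eq_pow_mod k S.b_cube]

lemma mem_R {g : GL (Fin 3) F} (hg : g ∈ S.R) : ∃ i j k, i < 3 ∧ j < 3 ∧ k < 3 ∧ g = S.word i j k := by
  suffices h : ∃ i j k, g = S.word i j k by
    obtain ⟨i, j, k, rfl⟩ := h
    exact ⟨i % 3, j % 3, k % 3, Nat.mod_lt _ (by norm_num), Nat.mod_lt _ (by norm_num), Nat.mod_lt _ (by norm_num),
      S.word_mod i j k⟩
  induction hg using Subgroup.closure_induction_left with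
  | one => exact ⟨0, 0, 0, by simp [word]⟩
  | mul_left x hx y _ ih =>
    obtain ⟨i, j, k, rfl⟩ := ih
    rcases hx with rfl | rfl
    · refine ⟨0 + i + 2 * 0 * j, 1 + j, 0 + k, ?_⟩
      rw [← S.word_mul]
      simp [word]
    · refine ⟨0 + i + 2 * 1 * j, 0 + j, 1 + k, ?_⟩
      rw [← S.word_mul]
      simp [word]
  | inv_mul_cancel x hx y _ ih =>
    obtain ⟨i, j, k, rfl⟩ := ih
    rcases hx with rfl | rfl
    · refine ⟨0 + i + 2 * 0 * j, 2 + j, 0 + k, ?_⟩
      rw [← S.word_mul, show S.a⁻¹ = S.a ^ 2 from inv_eq_of_mul_eq_one_right (by rw [← pow_succ', S.a_cube])]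
      simp [word]
    · refine ⟨0 + i + 2 * 2 * j, 0 + j, 2 + k, ?_⟩
      rw [← S.word_mul, show S.b⁻¹ = S.b ^ 2 from inv_eq_of_mul_eq_one_right (by rw [← pow_succ', S.b_cube])]
      simp [word]

lemma mem_sl_of_val {g : GL (Fin 3) F} (h : (g : Matrix (Fin 3) (Fin 3) F).det = 1) :
    g ∈ specialLinear (Fin 3) F := mem_specialLinear.2 h

lemma mem_M_of_rel {g x y : GL (Fin 3) F} (hd : (g : Matrix (Fin 3) (Fin 3) F).det = 1)
    (h1 : g * S.a = x * g) (h2 : g * S.b = y * g) (hx : x ∈ S.R) (hy : y ∈ S.R) : g ∈ S.M :=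
  S.mem_of_normalizes g (mem_sl_of_val hd) (by rw [h1, mul_inv_cancel_right]; exact hx)
    (by rw [h2, mul_inv_cancel_right]; exact hy)

lemma a_mem : S.a ∈ S.M := by
  refine S.mem_M_of_rel ?_ rfl S.a_mul_b S.a_mem_R (mul_mem S.z_mem_R S.b_mem_R)
  rw [S.a_val, Matrix.det_diagonal, Fin.prod_univ_three]
  have := S.mu_cube
  simp; grind

lemma b_mem : S.b ∈ S.M := by
  refine S.mem_M_of_rel ?_ (x := S.z ^ 2 * S.a) ?_ rfl (mul_mem (pow_mem S.z_mem_R 2) S.a_mem_R) S.b_mem_R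
  · rw [S.b_val, Matrix.det_fin_three]; simp [cycMat]
  · rw [S.a_mul_b.trans (mul_assoc _ _ _) |> fun h => (show S.z ^ 2 * S.a * S.b = S.b * S.a by
      rw [mul_assoc, h, ← mul_assoc, ← pow_succ, S.z_cube, one_mul])]

lemma R_le : S.R ≤ S.M := (Subgroup.closure_le _).2 (by
  rintro x (rfl | rfl)
  exacts [S.a_mem, S.b_mem])

lemma z_mem : S.z ∈ S.M := S.R_le S.z_mem_R

lemma t_mem : S.t ∈ S.M := by
  refine S.mem_M_of_rel ?_ S.t_a S.t_b (pow_mem S.a_mem_R 2) (pow_mem S.b_mem_R 2)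
  rw [S.t_val, Matrix.det_fin_three]; simp

lemma u_mem : S.u ∈ S.M := by
  refine S.mem_M_of_rel ?_ S.u_a S.u_b (pow_mem S.b_mem_R 2) S.a_mem_R
  rw [S.u_val, Matrix.det_smul, Fintype.card_fin, Matrix.det_fin_three]
  have := S.mu_sum
  have := S.c_sq
  have : (S.μ ^ 2 - S.μ) / 3 * 3 = S.μ ^ 2 - S.μ := div_mul_cancel₀ _ S.three
  generalize (S.μ ^ 2 - S.μ) / 3 = c at *
  simp
  grind

lemma v_mem : S.v ∈ S.M := by
  refine S.mem_M_of_rel ?_ S.v_a S.v_b (mul_mem S.z_mem_R (mul_mem (pow_mem S.b_mem_R 2) S.a_mem_R))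
    (mul_mem (pow_mem S.z_mem_R 2) (mul_mem (pow_mem S.b_mem_R 2) (pow_mem S.a_mem_R 2)))
  rw [S.v_val, Matrix.det_smul, Fintype.card_fin, Matrix.det_fin_three]
  have := S.mu_sum
  have := S.c_sq
  have : (S.μ ^ 2 - S.μ) / 3 * 3 = S.μ ^ 2 - S.μ := div_mul_cancel₀ _ S.three
  generalize (S.μ ^ 2 - S.μ) / 3 = c at *
  simp
  grind

/-- A scalar element of the overgroup is central of order dividing three. -/
lemma eq_z_pow {g : GL (Fin 3) F} (hg : g ∈ S.M) {c : F} (hc : (g : Matrix (Fin 3) (Fin 3) F) = c • 1) :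
    ∃ i < 3, g = S.z ^ i := by
  have h := S.det_eq hg
  rw [hc, Matrix.det_smul, Matrix.det_one, mul_one, Fintype.card_fin] at h
  obtain ⟨i, hi, hic⟩ := S.prim.eq_pow_of_pow_eq_one h
  exact ⟨i, hi, Units.ext (by rw [S.z_pow_val, hic, hc])⟩

end Setup

end CfsgLib.Geo.SL3.Hessian
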