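/-
The symmetries of the standard extraspecial group inside the overgroup.
-/
import Cfsg.Agent.Geo.SLThree.Hessian.Basic

set_option autoImplicit false
set_option linter.unusedSectionVars false

namespace CfsgLib.Geo.SL3.Hessian

open Matrix Cfsg Cfsg.Geo CfsgLib.Geo CfsgLib.Elusive

namespace Setup

variable {F : Type*} [Field F] [Fintype F] (S : Setup F)

lemma word_val (i j k : ℕ) (hk : k < 3) (r c : Fin 3) :
    ((S.word i j k : GL (Fin 3) F) : Matrix (Fin 3) (Fin 3) F) r c =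
      if r.val = (c.val + k) % 3 then S.μ ^ (i + j * r.val) else 0 := by
  unfold word
  rw [Units.val_mul, Units.val_mul, S.z_pow_val, smul_mul_assoc, one_mul, Units.val_pow_eq_pow_val,
    Units.val_pow_eq_pow_val, S.a_val, S.b_val, Matrix.diagonal_pow, Matrix.smul_apply, Matrix.diagonal_mul]
  interval_cases k <;> fin_cases r <;> fin_cases c <;>
    simp [cycMat, pow_two, Matrix.mul_apply, Fin.sum_univ_three, pow_add, ← pow_mul, mul_comm] <;>
    (left; rw [← pow_two, ← pow_mul, mul_comm])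

lemma word_inj {i j k i' j' k' : ℕ} (hj : j < 3) (hk : k < 3) (hj' : j' < 3) (hk' : k' < 3) (hi : i < 3)
    (hi' : i' < 3) (h : S.word i j k = S.word i' j' k') : i = i' ∧ j = j' ∧ k = k' := by
  have hv : ∀ r c : Fin 3, (if r.val = (c.val + k) % 3 then S.μ ^ (i + j * r.val) else 0) =
      if r.val = (c.val + k') % 3 then S.μ ^ (i' + j' * r.val) else 0 := fun r c => by
    rw [← S.word_val i j k hk, ← S.word_val i' j' k' hk', h]
  have hkk : k = k' := by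
    by_contra hne
    have := hv ⟨k, hk⟩ 0
    rw [if_pos (by simp [Nat.mod_eq_of_lt hk]), if_neg (by simp [Nat.mod_eq_of_lt hk']; omega)] at this
    exact pow_ne_zero _ S.mu_ne this
  subst hkk
  have e0 := hv ⟨k, hk⟩ 0
  rw [if_pos (by simp [Nat.mod_eq_of_lt hk]), if_pos (by simp [Nat.mod_eq_of_lt hk])] at e0
  have e1 := hv ⟨(1 + k) % 3, Nat.mod_lt _ (by norm_num)⟩ 1
  rw [if_pos (by simp), if_pos (by simp)] at e1
  have key : ∀ m n : ℕ, S.μ ^ m = S.μ ^ n → m % 3 = n % 3 := fun m n e => by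
    rw [pow_eq_pow_mod m S.mu_cube, pow_eq_pow_mod n S.mu_cube] at e
    exact S.prim.pow_inj (Nat.mod_lt _ (by norm_num)) (Nat.mod_lt _ (by norm_num)) e
  have h0 : (i + j * k) % 3 = (i' + j' * k) % 3 := key _ _ e0
  have h1 : (i + j * ((1 + k) % 3)) % 3 = (i' + j' * ((1 + k) % 3)) % 3 := key _ _ e1
  interval_cases k <;> interval_cases j <;> interval_cases j' <;> omega

lemma ne_scalar_of_word {i j k : ℕ} (h : j % 3 ≠ 0 ∨ k % 3 ≠ 0) (m : ℕ) : S.word i j k ≠ S.z ^ m := by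
  intro e
  have e' : S.word i j k = S.word m 0 0 := by rw [e]; simp [word]
  rw [S.word_mod i j k, S.word_mod m 0 0] at e'
  obtain ⟨-, h1, h2⟩ := S.word_inj (Nat.mod_lt _ (by norm_num)) (Nat.mod_lt _ (by norm_num))
    (Nat.mod_lt _ (by norm_num)) (Nat.mod_lt _ (by norm_num)) (Nat.mod_lt _ (by norm_num))
    (Nat.mod_lt _ (by norm_num)) e'
  simp at h1 h2
  omega

lemma z_eq_word (m : ℕ) : S.z ^ m = S.word m 0 0 := by simp [word]

lemma a_eq_word : S.a = S.word 0 1 0 := by simp [word]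

lemma b_eq_word : S.b = S.word 0 0 1 := by simp [word]

lemma not_scalar_a (m : ℕ) : S.a ≠ S.z ^ m := by
  rw [S.a_eq_word]; exact S.ne_scalar_of_word (Or.inl (by norm_num)) m

lemma diag_of_commute_a {g : GL (Fin 3) F} (h : g * S.a = S.a * g) {i j : Fin 3} (hij : i ≠ j) :
    (g : Matrix (Fin 3) (Fin 3) F) i j = 0 := by
  have e := congrFun (congrFun (congrArg (Units.val : GL (Fin 3) F → Matrix (Fin 3) (Fin 3) F) h) i) j
  rw [Units.val_mul, Units.val_mul, S.a_val, Matrix.mul_diagonal, Matrix.diagonal_mul] at e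
  have hv : ∀ l : Fin 3, (![1, S.μ, S.μ ^ 2] : Fin 3 → F) l = S.μ ^ (l : ℕ) := fun l => by fin_cases l <;> simp
  rw [hv, hv] at e
  have e' : (S.μ ^ (j : ℕ) - S.μ ^ (i : ℕ)) * (g : Matrix (Fin 3) (Fin 3) F) i j = 0 := by linear_combination e
  exact (mul_eq_zero.1 e').resolve_left (sub_ne_zero.2 fun e => hij (Fin.ext (S.prim.pow_inj j.isLt i.isLt e).symm))

lemma scalar_of_commute {g : GL (Fin 3) F} (ha : g * S.a = S.a * g) (hb : g * S.b = S.b * g) :
    ∃ c : F, (g : Matrix (Fin 3) (Fin 3) F) = c • 1 := by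
  have f := congrArg (Units.val : GL (Fin 3) F → Matrix (Fin 3) (Fin 3) F) hb
  rw [Units.val_mul, Units.val_mul, S.b_val] at f
  have h10 := congrFun (congrFun f 1) 0
  have h21 := congrFun (congrFun f 2) 1
  simp [cycMat, Matrix.mul_apply, Fin.sum_univ_three] at h10 h21
  refine ⟨(g : Matrix (Fin 3) (Fin 3) F) 0 0, ?_⟩
  ext i l
  by_cases hil : i = l
  · subst hil
    fin_cases i <;> simp [← h10, ← h21]
  · simp [S.diag_of_commute_a ha hil, hil]

lemma conj_pow_a (j : ℕ) : S.a ^ j * S.b = S.z ^ j * S.b * S.a ^ j := by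
  induction j with
  | zero => simp
  | succ j ih =>
    calc S.a ^ (j + 1) * S.b = S.a * (S.a ^ j * S.b) := by rw [pow_succ', mul_assoc]
      _ = (S.a * S.z ^ j) * S.b * S.a ^ j := by rw [ih]; simp only [mul_assoc]
      _ = S.z ^ j * (S.a * S.b) * S.a ^ j := by rw [← S.z_pow_comm j S.a]; simp only [mul_assoc]
      _ = (S.z ^ j * S.z) * S.b * (S.a * S.a ^ j) := by rw [S.a_mul_b]; simp only [mul_assoc]
      _ = _ := by rw [← pow_succ, ← pow_succ']

/-- An element inducing an inner automorphism modulo the centre is a multiple of an element of the group. -/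
lemma smul_R_of_central {g : GL (Fin 3) F} {i j : ℕ} (ha : g * S.a = S.z ^ i * S.a * g)
    (hb : g * S.b = S.z ^ j * S.b * g) :
    ∃ r ∈ S.R, ∃ c : F, (g : Matrix (Fin 3) (Fin 3) F) = c • (r : Matrix (Fin 3) (Fin 3) F) := by
  set r := S.a ^ j * S.b ^ (2 * i) with hr
  have hra : r * S.a = S.z ^ i * S.a * r := by
    have e : S.z ^ (2 * (2 * i)) = S.z ^ i :=
      (pow_eq_pow_mod (2 * (2 * i)) S.z_cube).trans ((congrArg (S.z ^ ·) (by omega)).trans
        (pow_eq_pow_mod i S.z_cube).symm)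
    calc r * S.a = S.a ^ j * (S.b ^ (2 * i) * S.a) := by rw [hr, mul_assoc]
      _ = (S.a ^ j * S.z ^ i) * (S.a * S.b ^ (2 * i)) := by rw [S.b_pow_a, e]; simp only [mul_assoc]
      _ = S.z ^ i * (S.a ^ j * S.a) * S.b ^ (2 * i) := by rw [← S.z_pow_comm i (S.a ^ j)]; simp only [mul_assoc]
      _ = _ := by rw [← pow_succ, pow_succ', hr]; simp only [mul_assoc]
  have hrb : r * S.b = S.z ^ j * S.b * r := by
    calc r * S.b = S.a ^ j * (S.b ^ (2 * i) * S.b) := by rw [hr, mul_assoc]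
      _ = (S.a ^ j * S.b) * S.b ^ (2 * i) := by rw [← pow_succ, pow_succ', mul_assoc]
      _ = _ := by rw [S.conj_pow_a, hr]; simp only [mul_assoc]
  have hc : ∀ (x : GL (Fin 3) F) (m : ℕ), g * x = S.z ^ m * x * g → r * x = S.z ^ m * x * r →
      r⁻¹ * g * x = x * (r⁻¹ * g) := fun x m h1 h2 => by
    rw [mul_assoc, h1, ← mul_assoc x, show x * r⁻¹ = r⁻¹ * (S.z ^ m * x) by
      rw [eq_inv_mul_iff_mul_eq, ← mul_assoc, h2, mul_inv_cancel_right]]
    simp only [mul_assoc]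
  obtain ⟨c, hc'⟩ := S.scalar_of_commute (hc _ _ ha hra) (hc _ _ hb hrb)
  refine ⟨r, mul_mem (pow_mem S.a_mem_R _) (pow_mem S.b_mem_R _), c, ?_⟩
  rw [show g = r * (r⁻¹ * g) by rw [mul_inv_cancel_left], Units.val_mul, hc', mul_smul_comm, mul_one]

lemma mem_R_of_central {g : GL (Fin 3) F} (hg : g ∈ S.M) {i j : ℕ} (ha : g * S.a = S.z ^ i * S.a * g)
    (hb : g * S.b = S.z ^ j * S.b * g) : g ∈ S.R := by
  obtain ⟨r, hr, c, hc⟩ := S.smul_R_of_central ha hb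
  have h1 : ((r⁻¹ * g : GL (Fin 3) F) : Matrix (Fin 3) (Fin 3) F) = c • 1 := by
    rw [Units.val_mul, hc, mul_smul_comm, Units.inv_mul]
  obtain ⟨m, -, hm⟩ := S.eq_z_pow (mul_mem (inv_mem (S.R_le hr)) hg) h1
  rw [show g = r * S.z ^ m by rw [← hm, mul_inv_cancel_left]]
  exact mul_mem hr (pow_mem S.z_mem_R m)

/-- The normaliser inside the overgroup. -/
def X : Subgroup (GL (Fin 3) F) := S.M ⊓ Subgroup.normalizer (S.R : Set (GL (Fin 3) F))

lemma R_le_X : S.R ≤ S.X := le_inf S.R_le Subgroup.le_normalizer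

lemma mem_X_of_rel {g x y : GL (Fin 3) F} (hg : g ∈ S.M) (h1 : g * S.a = x * g) (h2 : g * S.b = y * g)
    (hx : x ∈ S.R) (hy : y ∈ S.R) : g ∈ S.X :=
  ⟨hg, CfsgLib.Elusive.mem_normalizer_of_gen rfl (by rw [h1, mul_inv_cancel_right]; exact hx)
    (by rw [h2, mul_inv_cancel_right]; exact hy)⟩

lemma t_mem_X : S.t ∈ S.X :=
  S.mem_X_of_rel S.t_mem S.t_a S.t_b (pow_mem S.a_mem_R 2) (pow_mem S.b_mem_R 2)

lemma u_mem_X : S.u ∈ S.X :=
  S.mem_X_of_rel S.u_mem S.u_a S.u_b (pow_mem S.b_mem_R 2) S.a_mem_R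

lemma v_mem_X : S.v ∈ S.X :=
  S.mem_X_of_rel S.v_mem S.v_a S.v_b (mul_mem S.z_mem_R (mul_mem (pow_mem S.b_mem_R 2) S.a_mem_R))
    (mul_mem (pow_mem S.z_mem_R 2) (mul_mem (pow_mem S.b_mem_R 2) (pow_mem S.a_mem_R 2)))

lemma conj_mem_R {g x : GL (Fin 3) F} (hg : g ∈ S.X) (hx : x ∈ S.R) : g * x * g⁻¹ ∈ S.R :=
  (Subgroup.mem_normalizer_iff.1 hg.2 x).1 hx

/-- The action of a normalising element on the words. -/
lemma conj_word {g : GL (Fin 3) F} {c e f c' e' f' : ℕ} (ha : g * S.a = S.word c e f * g)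
    (hb : g * S.b = S.word c' e' f' * g) (i j k : ℕ) :
    ∃ m, g * S.word i j k * g⁻¹ = S.word m (j * e + k * e') (j * f + k * f') := by
  have hpow : ∀ (x : GL (Fin 3) F) (c e f : ℕ), g * x = S.word c e f * g →
      ∀ n, ∃ m, g * x ^ n * g⁻¹ = S.word m (n * e) (n * f) := fun x c e f h n => by
    induction n with
    | zero => exact ⟨0, by simp [word]⟩
    | succ n ih =>
      obtain ⟨m, hm⟩ := ih
      refine ⟨m + c + 2 * (n * f) * e, ?_⟩
      rw [pow_succ, show g * (x ^ n * x) * g⁻¹ = (g * x ^ n * g⁻¹) * (g * x * g⁻¹) by group, hm, h,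
        mul_inv_cancel_right, S.word_mul, add_mul, one_mul, add_mul, one_mul]
  obtain ⟨m1, h1⟩ := hpow _ _ _ _ ha j
  obtain ⟨m2, h2⟩ := hpow _ _ _ _ hb k
  refine ⟨i + (m1 + m2 + 2 * (j * f) * (k * e')) + 2 * 0 * (j * e + k * e'), ?_⟩
  rw [word, show g * (S.z ^ i * (S.a ^ j * S.b ^ k)) * g⁻¹ =
      (g * S.z ^ i) * g⁻¹ * ((g * S.a ^ j * g⁻¹) * (g * S.b ^ k * g⁻¹)) by group, ← S.z_pow_comm, mul_inv_cancel_right,
    h1, h2, S.word_mul, S.z_eq_word, S.word_mul, zero_add, zero_add]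

lemma u_rel : S.u * S.a = S.word 0 0 2 * S.u ∧ S.u * S.b = S.word 0 1 0 * S.u := by
  constructor
  · rw [S.u_a]; simp [word]
  · rw [S.u_b]; simp [word]

lemma t_rel : S.t * S.a = S.word 0 2 0 * S.t ∧ S.t * S.b = S.word 0 0 2 * S.t := by
  constructor
  · rw [S.t_a]; simp [word]
  · rw [S.t_b]; simp [word]

lemma v_rel : S.v * S.a = S.word 5 1 2 * S.v ∧ S.v * S.b = S.word 10 2 2 * S.v := by
  constructor
  · rw [S.v_a, S.z_comm]
    congr 1
    rw [show S.b ^ 2 * S.a = S.z ^ (2 * 2) * (S.a * S.b ^ 2) from S.b_pow_a 2, ← S.z_comm, word,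
      ← mul_assoc S.z, ← pow_succ', pow_one]
  · rw [S.v_b, S.b_pow_a_pow, word, ← mul_assoc (S.z ^ 2), ← pow_add]

/-- Every non-central element is conjugate to a given one modulo the centre. -/
lemma exists_conj_a {x : GL (Fin 3) F} (hx : x ∈ S.R) (hns : ∀ m, x ≠ S.z ^ m) :
    ∃ q ∈ S.X, ∃ m, q * x * q⁻¹ = S.z ^ m * S.a := by
  obtain ⟨i, j, k, hi, hj, hk, rfl⟩ := S.mem_R hx
  have hjk : j ≠ 0 ∨ k ≠ 0 := by
    by_contra h
    push Not at h
    exact hns i (by rw [h.1, h.2, ← S.z_eq_word])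
  have fin : ∀ m e f, e % 3 = 1 → f % 3 = 0 → ∃ n, S.word m e f = S.z ^ n * S.a := fun m e f h1 h2 => by
    refine ⟨m % 3, ?_⟩
    rw [S.word_mod m e f, h1, h2]; simp [word]
  have one : ∀ q ∈ S.X, ∀ c e f c' e' f', q * S.a = S.word c e f * q → q * S.b = S.word c' e' f' * q →
      (j * e + k * e') % 3 = 1 → (j * f + k * f') % 3 = 0 → ∃ q ∈ S.X, ∃ m, q * S.word i j k * q⁻¹ = S.z ^ m * S.a := by
    intro q hq c e f c' e' f' h1 h2 h3 h4
    obtain ⟨m, hm⟩ := S.conj_word h1 h2 i j k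
    obtain ⟨n, hn⟩ := fin m _ _ h3 h4
    exact ⟨q, hq, n, hm.trans hn⟩
  have comp : ∀ {g h : GL (Fin 3) F} {c e f c' e' f' d r s d' r' s' : ℕ}, g * S.a = S.word c e f * g →
      g * S.b = S.word c' e' f' * g → h * S.a = S.word d r s * h → h * S.b = S.word d' r' s' * h →
      (∃ n, g * h * S.a = S.word n (r * e + s * e') (r * f + s * f') * (g * h)) ∧
        ∃ n, g * h * S.b = S.word n (r' * e + s' * e') (r' * f + s' * f') * (g * h) := by
    intro g h c e f c' e' f' d r s d' r' s' h1 h2 h3 h4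
    constructor
    · obtain ⟨n, hn⟩ := S.conj_word h1 h2 d r s
      exact ⟨n, by rw [mul_assoc, h3, ← mul_assoc, ← hn]; group⟩
    · obtain ⟨n, hn⟩ := S.conj_word h1 h2 d' r' s'
      exact ⟨n, by rw [mul_assoc, h4, ← mul_assoc, ← hn]; group⟩
  obtain ⟨⟨n1, e1⟩, n2, e2⟩ := comp S.t_rel.1 S.t_rel.2 S.u_rel.1 S.u_rel.2
  obtain ⟨⟨n3, e3⟩, n4, e4⟩ := comp S.t_rel.1 S.t_rel.2 S.v_rel.1 S.v_rel.2
  obtain ⟨⟨n5, e5⟩, n6, e6⟩ := comp S.u_rel.1 S.u_rel.2 S.v_rel.1 S.v_rel.2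
  obtain ⟨⟨n7, e7⟩, n8, e8⟩ := comp S.t_rel.1 S.t_rel.2 e5 e6
  interval_cases j <;> interval_cases k
  · omega
  · exact one _ S.u_mem_X _ _ _ _ _ _ S.u_rel.1 S.u_rel.2 (by norm_num) (by norm_num)
  · exact one _ (mul_mem S.t_mem_X S.u_mem_X) _ _ _ _ _ _ e1 e2 (by norm_num) (by norm_num)
  · exact ⟨1, one_mem _, i, by simp [word]⟩
  · exact one _ (mul_mem S.u_mem_X S.v_mem_X) _ _ _ _ _ _ e5 e6 (by norm_num) (by norm_num)
  · exact one _ (mul_mem S.t_mem_X S.v_mem_X) _ _ _ _ _ _ e3 e4 (by norm_num) (by norm_num)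
  · exact one _ S.t_mem_X _ _ _ _ _ _ S.t_rel.1 S.t_rel.2 (by norm_num) (by norm_num)
  · exact one _ S.v_mem_X _ _ _ _ _ _ S.v_rel.1 S.v_rel.2 (by norm_num) (by norm_num)
  · exact one _ (mul_mem S.t_mem_X (mul_mem S.u_mem_X S.v_mem_X)) _ _ _ _ _ _ e7 e8 (by norm_num) (by norm_num)

/-- A normalised subgroup with a non-central element is everything. -/
lemma R_le_of_invariant {Q : Subgroup (GL (Fin 3) F)} (hQ : ∀ g ∈ S.X, ∀ x ∈ Q, g * x * g⁻¹ ∈ Q)
    {x : GL (Fin 3) F} (hxR : x ∈ S.R) (hxQ : x ∈ Q) (hns : ∀ m, x ≠ S.z ^ m) : S.R ≤ Q := by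
  obtain ⟨q, hq, m, hm⟩ := S.exists_conj_a hxR hns
  have h1 : S.z ^ m * S.a ∈ Q := hm ▸ hQ q hq x hxQ
  have hc : ∀ g ∈ S.R, g * (S.z ^ m * S.a) * g⁻¹ * (S.z ^ m * S.a)⁻¹ ∈ Q := fun g hg =>
    mul_mem (hQ g (S.R_le_X hg) _ h1) (inv_mem h1)
  have hz2 : S.z ^ 2 ∈ Q := by
    have := hc S.b S.b_mem_R
    rwa [show S.b * (S.z ^ m * S.a) * S.b⁻¹ * (S.z ^ m * S.a)⁻¹ = S.z ^ 2 by
      rw [← mul_assoc S.b, ← S.z_pow_comm m S.b, mul_assoc (S.z ^ m), show S.b * S.a = S.z ^ (2 * 1) * (S.a * S.b ^ 1) by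
        rw [← S.b_pow_a, pow_one], pow_one]
      rw [mul_one, mul_inv_eq_iff_eq_mul, mul_inv_eq_iff_eq_mul, ← mul_assoc (S.z ^ m), ← pow_add, ← mul_assoc (S.z ^ 2),
        ← pow_add, Nat.add_comm m 2]; simp only [mul_assoc]] at this
  have hz : ∀ n, S.z ^ n ∈ Q := fun n => by
    have : S.z ^ n = (S.z ^ 2) ^ (2 * n) := by
      rw [← pow_mul]
      exact ((pow_eq_pow_mod n S.z_cube).trans (congrArg (S.z ^ ·) (by omega))).trans
        (pow_eq_pow_mod (2 * (2 * n)) S.z_cube).symm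
    rw [this]; exact pow_mem hz2 _
  have ha : S.a ∈ Q := by
    have := mul_mem (inv_mem (hz m)) h1
    rwa [inv_mul_cancel_left] at this
  have hb : S.b ∈ Q := by
    have := hQ S.u S.u_mem_X S.a ha
    rw [S.u_a, mul_inv_cancel_right] at this
    have h4 := pow_mem this 2
    rwa [← pow_mul, show S.b ^ (2 * 2) = S.b by rw [show 2 * 2 = 3 + 1 from rfl, pow_succ, S.b_cube, one_mul]] at h4
  exact (Subgroup.closure_le _).2 (by
    rintro y (rfl | rfl)
    exacts [ha, hb])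

end Setup

end CfsgLib.Geo.SL3.Hessian
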