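/-
The order of the normaliser of the extraspecial group and the irreducibility of the frame.
-/
import Cfsg.Agent.Geo.SLThree.Hessian.Frame
import Mathlib.GroupTheory.Index

set_option autoImplicit false
set_option linter.unusedSectionVars false

namespace CfsgLib.Geo.SL3.Hessian

open Matrix Cfsg Cfsg.Geo CfsgLib.Geo

namespace Setup

variable {F : Type*} [Field F] [Fintype F] (S : Setup F)

/-- The diagonal element fixing the first generator. -/
def e : GL (Fin 3) F :=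
  Matrix.GeneralLinearGroup.mkOfDetNeZero (Matrix.diagonal ![1, S.μ, S.μ]) (by
    simp [Matrix.det_diagonal, Fin.prod_univ_three, S.mu_ne])

lemma e_val : (S.e : Matrix (Fin 3) (Fin 3) F) = Matrix.diagonal ![1, S.μ, S.μ] := rfl

lemma e_a : S.e * S.a = S.a * S.e := by
  refine Units.ext ?_
  rw [Units.val_mul, Units.val_mul, e_val, S.a_val, Matrix.diagonal_mul_diagonal, Matrix.diagonal_mul_diagonal]
  congr 1; funext i; ring

lemma e_b : S.e * S.b = S.word 2 2 1 * S.e := by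
  refine Units.ext ?_
  ext r c
  rw [Units.val_mul, Units.val_mul, e_val, Matrix.diagonal_mul, Matrix.mul_diagonal,
    S.word_val 2 2 1 (by norm_num), S.b_val]
  have := S.mu_cube
  fin_cases r <;> fin_cases c <;> simp [CfsgLib.Elusive.cycMat] <;> grind

lemma e_pow_b (n : ℕ) : S.e ^ n * S.b = S.z ^ (2 * n) * (S.a ^ (2 * n) * S.b) * S.e ^ n := by
  induction n with
  | zero => simp
  | succ n ih =>
    have hea : ∀ m : ℕ, S.e * S.a ^ m = S.a ^ m * S.e := fun m => (Commute.pow_right S.e_a m).eq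
    have hez : ∀ m : ℕ, S.e * S.z ^ m = S.z ^ m * S.e := fun m => (S.z_pow_comm m S.e).symm
    calc S.e ^ (n + 1) * S.b = S.e * (S.e ^ n * S.b) := by rw [pow_succ', mul_assoc]
      _ = (S.e * S.z ^ (2 * n)) * (S.a ^ (2 * n) * S.b) * S.e ^ n := by rw [ih]; simp only [mul_assoc]
      _ = S.z ^ (2 * n) * ((S.e * S.a ^ (2 * n)) * S.b) * S.e ^ n := by rw [hez]; simp only [mul_assoc]
      _ = S.z ^ (2 * n) * (S.a ^ (2 * n) * (S.e * S.b)) * S.e ^ n := by rw [hea]; simp only [mul_assoc]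
      _ = S.z ^ (2 * n) * ((S.a ^ (2 * n) * S.z ^ 2) * (S.a ^ 2 * S.b)) * (S.e * S.e ^ n) := by
          rw [S.e_b, word, pow_one]; simp only [mul_assoc]
      _ = (S.z ^ (2 * n) * S.z ^ 2) * ((S.a ^ (2 * n) * S.a ^ 2) * S.b) * (S.e * S.e ^ n) := by
          rw [← S.z_pow_comm 2 (S.a ^ (2 * n))]; simp only [mul_assoc]
      _ = _ := by rw [← pow_add, ← pow_add, ← pow_succ', show 2 * n + 2 = 2 * (n + 1) by ring]

/-- An element fixing the class of the first generator is in the group, or the characteristic is one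
modulo nine. -/
lemma mem_R_or_nine {g : GL (Fin 3) F} (hg : g ∈ S.X) {m : ℕ} (ha : g * S.a * g⁻¹ = S.z ^ m * S.a) :
    g ∈ S.R ∨ 9 ∣ Fintype.card F - 1 := by
  obtain ⟨i, j, k, hi, hj, hk, hb⟩ := S.mem_R (S.conj_mem_R hg S.b_mem_R)
  have hk1 : k = 1 := by
    have h1 : S.word m 1 0 * S.word i j k = S.word 1 0 0 * (S.word i j k * S.word m 1 0) := by
      have e1 : S.word m 1 0 = g * S.a * g⁻¹ := by rw [ha]; simp [word]
      rw [e1, ← hb, ← S.z_eq_word, pow_one,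
        show g * S.a * g⁻¹ * (g * S.b * g⁻¹) = g * (S.a * S.b) * g⁻¹ by group, S.a_mul_b,
        show g * (S.z * S.b * S.a) * g⁻¹ = (g * S.z) * g⁻¹ * (g * (S.b * S.a) * g⁻¹) by group, ← S.z_comm,
        mul_inv_cancel_right]
      group
    rw [S.word_mul, S.word_mul, S.word_mul, S.word_mod] at h1
    rw [S.word_mod (1 + _ + _)] at h1
    obtain ⟨h2, -, -⟩ := S.word_inj (Nat.mod_lt _ (by norm_num)) (Nat.mod_lt _ (by norm_num))
      (Nat.mod_lt _ (by norm_num)) (Nat.mod_lt _ (by norm_num)) (Nat.mod_lt _ (by norm_num))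
      (Nat.mod_lt _ (by norm_num)) h1
    omega
  subst hk1
  set g' := S.e ^ j * g with hg'
  have ha' : g' * S.a = S.z ^ m * S.a * g' := by
    have hea := (Commute.pow_left S.e_a j).eq
    calc g' * S.a = S.e ^ j * ((g * S.a * g⁻¹) * g) := by rw [hg']; group
      _ = (S.e ^ j * S.z ^ m) * S.a * g := by rw [ha]; simp only [mul_assoc]
      _ = S.z ^ m * (S.e ^ j * S.a) * g := by rw [← S.z_pow_comm m (S.e ^ j)]; simp only [mul_assoc]
      _ = _ := by rw [hea, hg']; simp only [mul_assoc]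
  have hb' : g' * S.b = S.z ^ (i + 2 * j) * S.b * g' := by
    have hea := (Commute.pow_left (Commute.pow_right S.e_a j) j).eq
    calc g' * S.b = S.e ^ j * ((g * S.b * g⁻¹) * g) := by rw [hg']; group
      _ = (S.e ^ j * S.z ^ i) * (S.a ^ j * S.b) * g := by rw [hb, word, pow_one]; simp only [mul_assoc]
      _ = S.z ^ i * (S.e ^ j * S.a ^ j) * S.b * g := by rw [← S.z_pow_comm i (S.e ^ j)]; simp only [mul_assoc]
      _ = S.z ^ i * S.a ^ j * (S.e ^ j * S.b) * g := by rw [hea]; simp only [mul_assoc]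
      _ = S.z ^ i * (S.a ^ j * S.z ^ (2 * j)) * (S.a ^ (2 * j) * S.b) * g' := by
          rw [S.e_pow_b, hg']; simp only [mul_assoc]
      _ = (S.z ^ i * S.z ^ (2 * j)) * (S.a ^ j * S.a ^ (2 * j)) * S.b * g' := by
          rw [← S.z_pow_comm (2 * j) (S.a ^ j)]; simp only [mul_assoc]
      _ = _ := by
          rw [← pow_add, ← pow_add, show j + 2 * j = 3 * j by ring, pow_mul, S.a_cube, one_pow, mul_one]
  obtain ⟨r, hr, c, hc⟩ := S.smul_R_of_central ha' hb'
  rcases Nat.eq_zero_or_pos j with rfl | hj0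
  · left
    have hgg : g' = g := by rw [hg', pow_zero, one_mul]
    rw [hgg] at ha' hb'
    exact S.mem_R_of_central hg.1 ha' hb'
  · right
    have hd : (c : F) ^ 3 = S.μ ^ (2 * j) := by
      have h1 := congrArg Matrix.det hc
      rw [Matrix.det_smul, S.det_eq (S.R_le hr), Fintype.card_fin, mul_one, hg', Units.val_mul, Matrix.det_mul,
        S.det_eq hg.1, mul_one, Units.val_pow_eq_pow_val, Matrix.det_pow, e_val, Matrix.det_diagonal,
        Fin.prod_univ_three] at h1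
      rw [← h1, pow_mul]
      simp
      ring
    have h3 : S.μ ^ (2 * j) ≠ 1 := fun e => by
      have := S.prim.eq_orderOf ▸ orderOf_dvd_of_pow_eq_one e
      omega
    have hc0 : c ≠ 0 := fun e => by
      rw [e, zero_pow three_ne_zero] at hd
      exact pow_ne_zero _ S.mu_ne hd.symm
    have ho : orderOf (Units.mk0 c hc0) = 3 ^ (1 + 1) := by
      haveI : Fact (Nat.Prime 3) := ⟨Nat.prime_three⟩
      refine orderOf_eq_prime_pow (fun e => h3 ?_) (Units.ext ?_)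
      · rw [← hd, ← Units.val_mk0 hc0, ← Units.val_pow_eq_pow_val, ← pow_one 3, e, Units.val_one]
      · rw [Units.val_pow_eq_pow_val, Units.val_mk0, Units.val_one, show 3 ^ (1 + 1) = 3 * 3 by norm_num, pow_mul, hd,
          ← pow_mul, mul_comm, pow_mul, S.mu_cube, one_pow]
    classical
    have := orderOf_dvd_natCard (Units.mk0 c hc0)
    rwa [ho, Nat.card_eq_fintype_card, Fintype.card_units] at this

/-- A diagonal symmetry of order nine. -/
lemma exists_y (h9 : 9 ∣ Fintype.card F - 1) : ∃ y ∈ S.M, ∃ d : F, d ^ 3 = S.μ ^ 2 ∧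
    (y : Matrix (Fin 3) (Fin 3) F) = Matrix.diagonal ![d, d * S.μ ^ 2, d * S.μ ^ 2] := by
  classical
  obtain ⟨ζ, hζ⟩ := IsCyclic.exists_ofOrder_eq_natCard (α := Fˣ)
  rw [Nat.card_eq_fintype_card, Fintype.card_units] at hζ
  obtain ⟨t, ht⟩ := h9
  have ho : orderOf (ζ ^ t) = 9 := by
    have hp : 1 < Fintype.card F := Fintype.one_lt_card
    rw [orderOf_pow' _ (by rintro rfl; omega), hζ, show Fintype.card F - 1 = 9 * t from ht,
      Nat.gcd_mul_left_left, Nat.mul_div_cancel _ (by rcases Nat.eq_zero_or_pos t with rfl | h; omega; exact h)]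
  obtain ⟨d, hd⟩ : ∃ d : F, d ^ 3 = S.μ ^ 2 := by
    set d : F := ((ζ ^ t : Fˣ) : F) with hdd
    have h9' : d ^ 9 = 1 := by rw [hdd, ← Units.val_pow_eq_pow_val, ← ho, pow_orderOf_eq_one, Units.val_one]
    have h3 : d ^ 3 ≠ 1 := fun e => by
      have : (ζ ^ t) ^ 3 = 1 := Units.ext (by rw [Units.val_pow_eq_pow_val, ← hdd, e, Units.val_one])
      have := orderOf_dvd_of_pow_eq_one this
      rw [ho] at this
      norm_num at this
    obtain ⟨i, hi, hid⟩ := S.prim.eq_pow_of_pow_eq_one (show (d ^ 3) ^ 3 = 1 by rw [← pow_mul]; exact h9')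
    interval_cases i
    · exact absurd (by simpa using hid.symm) h3
    · exact ⟨d ^ 2, by rw [← pow_mul, mul_comm, pow_mul, ← hid, pow_one]⟩
    · exact ⟨d, hid.symm⟩
  have hd0 : d ≠ 0 := fun e => by
    rw [e, zero_pow three_ne_zero] at hd
    exact pow_ne_zero _ S.mu_ne hd.symm
  let D : GL (Fin 3) F := Matrix.GeneralLinearGroup.mkOfDetNeZero (d • (1 : Matrix (Fin 3) (Fin 3) F))
    (by rw [Matrix.det_smul, Matrix.det_one, mul_one]; exact pow_ne_zero _ hd0)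
  have hD : (D : Matrix (Fin 3) (Fin 3) F) = d • 1 := rfl
  have hDc : ∀ g, D * g = g * D := fun g => Units.ext (by
    rw [Units.val_mul, Units.val_mul, hD, smul_mul_assoc, mul_smul_comm, one_mul, mul_one])
  have hval : ((D * S.e ^ 2 : GL (Fin 3) F) : Matrix (Fin 3) (Fin 3) F) =
      Matrix.diagonal ![d, d * S.μ ^ 2, d * S.μ ^ 2] := by
    rw [Units.val_mul, hD, Units.val_pow_eq_pow_val, e_val, Matrix.diagonal_pow, smul_mul_assoc, one_mul,
      ← Matrix.diagonal_smul]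
    congr 1
    funext i
    fin_cases i <;> simp
  refine ⟨D * S.e ^ 2, S.mem_M_of_rel ?_ (x := S.a) ?_ (y := S.z ^ (2 * 2) * (S.a ^ (2 * 2) * S.b)) ?_ S.a_mem_R
    (mul_mem (pow_mem S.z_mem_R _) (mul_mem (pow_mem S.a_mem_R _) S.b_mem_R)), d, hd, hval⟩
  · rw [hval, Matrix.det_diagonal, Fin.prod_univ_three]
    have := S.mu_cube
    simp
    grind
  · rw [mul_assoc, (Commute.pow_left S.e_a 2).eq, ← mul_assoc, hDc, mul_assoc]
  · rw [mul_assoc, S.e_pow_b, ← mul_assoc, hDc, mul_assoc]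

lemma eq_or_eq_of_inj {j j' k k' m m' : ℕ} (hj : j < 3) (hj' : j' < 3) (hk : k < 3) (hk' : k' < 3)
    (h : S.word m j k = S.word m' j' k') : j = j' ∧ k = k' := by
  rw [S.word_mod m j k, S.word_mod m' j' k'] at h
  obtain ⟨-, h1, h2⟩ := S.word_inj (Nat.mod_lt _ (by norm_num)) (Nat.mod_lt _ (by norm_num))
    (Nat.mod_lt _ (by norm_num)) (Nat.mod_lt _ (by norm_num)) (Nat.mod_lt _ (by norm_num))
    (Nat.mod_lt _ (by norm_num)) h
  omega

lemma card_R : Nat.card S.R = 27 := by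
  let f : Fin 3 × Fin 3 × Fin 3 → S.R := fun x => ⟨S.word x.1 x.2.1 x.2.2, S.word_mem _ _ _⟩
  rw [← Nat.card_congr (Equiv.ofBijective f ⟨fun x y h => ?_, fun x => ?_⟩)]
  · simp
  · obtain ⟨h1, h2, h3⟩ := S.word_inj x.2.1.isLt x.2.2.isLt y.2.1.isLt y.2.2.isLt x.1.isLt y.1.isLt
      (congrArg Subtype.val h)
    exact Prod.ext (Fin.ext h1) (Prod.ext (Fin.ext h2) (Fin.ext h3))
  · obtain ⟨i, j, k, hi, hj, hk, h⟩ := S.mem_R x.2
    exact ⟨⟨⟨i, hi⟩, ⟨j, hj⟩, ⟨k, hk⟩⟩, Subtype.ext h.symm⟩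

/-- Away from one modulo nine the normaliser has order 216. -/
lemma card_X (h9 : ¬ 9 ∣ Fintype.card F - 1) : Nat.card S.X = 216 := by
  classical
  have hcls : ∀ g : S.X, ∃ x : Fin 3 × Fin 3, x ≠ 0 ∧
      ∃ m, (g : GL (Fin 3) F) * S.a * (g : GL (Fin 3) F)⁻¹ = S.word m x.1 x.2 := by
    intro g
    obtain ⟨i, j, k, hi, hj, hk, h⟩ := S.mem_R (S.conj_mem_R g.2 S.a_mem_R)
    refine ⟨(⟨j, hj⟩, ⟨k, hk⟩), fun e => S.not_scalar_a i ?_, i, h⟩
    rw [Prod.mk_eq_zero] at e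
    have hj0 : j = 0 := congrArg Fin.val e.1
    have hk0 : k = 0 := congrArg Fin.val e.2
    rw [hj0, hk0, ← S.z_eq_word, mul_inv_eq_iff_eq_mul, S.z_pow_comm i (g : GL (Fin 3) F)] at h
    exact mul_left_cancel h
  set R' : Subgroup S.X := S.R.subgroupOf S.X
  have hR' : Nat.card R' = 27 := (Nat.card_congr (Subgroup.subgroupOfEquivOfLe S.R_le_X).toEquiv).trans S.card_R
  have hfix : ∀ r ∈ S.R, ∀ m j k, j < 3 → k < 3 → ∃ m', r * S.word m j k * r⁻¹ = S.word m' j k := by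
    intro r hr m j k hj hk
    obtain ⟨c, e, f, -, -, -, rfl⟩ := S.mem_R hr
    refine ⟨m + 2 * (f * j) + k * e, ?_⟩
    rw [mul_inv_eq_iff_eq_mul, S.word_mul, S.word_mul, Nat.add_comm e j, Nat.add_comm f k,
      S.word_mod (c + m + _), S.word_mod (_ + c + _)]
    congr 1
    rw [show 2 * f * j = 2 * (f * j) by ring, show 2 * k * e = 2 * (k * e) by ring]
    generalize f * j = A
    generalize k * e = B
    omega
  have hex : ∀ x : {x : Fin 3 × Fin 3 // x ≠ 0}, ∃ q : S.X, ∃ m,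
      (q : GL (Fin 3) F) * S.a * (q : GL (Fin 3) F)⁻¹ = S.word m x.1.1 x.1.2 := by
    intro x
    obtain ⟨q, hq, m, hm⟩ := S.exists_conj_a (S.word_mem 0 x.1.1 x.1.2) (fun n => S.ne_scalar_of_word (by
      rw [Nat.mod_eq_of_lt x.1.1.isLt, Nat.mod_eq_of_lt x.1.2.isLt]
      by_contra hcon
      push Not at hcon
      exact x.2 (Prod.ext (Fin.ext hcon.1) (Fin.ext hcon.2))) n)
    refine ⟨⟨q⁻¹, inv_mem hq⟩, 2 * m, ?_⟩
    show q⁻¹ * S.a * q⁻¹⁻¹ = _
    have ha : S.a = S.z ^ (2 * m) * (q * S.word 0 x.1.1 x.1.2 * q⁻¹) := by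
      rw [hm, ← mul_assoc, ← pow_add, show 2 * m + m = 3 * m by ring, pow_mul, S.z_cube, one_pow, one_mul]
    rw [ha, inv_inv, ← mul_assoc q⁻¹, ← S.z_pow_comm, word, word]
    simp only [pow_zero, one_mul, mul_assoc, inv_mul_cancel_left, inv_mul_cancel, mul_one]
  choose q mq hq using hex
  have hinj : ∀ x y : {x : Fin 3 × Fin 3 // x ≠ 0}, (q x)⁻¹ * q y ∈ R' → x = y := by
    intro x y h
    obtain ⟨r, hr, hr'⟩ : ∃ r ∈ S.R, (q y : GL (Fin 3) F) = (q x : GL (Fin 3) F) * r :=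
      ⟨_, h, by simp [mul_inv_cancel_left]⟩
    have e := hq y
    rw [hr', show (q x : GL (Fin 3) F) * r * S.a * ((q x : GL (Fin 3) F) * r)⁻¹ =
      (q x : GL (Fin 3) F) * (r * S.a * r⁻¹) * (q x : GL (Fin 3) F)⁻¹ by group] at e
    obtain ⟨m', hm'⟩ := hfix r hr 0 1 0 (by norm_num) (by norm_num)
    rw [← S.a_eq_word] at hm'
    rw [hm', show S.word m' 1 0 = S.z ^ m' * S.a by simp [word], ← mul_assoc (q x : GL (Fin 3) F),
      ← S.z_pow_comm, mul_assoc (S.z ^ m'), mul_assoc (S.z ^ m'), hq x, S.z_eq_word, S.word_mul, zero_add, zero_add] at e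
    obtain ⟨h1, h2⟩ := S.eq_or_eq_of_inj x.1.1.isLt y.1.1.isLt x.1.2.isLt y.1.2.isLt e
    exact Subtype.ext (Prod.ext (Fin.ext h1) (Fin.ext h2))
  have hbij : Function.Bijective fun x => ((q x : S.X) : S.X ⧸ R') := by
    refine ⟨fun x y h => hinj x y (QuotientGroup.eq.1 h), fun c => ?_⟩
    induction c using QuotientGroup.induction_on with
    | _ g =>
      obtain ⟨x, hx0, m, hm⟩ := hcls g
      refine ⟨⟨x, hx0⟩, QuotientGroup.eq.2 ?_⟩
      obtain ⟨n, hn⟩ : ∃ n, (g : GL (Fin 3) F) * S.a * (g : GL (Fin 3) F)⁻¹ =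
          S.z ^ n * ((q ⟨x, hx0⟩ : GL (Fin 3) F) * S.a * (q ⟨x, hx0⟩ : GL (Fin 3) F)⁻¹) := by
        refine ⟨m + 2 * mq ⟨x, hx0⟩, ?_⟩
        rw [hm, hq, S.z_eq_word, S.word_mul, zero_add, zero_add, S.word_mod m, S.word_mod (_ + _ + _)]
        congr 1
        rw [show 2 * 0 * (x.1 : ℕ) = 0 by ring]
        omega
      set w := (q ⟨x, hx0⟩ : GL (Fin 3) F)
      have e : w⁻¹ * (g : GL (Fin 3) F) * S.a * (w⁻¹ * (g : GL (Fin 3) F))⁻¹ = S.z ^ n * S.a := by
        rw [show w⁻¹ * (g : GL (Fin 3) F) * S.a * (w⁻¹ * (g : GL (Fin 3) F))⁻¹ =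
          w⁻¹ * ((g : GL (Fin 3) F) * S.a * (g : GL (Fin 3) F)⁻¹) * w by group, hn, ← mul_assoc w⁻¹, ← S.z_pow_comm]
        simp only [mul_assoc, inv_mul_cancel_left, inv_mul_cancel, mul_one]
      exact (S.mem_R_or_nine (mul_mem (inv_mem (q ⟨x, hx0⟩).2) g.2) e).resolve_right h9
  have h8 : Nat.card {x : Fin 3 × Fin 3 // x ≠ 0} = 8 := by
    rw [Nat.card_eq_fintype_card]
    rfl
  rw [Subgroup.card_eq_card_quotient_mul_card_subgroup R', ← Nat.card_congr (Equiv.ofBijective _ hbij), h8, hR']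

/-- Away from one modulo nine the group contains every element of three-power order normalising it. -/
lemma mem_R_of_three (h9 : ¬ 9 ∣ Fintype.card F - 1) {g : GL (Fin 3) F} (hg : g ∈ S.X) {n : ℕ} (ho : g ^ 3 ^ n = 1) :
    g ∈ S.R := by
  set R' : Subgroup S.X := S.R.subgroupOf S.X
  haveI : R'.Normal := ⟨fun x hx y => S.conj_mem_R y.2 hx⟩
  have h8 : Nat.card (S.X ⧸ R') = 8 := by
    have := Subgroup.card_eq_card_quotient_mul_card_subgroup R'
    rw [S.card_X h9, Nat.card_congr (Subgroup.subgroupOfEquivOfLe S.R_le_X).toEquiv, S.card_R] at this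
    omega
  have h1 : orderOf ((⟨g, hg⟩ : S.X) : S.X ⧸ R') ∣ 3 ^ n := orderOf_dvd_of_pow_eq_one (by
    rw [← QuotientGroup.mk_pow, QuotientGroup.eq_one_iff]
    show g ^ 3 ^ n ∈ S.R
    rw [ho]; exact one_mem _)
  have h2 : orderOf ((⟨g, hg⟩ : S.X) : S.X ⧸ R') ∣ 8 := h8 ▸ orderOf_dvd_natCard _
  have h3 : orderOf ((⟨g, hg⟩ : S.X) : S.X ⧸ R') = 1 :=
    Nat.eq_one_of_dvd_coprimes (Nat.Coprime.pow_left n (by norm_num : Nat.Coprime 3 8)) h1 h2
  exact (QuotientGroup.eq_one_iff (⟨g, hg⟩ : S.X)).1 (orderOf_eq_one_iff.1 h3)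

end Setup

end CfsgLib.Geo.SL3.Hessian
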