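/-
Elements of order the characteristic.
-/
import Cfsg.Agent.Geo.SLThree.Hessian.Normaliser
import Cfsg.Agent.Geo.SLThree.Hessian.Block

set_option autoImplicit false
set_option linter.unusedSectionVars false

namespace CfsgLib.Geo.SL3.Hessian

open Matrix Cfsg Cfsg.Geo CfsgLib.Geo

lemma exists_natCast {F : Type*} [Field F] [Fintype F] (h : (Fintype.card F).Prime) (c : F) : ∃ n : ℕ, c = n := by
  obtain ⟨r, hr⟩ := CharP.exists F
  obtain ⟨n, hr', hn⟩ := FiniteField.card F r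
  rw [hn] at h
  have hn1 : Fintype.card F = r := by rw [hn, Nat.Prime.eq_one_of_pow h, pow_one]
  have hb : Function.Bijective fun n : Fin r => ((n : ℕ) : F) := by
    refine (Fintype.bijective_iff_injective_and_card _).2 ⟨fun i j e => Fin.ext ?_, by simp [hn1]⟩
    have := (CharP.natCast_eq_natCast F r).1 e
    rwa [Nat.ModEq, Nat.mod_eq_of_lt i.isLt, Nat.mod_eq_of_lt j.isLt] at this
  obtain ⟨m, hm⟩ := hb.2 c
  exact ⟨m, hm.symm⟩

namespace Setup

variable {F : Type*} [Field F] [Fintype F] (S : Setup F)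

lemma eq_one_of_sq {g : GL (Fin 3) F} (hg : g ∈ S.M)
    (h : ((g : Matrix (Fin 3) (Fin 3) F) - 1) * ((g : Matrix (Fin 3) (Fin 3) F) - 1) = 0) : g = 1 := by
  by_contra hne
  set N := (g : Matrix (Fin 3) (Fin 3) F) - 1 with hN
  have hN0 : N ≠ 0 := fun e => hne (Units.ext (sub_eq_zero.1 e))
  obtain ⟨x, hx⟩ : ∃ x, N *ᵥ x ≠ 0 := by
    by_contra hcon
    push Not at hcon
    exact hN0 (Matrix.ext_iff_mulVec.2 fun x => by rw [hcon, Matrix.zero_mulVec])
  have hle : LinearMap.range N.mulVecLin ≤ LinearMap.ker N.mulVecLin := by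
    rintro _ ⟨y, rfl⟩
    rw [LinearMap.mem_ker, Matrix.mulVecLin_apply, Matrix.mulVecLin_apply, Matrix.mulVec_mulVec, h, Matrix.zero_mulVec]
  have hfin : Module.finrank F (LinearMap.range N.mulVecLin) = 1 := by
    have h1 := Submodule.finrank_mono hle
    have h2 := N.mulVecLin.finrank_range_add_finrank_ker
    rw [Module.finrank_fin_fun] at h2
    have h3 : Module.finrank F (LinearMap.range N.mulVecLin) ≠ 0 := fun e => hx (by
      have := LinearMap.mem_range_self N.mulVecLin x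
      rw [Submodule.finrank_eq_zero.1 e, Submodule.mem_bot, Matrix.mulVecLin_apply] at this
      exact this)
    omega
  obtain ⟨φ, hφ, hT⟩ := Orth4.hasTv_of_fix hg hx (by
      have : N *ᵥ (N *ᵥ x) = 0 := by rw [Matrix.mulVec_mulVec, h, Matrix.zero_mulVec]
      calc (g : Matrix (Fin 3) (Fin 3) F) *ᵥ (N *ᵥ x) = (N + 1) *ᵥ (N *ᵥ x) := by rw [hN, sub_add_cancel]
        _ = N *ᵥ x := by rw [Matrix.add_mulVec, this, zero_add, Matrix.one_mulVec])
    (fun y => by
      obtain ⟨c, hc⟩ := exists_smul_eq_of_finrank_eq_one hfin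
        (x := (⟨N *ᵥ x, x, rfl⟩ : LinearMap.range N.mulVecLin)) (fun e => hx (congrArg Subtype.val e))
        ⟨N *ᵥ y, y, rfl⟩
      refine ⟨c, ?_⟩
      have h1 : c • (N *ᵥ x) = N *ᵥ y := congrArg Subtype.val hc
      rw [h1, hN, Matrix.sub_mulVec, Matrix.one_mulVec, add_sub_cancel]) hne
  exact hφ (S.noTv _ φ hx hT)

lemma eq_one_of_p_blk {Q g : GL (Fin 3) F} (hg : g ∈ S.M) (hQ : g ∈ Blk Q) (hp : g ^ S.p = 1) : g = 1 := by
  haveI := S.fact
  haveI := S.charP
  refine S.eq_one_of_sq hg ?_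
  set A := inFrame Q g with hA
  have hval : ((g ^ S.p : GL (Fin 3) F) : Matrix (Fin 3) (Fin 3) F) = 1 := by rw [hp, Units.val_one]
  have hsq : (A - 1) * (A - 1) = 0 := by
    have hc : corner Q ⟨g, hQ⟩ = 1 := by
      have h1 : corner Q ⟨g, hQ⟩ ^ S.p = 1 := by
        rw [← map_pow, show (⟨g, hQ⟩ : Blk Q) ^ S.p = 1 from Subtype.ext hp, map_one]
      have h2 : (corner Q ⟨g, hQ⟩ - 1) ^ S.p = 0 := by rw [sub_pow_char, h1, one_pow, sub_self]
      exact sub_eq_zero.1 (eq_zero_of_pow_eq_zero h2)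
    have hn := sq_zero_of_nilpotent_two (isNilpotent_sub_one (p := S.p)
      (A := (eta Q ⟨g, hQ⟩ : Matrix (Fin 2) (Fin 2) F)) (by
        rw [← Units.val_pow_eq_pow_val, ← map_pow, show (⟨g, hQ⟩ : Blk Q) ^ S.p = 1 from Subtype.ext hp, map_one,
          Units.val_one]))
    rw [hA, inFrame_blk ⟨g, hQ⟩, hc]
    generalize (eta Q ⟨g, hQ⟩ : Matrix (Fin 2) (Fin 2) F) = B at hn
    have n00 := congrFun (congrFun hn 0) 0
    have n01 := congrFun (congrFun hn 0) 1
    have n10 := congrFun (congrFun hn 1) 0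
    have n11 := congrFun (congrFun hn 1) 1
    simp [Matrix.mul_apply, Fin.sum_univ_two] at n00 n01 n10 n11
    ext i j
    fin_cases i <;> fin_cases j <;> simp [Matrix.mul_apply, Fin.sum_univ_three] <;>
      first | linear_combination n00 | linear_combination n01 | linear_combination n10 | linear_combination n11
  have e : (g : Matrix (Fin 3) (Fin 3) F) - 1 =
      (Q : Matrix (Fin 3) (Fin 3) F) * (A - 1) * ((Q⁻¹ : GL (Fin 3) F) : Matrix (Fin 3) (Fin 3) F) := by
    rw [mul_sub, sub_mul, mul_one, Units.mul_inv, hA, inFrame, ← Units.val_mul, ← Units.val_mul,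
      show Q * (Q⁻¹ * g * Q) * Q⁻¹ = g by group]
  rw [e]
  simp only [mul_assoc, Units.inv_mul_cancel_left]
  rw [← mul_assoc (A - 1), hsq, zero_mul, mul_zero]

lemma not_dvd_card {Q : GL (Fin 3) F} {H : Subgroup (GL (Fin 3) F)} (hM : H ≤ S.M) (hQ : H ≤ Blk Q) :
    ¬ S.p ∣ Nat.card H := by
  haveI := S.fact
  intro h
  obtain ⟨g, hg⟩ := exists_prime_orderOf_dvd_card' S.p h
  have h1 : ((g : H) : GL (Fin 3) F) ^ S.p = 1 := by
    rw [← SubgroupClass.coe_pow, ← hg, pow_orderOf_eq_one, OneMemClass.coe_one]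
  have h2 := S.eq_one_of_p_blk (hM g.2) (hQ g.2) h1
  rw [show g = 1 from Subtype.ext h2, orderOf_one] at hg
  exact S.prime.ne_one hg.symm

set_option maxHeartbeats 1000000 in
/-- The centraliser of an element of order the characteristic. -/
lemma centraliser_p {x : GL (Fin 3) F} (hx : x ∈ S.M) (hxp : x ^ S.p = 1) (hx1 : x ≠ 1) {g : GL (Fin 3) F}
    (hg : g ∈ S.M) (hc : g * x = x * g) : ∃ i n : ℕ, g = S.z ^ i * x ^ n := by
  haveI := S.fact
  haveI := S.charP
  set N := (x : Matrix (Fin 3) (Fin 3) F) - 1 with hN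
  have hN3 : N ^ 3 = 0 := cube_zero_of_nilpotent (isNilpotent_sub_one (p := S.p) (by
    rw [← Units.val_pow_eq_pow_val, hxp, Units.val_one]))
  obtain ⟨v, hv⟩ : ∃ v, N *ᵥ (N *ᵥ v) ≠ 0 := by
    by_contra hcon
    push Not at hcon
    exact hx1 (S.eq_one_of_sq hx (Matrix.ext_iff_mulVec.2 fun v => by
      rw [← Matrix.mulVec_mulVec, hcon, Matrix.zero_mulVec]))
  have hN3v : N *ᵥ (N *ᵥ (N *ᵥ v)) = 0 := by
    rw [Matrix.mulVec_mulVec, Matrix.mulVec_mulVec, ← pow_two, ← pow_succ, hN3, Matrix.zero_mulVec]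
  let B : Matrix (Fin 3) (Fin 3) F := Matrix.of fun r c => ![v, N *ᵥ v, N *ᵥ (N *ᵥ v)] c r
  have hli : LinearIndependent F ![v, N *ᵥ v, N *ᵥ (N *ᵥ v)] := by
    refine Fintype.linearIndependent_iff.2 fun k hk => ?_
    rw [Fin.sum_univ_three] at hk
    have hk' : k 0 • v + k 1 • (N *ᵥ v) + k 2 • (N *ᵥ (N *ᵥ v)) = 0 := hk
    have h1 := congrArg (N *ᵥ ·) hk'
    have h2 := congrArg (N *ᵥ ·) h1
    simp only [Matrix.mulVec_add, Matrix.mulVec_smul, hN3v, smul_zero, add_zero, Matrix.mulVec_zero] at h1 h2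
    have e0 := (smul_eq_zero.1 h2).resolve_right hv
    rw [e0, zero_smul, zero_add] at h1
    have e1 := (smul_eq_zero.1 h1).resolve_right hv
    rw [e0, e1, zero_smul, zero_smul, zero_add, zero_add] at hk'
    have e2 := (smul_eq_zero.1 hk').resolve_right hv
    intro i
    fin_cases i
    exacts [e0, e1, e2]
  have hB : B.det ≠ 0 := IsUnit.ne_zero (by
    rw [← Matrix.isUnit_iff_isUnit_det, ← Matrix.linearIndependent_cols_iff_isUnit]
    exact hli)
  let Q : GL (Fin 3) F := Matrix.GeneralLinearGroup.mkOfDetNeZero B hB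
  let J : Matrix (Fin 3) (Fin 3) F := !![0, 0, 0; 1, 0, 0; 0, 1, 0]
  have hNB : N * B = B * J := by
    ext r c
    rw [Matrix.mul_apply]
    fin_cases c
    · show (N *ᵥ v) r = (B * J) r 0
      simp [Matrix.mul_apply, Fin.sum_univ_three, J, B]
    · show (N *ᵥ (N *ᵥ v)) r = (B * J) r 1
      simp [Matrix.mul_apply, Fin.sum_univ_three, J, B]
    · show (N *ᵥ (N *ᵥ (N *ᵥ v))) r = (B * J) r 2
      rw [hN3v]
      simp [Matrix.mul_apply, Fin.sum_univ_three, J, B]
  have hxQ : inFrame Q x = 1 + J := by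
    rw [inFrame, Units.val_mul, Units.val_mul, show (x : Matrix (Fin 3) (Fin 3) F) = 1 + N by rw [hN]; abel,
      mul_assoc, add_mul, one_mul, show N * (Q : Matrix (Fin 3) (Fin 3) F) = (Q : Matrix (Fin 3) (Fin 3) F) * J from hNB,
      mul_add, Units.inv_mul, ← mul_assoc, Units.inv_mul, one_mul]
  set A := inFrame Q g with hA
  have hAJ : A * J = J * A := by
    have e : inFrame Q g * inFrame Q x = inFrame Q x * inFrame Q g := by rw [← inFrame_mul, ← inFrame_mul, hc]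
    rw [hxQ, mul_add, add_mul, mul_one, one_mul] at e
    exact add_left_cancel e
  have a01 := congrFun (congrFun hAJ 0) 0
  have a02 := congrFun (congrFun hAJ 0) 1
  have a11 := congrFun (congrFun hAJ 1) 0
  have a12 := congrFun (congrFun hAJ 1) 1
  have a21 := congrFun (congrFun hAJ 2) 0
  have a22 := congrFun (congrFun hAJ 2) 1
  simp [J, Matrix.mul_apply, Fin.sum_univ_three] at a01 a02 a11 a12 a21 a22
  have hA' : A = !![A 0 0, 0, 0; A 1 0, A 0 0, 0; A 2 0, A 1 0, A 0 0] := by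
    ext i j
    fin_cases i <;> fin_cases j <;> simp <;> grind
  have hdet : A 0 0 ^ 3 = 1 := by
    have h1 := det_inFrame Q g
    rw [S.det_eq hg, ← hA, hA', Matrix.det_fin_three] at h1
    simp at h1
    linear_combination h1
  obtain ⟨i, -, hi⟩ := S.prim.eq_pow_of_pow_eq_one hdet
  have hxQ' : inFrame Q x = !![1, 0, 0; 1, 1, 0; 0, 1, 1] := by
    rw [hxQ]
    ext i j
    fin_cases i <;> fin_cases j <;> simp [J]
  obtain ⟨n', hn'⟩ := S.slope x hx g hg Q _ _ _ hxQ' (hA.symm.trans hA')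
  obtain ⟨m, hm⟩ : ∃ m : ℕ, -(A 1 0) / A 0 0 = m := by
    refine ⟨(S.p - 1) * n', ?_⟩
    have h0 : A 0 0 ≠ 0 := fun e => by simp [e] at hdet
    have e1 : A 1 0 = (n' : F) * A 0 0 := hn'
    have e2 : -A 1 0 / A 0 0 = -(n' : F) := by rw [e1, neg_div, mul_div_cancel_right₀ _ h0]
    rw [e2, Nat.cast_mul, Nat.cast_sub S.prime.one_lt.le, CharP.cast_eq_zero F S.p, Nat.cast_one]
    ring
  have hpowf : ∀ m : ℕ, ∃ c : F, inFrame Q (x ^ m) = !![1, 0, 0; (m : F), 1, 0; c, (m : F), 1] := by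
    intro m
    induction m with
    | zero =>
      refine ⟨0, ?_⟩
      rw [pow_zero, inFrame_one]
      ext i j
      fin_cases i <;> fin_cases j <;> simp
    | succ m ih =>
      obtain ⟨c, hc'⟩ := ih
      refine ⟨c + m, ?_⟩
      rw [pow_succ, inFrame_mul, hc', hxQ]
      ext i j
      fin_cases i <;> fin_cases j <;> simp [J, Matrix.mul_apply, Fin.sum_univ_three, Matrix.one_apply] <;> ring
  obtain ⟨γ, hγ⟩ := hpowf m
  have h0 : A 0 0 ≠ 0 := fun e => by simp [e] at hdet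
  have hw : (S.z ^ (2 * i)) * (g * x ^ m) = 1 := by
    refine S.eq_one_of_sq (mul_mem (pow_mem S.z_mem _) (mul_mem hg (pow_mem hx _))) ?_
    set w := S.z ^ (2 * i) * (g * x ^ m) with hw
    have hinv : S.μ ^ (2 * i) * A 0 0 = 1 := by
      rw [← hi, ← pow_add, show 2 * i + i = 3 * i by ring, pow_mul, S.mu_cube, one_pow]
    obtain ⟨δ, hδ⟩ : ∃ δ : F, inFrame Q w = !![1, 0, 0; 0, 1, 0; δ, 0, 1] := by
      refine ⟨S.μ ^ (2 * i) * (A 2 0 + A 1 0 * m + A 0 0 * γ), ?_⟩
      rw [hw, inFrame_mul, inFrame_scalar (S.z_pow_val _), inFrame_mul, hγ, ← hA, hA', smul_mul_assoc, one_mul]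
      have hm' : (m : F) * A 0 0 = -(A 1 0) := by rw [← hm, div_mul_cancel₀ _ h0]
      generalize (m : F) = mm at *
      generalize A 0 0 = a0, A 1 0 = a1, A 2 0 = a2, S.μ ^ (2 * i) = mu at *
      ext r s
      fin_cases r <;> fin_cases s <;> simp [Matrix.mul_apply, Fin.sum_univ_three] <;> grind
    have e : (w : Matrix (Fin 3) (Fin 3) F) - 1 =
        (Q : Matrix (Fin 3) (Fin 3) F) * (inFrame Q w - 1) * ((Q⁻¹ : GL (Fin 3) F) : Matrix (Fin 3) (Fin 3) F) := by
      rw [mul_sub, sub_mul, mul_one, Units.mul_inv, inFrame, ← Units.val_mul, ← Units.val_mul,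
        show Q * (Q⁻¹ * w * Q) * Q⁻¹ = w by group]
    rw [e]
    simp only [mul_assoc, Units.inv_mul_cancel_left]
    rw [← mul_assoc (inFrame Q w - 1), show (inFrame Q w - 1) * (inFrame Q w - 1) = 0 by
      rw [hδ]; ext r s; fin_cases r <;> fin_cases s <;> simp [Matrix.mul_apply, Fin.sum_univ_three], zero_mul, mul_zero]
  refine ⟨i, (S.p - 1) * m, ?_⟩
  have hxm : x ^ m * x ^ ((S.p - 1) * m) = 1 := by
    rw [← pow_add, show m + (S.p - 1) * m = S.p * m by
      obtain ⟨q, hq⟩ : ∃ q, S.p = q + 1 := ⟨S.p - 1, by have := S.seven_le; omega⟩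
      rw [hq, Nat.add_sub_cancel]; ring, pow_mul, hxp, one_pow]
  calc g = (S.z ^ i * S.z ^ (2 * i)) * g * (x ^ m * x ^ ((S.p - 1) * m)) := by
        rw [hxm, mul_one, ← pow_add, show i + 2 * i = 3 * i by ring, pow_mul, S.z_cube, one_pow, one_mul]
    _ = S.z ^ i * (S.z ^ (2 * i) * (g * x ^ m)) * x ^ ((S.p - 1) * m) := by simp only [mul_assoc]
    _ = _ := by rw [hw, mul_one]

end Setup

end CfsgLib.Geo.SL3.Hessian
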