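/-
An overgroup of the extraspecial group containing a transvection contains the special linear group.
-/
import Cfsg.Agent.Geo.SLThree.Plane
import Cfsg.Agent.Elusive.Heisenberg

set_option autoImplicit false
set_option linter.unusedSectionVars false

namespace CfsgLib.Geo.SL3.Hessian

open Matrix Cfsg Cfsg.Geo CfsgLib.Geo CfsgLib.Geo.SL3.Plane CfsgLib.Elusive

variable {F : Type*} [Field F] [Finite F]

/-- Contains the two generators in the standard frame. -/
structure HasFrame (μ : F) (M : Subgroup (GL (Fin 3) F)) : Prop where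
  prim : IsPrimitiveRoot μ 3
  three : (3 : F) ≠ 0
  a : ∃ a ∈ M, (a : Matrix (Fin 3) (Fin 3) F) = Matrix.diagonal ![1, μ, μ ^ 2]
  b : ∃ b ∈ M, (b : Matrix (Fin 3) (Fin 3) F) = cycMat F

variable {μ : F} {M : Subgroup (GL (Fin 3) F)}

lemma HasFrame.irred (h : HasFrame μ M) (W : Submodule F (Fin 3 → F))
    (hW : ∀ g ∈ M, ∀ x ∈ W, (g : Matrix (Fin 3) (Fin 3) F) *ᵥ x ∈ W) : W = ⊥ ∨ W = ⊤ := by
  classical
  rcases eq_or_ne W ⊥ with hbot | hbot
  · exact Or.inl hbot
  right
  obtain ⟨a, ha, hav⟩ := h.a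
  obtain ⟨b, hb, hbv⟩ := h.b
  obtain ⟨x, hx, hx0⟩ := W.exists_mem_ne_zero_of_ne_bot hbot
  obtain ⟨k, hk⟩ := Function.ne_iff.1 hx0
  have hsum : 1 + μ + μ ^ 2 = 0 := by
    have := h.prim.geom_sum_eq_zero (by norm_num)
    rwa [Finset.sum_range_succ, Finset.sum_range_succ, Finset.sum_range_succ, Finset.sum_range_zero,
      zero_add, pow_zero, pow_one] at this
  have h1 : (a : Matrix (Fin 3) (Fin 3) F) *ᵥ x ∈ W := hW a ha x hx
  have h2 : (a : Matrix (Fin 3) (Fin 3) F) *ᵥ ((a : Matrix (Fin 3) (Fin 3) F) *ᵥ x) ∈ W := hW a ha _ h1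
  set e : Fin 3 → (Fin 3 → F) := fun k =>
    x + μ ^ (2 * (k : ℕ)) • ((a : Matrix (Fin 3) (Fin 3) F) *ᵥ x) +
      μ ^ (k : ℕ) • ((a : Matrix (Fin 3) (Fin 3) F) *ᵥ ((a : Matrix (Fin 3) (Fin 3) F) *ᵥ x))
  have he : e k = (3 * x k) • (Pi.single k 1 : Fin 3 → F) := by
    have h3 : μ ^ 3 = 1 := h.prim.pow_eq_one
    funext l
    simp only [e, hav, Matrix.mulVec_diagonal, Pi.add_apply, Pi.smul_apply, smul_eq_mul]
    fin_cases k <;> fin_cases l <;> simp [Pi.single_apply] <;> grind
  have hek : (Pi.single k 1 : Fin 3 → F) ∈ W := by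
    have h4 : e k ∈ W := add_mem (add_mem hx (W.smul_mem _ h1)) (W.smul_mem _ h2)
    rw [he] at h4
    exact (Submodule.smul_mem_iff W (mul_ne_zero h.three hk)).1 h4
  have hstep : ∀ l : Fin 3, (Pi.single l 1 : Fin 3 → F) ∈ W → (Pi.single (l + 1) 1 : Fin 3 → F) ∈ W := by
    intro l hl
    have := hW b hb _ hl
    rwa [show (b : Matrix (Fin 3) (Fin 3) F) *ᵥ (Pi.single l 1 : Fin 3 → F) = Pi.single (l + 1) 1 by
      rw [hbv, Matrix.mulVec_single_one]
      funext r
      fin_cases l <;> fin_cases r <;> simp [cycMat, Pi.single_apply]] at this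
  have hall : ∀ l : Fin 3, (Pi.single l 1 : Fin 3 → F) ∈ W := fun l => by
    have a1 := hstep _ hek
    have a2 := hstep _ a1
    fin_cases k <;> fin_cases l <;> assumption
  rw [eq_top_iff]
  intro y _
  rw [pi_eq_sum_univ y]
  refine Submodule.sum_mem _ fun l _ => W.smul_mem _ ?_
  convert hall l using 1
  funext r
  simp [Pi.single_apply, eq_comm]

lemma HasFrame.dual (h : HasFrame μ M) : HasFrame μ (M.map Plane.dual) := by
  obtain ⟨a, ha, hav⟩ := h.a
  obtain ⟨b, hb, hbv⟩ := h.b
  have h3 : μ ^ 3 = 1 := h.prim.pow_eq_one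
  refine ⟨h.prim, h.three, ⟨Plane.dual (a * a), ⟨_, mul_mem ha ha, rfl⟩, ?_⟩, ⟨Plane.dual b, ⟨_, hb, rfl⟩, ?_⟩⟩
  · show (((a * a)⁻¹ : GL (Fin 3) F) : Matrix (Fin 3) (Fin 3) F)ᵀ = _
    have e : (a * a)⁻¹ = a := inv_eq_of_mul_eq_one_right (Units.ext (by
      rw [Units.val_mul, Units.val_mul, hav, Matrix.diagonal_mul_diagonal, Matrix.diagonal_mul_diagonal, Units.val_one,
        ← Matrix.diagonal_one]
      congr 1; funext i; fin_cases i <;> simp <;> grind))
    rw [e, hav, Matrix.diagonal_transpose]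
  · show ((b⁻¹ : GL (Fin 3) F) : Matrix (Fin 3) (Fin 3) F)ᵀ = _
    have e : b⁻¹ = b * b := inv_eq_of_mul_eq_one_right (Units.ext (by
      rw [Units.val_mul, Units.val_mul, hbv, Units.val_one]
      ext i j; fin_cases i <;> fin_cases j <;> simp [cycMat, Matrix.mul_apply, Fin.sum_univ_three]))
    rw [e, Units.val_mul, hbv]
    ext i j; fin_cases i <;> fin_cases j <;> simp [cycMat, Matrix.mul_apply, Fin.sum_univ_three]

lemma HasFrame.not_all_centres_on (h : HasFrame μ M) {P : Pt F} (hP : Centre M P) {L : Pt F}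
    (hall : ∀ U, Centre M U → Inc U L) : False := by
  rcases h.irred (Submodule.span F {x | ∃ U, Centre M U ∧ x = U.rep}) (fun g hg x hx => by
    induction hx using Submodule.span_induction with
    | mem x hx =>
      obtain ⟨U, hU, rfl⟩ := hx
      obtain ⟨c, -, hc⟩ := exists_rep_smul g U
      rw [hc]
      exact Submodule.smul_mem _ _ (Submodule.subset_span ⟨_, hU.move hg, rfl⟩)
    | zero => rw [Matrix.mulVec_zero]; exact zero_mem _
    | add _ _ _ _ h1 h2 => rw [Matrix.mulVec_add]; exact add_mem h1 h2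
    | smul c _ _ h1 => rw [Matrix.mulVec_smul]; exact Submodule.smul_mem _ _ h1) with h0 | h0
  · rw [Submodule.span_eq_bot] at h0
    exact P.rep_nonzero (h0 _ ⟨P, hP, rfl⟩)
  · have hle : ∀ x ∈ Submodule.span F {x | ∃ U, Centre M U ∧ x = U.rep}, L.rep ⬝ᵥ x = 0 := fun x hx => by
      induction hx using Submodule.span_induction with
      | mem x hx => obtain ⟨U, hU, rfl⟩ := hx; exact hall U hU
      | zero => simp
      | add _ _ _ _ h1 h2 => rw [dotProduct_add, h1, h2, add_zero]
      | smul c _ _ h1 => rw [dotProduct_smul, h1, smul_zero]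
    obtain ⟨l, hl⟩ := Function.ne_iff.1 L.rep_nonzero
    have := hle (Pi.single l 1) (h0 ▸ Submodule.mem_top)
    simp at this
    exact hl this

variable (hprime : ∀ c : F, ∃ n : ℕ, c = n)
include hprime

lemma hasTv_smul_of_prime {w φ : Fin 3 → F} (h : HasTv M w φ) (c : F) : HasTv M (c • w) φ := by
  obtain ⟨n, rfl⟩ := hprime c
  induction n with
  | zero => simpa using hasTv_zero_left M φ
  | succ n ih => rw [Nat.cast_succ, add_smul, one_smul]; exact ih.add_center h

lemma hasTv_axis_smul {w φ : Fin 3 → F} (h : HasTv M w φ) (c : F) : HasTv M w (c • φ) := by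
  rcases eq_or_ne c 0 with rfl | hc
  · rw [zero_smul]; exact hasTv_zero_right M w
  · rw [← hasTv_smul_iff c hc]; exact hasTv_smul_of_prime hprime h c

/-- A centre with two axes gives everything. -/
lemma sl_of_two_axes (hf : HasFrame μ M) {P L L' : Pt F} (h : Flag M P L) (h' : Flag M P L') (hne : L ≠ L') :
    specialLinear (Fin 3) F ≤ M := by
  obtain ⟨c, hc, h1⟩ := h
  obtain ⟨c', hc', h2⟩ := h'
  rw [hasTv_smul_iff c hc] at h1
  rw [hasTv_smul_iff c' hc'] at h2
  have hli : LinearIndependent F ![L.rep, L'.rep] := by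
    rw [LinearIndependent.pair_iff' L.rep_nonzero]
    intro a ha
    apply hne
    rw [← L.mk_rep, ← L'.mk_rep, Projectivization.mk_eq_mk_iff']
    have ha0 : a ≠ 0 := fun e => L'.rep_nonzero (by rw [← ha, e, zero_smul])
    exact ⟨a⁻¹, by rw [← ha, smul_smul, inv_mul_cancel₀ ha0, one_smul]⟩
  have hfull : FullAt M P.rep := by
    intro φ hφ
    let f : (Fin 3 → F) →ₗ[F] F :=
      { toFun := fun ψ => ψ ⬝ᵥ P.rep, map_add' := fun v w => add_dotProduct v w _
        map_smul' := fun c v => smul_dotProduct c v _ }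
    have hr : Module.finrank F (LinearMap.ker f) = 2 := by
      have h0 := f.finrank_range_add_finrank_ker
      have ht : LinearMap.range f = ⊤ := by
        obtain ⟨i, hi⟩ := Function.ne_iff.1 P.rep_nonzero
        refine LinearMap.range_eq_top.2 fun x => ⟨Pi.single i (x / P.rep i), ?_⟩
        show Pi.single i (x / P.rep i) ⬝ᵥ P.rep = x
        rw [single_dotProduct, div_mul_cancel₀ _ hi]
      rw [ht, finrank_top, Module.finrank_self, Module.finrank_fin_fun] at h0
      omega
    have e : Submodule.span F (Set.range ![L.rep, L'.rep]) = LinearMap.ker f := by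
      refine Submodule.eq_of_le_of_finrank_eq (Submodule.span_le.2 ?_) (by
        rw [finrank_span_eq_card hli, hr, Fintype.card_fin])
      rintro _ ⟨i, rfl⟩
      have a1 := h1.1
      have a2 := h2.1
      rw [smul_dotProduct, smul_eq_mul, mul_eq_zero] at a1 a2
      fin_cases i
      · exact a1.resolve_left hc
      · exact a2.resolve_left hc'
    have hmem : φ ∈ Submodule.span F (Set.range ![L.rep, L'.rep]) := by rw [e]; exact hφ
    obtain ⟨k, rfl⟩ := (Submodule.mem_span_range_iff_exists_fun F).1 hmem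
    rw [Fin.sum_univ_two]
    have a1 := hasTv_axis_smul hprime h1 (k 0 / c)
    have a2 := hasTv_axis_smul hprime h2 (k 1 / c')
    rw [smul_smul, div_mul_cancel₀ _ hc] at a1
    rw [smul_smul, div_mul_cancel₀ _ hc'] at a2
    exact a1.add_axis a2
  refine specialLinear_le_of_fullSubmodule ((hf.irred (fullSubmodule M) fun g hg x hx =>
    fullSubmodule_invariant hx hg).resolve_left fun e => P.rep_nonzero ?_)
  have : P.rep ∈ fullSubmodule M := hfull
  rwa [e, Submodule.mem_bot] at this

/-- A transvection gives everything. -/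
theorem sl_of_tv (hf : HasFrame μ M) {w φ : Fin 3 → F} (hw : w ≠ 0) (hφ : φ ≠ 0) (h : HasTv M w φ) :
    specialLinear (Fin 3) F ≤ M := by
  by_contra hsl
  have huniq : ∀ P L L', Flag M P L → Flag M P L' → L = L' := fun P L L' a b => by
    by_contra hne; exact hsl (sl_of_two_axes hprime hf a b hne)
  have huniq' : ∀ P P' L, Flag M P L → Flag M P' L → P = P' := fun P P' L a b => by
    by_contra hne
    exact hsl (sl_le_of_dual (sl_of_two_axes hprime hf.dual (flag_dual.2 a) (flag_dual.2 b) hne))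
  have hfl := flag_of_hasTv hw hφ h
  generalize Projectivization.mk F w hw = P, Projectivization.mk F φ hφ = L at hfl
  obtain ⟨U₀, hU₀, hU₀L⟩ : ∃ U, Centre M U ∧ ¬ Inc U L := by
    by_contra hcon
    push Not at hcon
    exact hf.not_all_centres_on ⟨L, hfl⟩ hcon
  obtain ⟨L', hP', hU'⟩ := exists_inc_both P U₀
  rw [inc_symm] at hP' hU'
  have hli : LinearIndependent F ![P.rep, U₀.rep] := by
    rw [LinearIndependent.pair_iff' P.rep_nonzero]
    intro a ha
    refine hU₀L ?_
    show L.rep ⬝ᵥ U₀.rep = 0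
    rw [← ha, dotProduct_smul, show L.rep ⬝ᵥ P.rep = 0 from hfl.inc, smul_zero]
  have hspan : ∀ W, Inc W L' → ∃ a b : F, W.rep = a • P.rep + b • U₀.rep := by
    intro W hW
    let f : (Fin 3 → F) →ₗ[F] F :=
      { toFun := fun x => L'.rep ⬝ᵥ x, map_add' := fun v w => dotProduct_add _ v w
        map_smul' := fun c v => dotProduct_smul c _ v }
    have hr : Module.finrank F (LinearMap.ker f) ≤ 2 := by
      by_contra hgt
      have h3 : LinearMap.ker f = ⊤ := Submodule.eq_top_of_finrank_eq (by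
        have := Submodule.finrank_le (LinearMap.ker f)
        rw [Module.finrank_fin_fun] at this ⊢
        omega)
      obtain ⟨i, hi⟩ := Function.ne_iff.1 L'.rep_nonzero
      have : (Pi.single i 1 : Fin 3 → F) ∈ LinearMap.ker f := h3 ▸ Submodule.mem_top
      simp [f] at this
      exact hi this
    have e : Submodule.span F (Set.range ![P.rep, U₀.rep]) = LinearMap.ker f := by
      refine Submodule.eq_of_le_of_finrank_le (Submodule.span_le.2 ?_) (by
        rw [finrank_span_eq_card hli, Fintype.card_fin]; exact hr)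
      rintro _ ⟨i, rfl⟩
      fin_cases i
      · exact hP'
      · exact hU'
    have hmem : W.rep ∈ Submodule.span F (Set.range ![P.rep, U₀.rep]) := by rw [e]; exact hW
    obtain ⟨k, hk⟩ := (Submodule.mem_span_range_iff_exists_fun F).1 hmem
    exact ⟨k 0, k 1, by rw [← hk, Fin.sum_univ_two]; rfl⟩
  have hcentre : ∀ W, Inc W L' → Centre M W := by
    intro W hW
    obtain ⟨a, b, hab⟩ := hspan W hW
    rcases eq_or_ne b 0 with rfl | hb
    · rw [zero_smul, add_zero] at hab
      have : W = P := by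
        rw [← W.mk_rep, ← P.mk_rep, Projectivization.mk_eq_mk_iff']
        exact ⟨a, hab.symm⟩
      exact this ▸ ⟨L, hfl⟩
    · obtain ⟨c, hc, hT⟩ := hfl
      set k := L.rep ⬝ᵥ U₀.rep with hk
      obtain ⟨hd, hm⟩ := hasTv_smul_of_prime hprime hT (a / (b * k * c))
      have hW' : W = tvec _ _ hd • U₀ := by
        rw [← W.mk_rep, smul_pt, Projectivization.mk_eq_mk_iff']
        refine ⟨b, ?_⟩
        rw [tvec_mulVec, ← hk, hab, smul_add, smul_smul, smul_smul, smul_smul, add_comm]
        congr 2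
        field_simp [hU₀L, hb, hc, show k ≠ 0 from hU₀L]
      exact hW' ▸ hU₀.move hm
  refine hf.not_all_centres_on (L := L') ⟨L, hfl⟩ fun U hU => ?_
  obtain ⟨LU, hLU⟩ := id hU
  obtain ⟨W, hW, hWU⟩ := exists_inc_both L' LU
  have := flag_of_inc (hcentre W hW) ⟨U, hLU⟩ hWU
  rwa [← huniq' W U LU this hLU]

end CfsgLib.Geo.SL3.Hessian
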