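/-
The overgroup has no non-central abelian normal subgroup.
-/
import Cfsg.Agent.Geo.SLThree.Hessian.PElem
import Cfsg.Agent.Geo.SLThree.Hessian.Diag
import Cfsg.Agent.Geo.SLThree.Hessian.Tv
import Mathlib.FieldTheory.IsAlgClosed.AlgebraicClosure
import Mathlib.GroupTheory.Perm.Basic

set_option autoImplicit false
set_option linter.unusedSectionVars false

namespace CfsgLib.Geo.SL3.Hessian

open Matrix Cfsg Cfsg.Geo CfsgLib.Geo

namespace Setup

variable {F : Type*} [Field F] [Fintype F] (S : Setup F)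

lemma hasFrame : HasFrame S.μ S.M := ⟨S.prim, S.three, ⟨S.a, S.a_mem, S.a_val⟩, ⟨S.b, S.b_mem, S.b_val⟩⟩

/-- The inclusion in the general linear group of the algebraic closure. -/
noncomputable def toK (_ : Setup F) : GL (Fin 3) F →* GL (Fin 3) (AlgebraicClosure F) :=
  Units.map (RingHom.mapMatrix (m := Fin 3) (algebraMap F (AlgebraicClosure F))).toMonoidHom

lemma toK_val (g : GL (Fin 3) F) : (S.toK g : Matrix (Fin 3) (Fin 3) (AlgebraicClosure F)) =
    (g : Matrix (Fin 3) (Fin 3) F).map (algebraMap F (AlgebraicClosure F)) := rfl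

lemma toK_injective : Function.Injective S.toK := fun g h e => Units.ext (by
  have := congrArg (Units.val : GL (Fin 3) (AlgebraicClosure F) → Matrix (Fin 3) (Fin 3) (AlgebraicClosure F)) e
  rw [toK_val, toK_val] at this
  exact Matrix.map_injective (algebraMap F (AlgebraicClosure F)).injective this)

lemma det_toK {g : GL (Fin 3) F} (hg : g ∈ S.M) :
    (S.toK g : Matrix (Fin 3) (Fin 3) (AlgebraicClosure F)).det = 1 := by
  rw [toK_val, ← RingHom.mapMatrix_apply, ← RingHom.map_det, S.det_eq hg, map_one]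

/-- A commutative subgroup of order prime to the characteristic is diagonal over the closure. -/
lemma exists_diag_frame {A : Subgroup (GL (Fin 3) F)} (hp : ¬ S.p ∣ Nat.card A)
    (hc : ∀ x ∈ A, ∀ y ∈ A, x * y = y * x) :
    ∃ (P : GL (Fin 3) (AlgebraicClosure F)) (χ : GL (Fin 3) F → Fin 3 → AlgebraicClosure F),
      ∀ x ∈ A, inFrame P (S.toK x) = Matrix.diagonal (χ x) := by
  classical
  haveI := S.fact
  haveI := S.charP
  haveI : CharP (AlgebraicClosure F) S.p := charP_of_injective_algebraMap (algebraMap F (AlgebraicClosure F)).injective _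
  obtain ⟨P, hP⟩ := exists_diag
    ((fun x : GL (Fin 3) F => (S.toK x : Matrix (Fin 3) (Fin 3) (AlgebraicClosure F))) '' A)
    (by
      rintro _ ⟨x, hx, rfl⟩ _ ⟨y, hy, rfl⟩
      rw [← Units.val_mul, ← Units.val_mul, ← map_mul, ← map_mul, hc x hx y hy])
    (by
      rintro _ ⟨x, hx, rfl⟩
      refine ⟨Nat.card A, fun e => hp ((CharP.cast_eq_zero_iff (AlgebraicClosure F) S.p _).1 e), ?_⟩
      have h1 : (⟨x, hx⟩ : A) ^ Nat.card A = 1 := pow_card_eq_one'
      have h2 : x ^ Nat.card A = 1 := congrArg Subtype.val h1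
      rw [← Units.val_pow_eq_pow_val, ← map_pow, h2, map_one, Units.val_one])
  have : ∀ x, ∃ χ : Fin 3 → AlgebraicClosure F, x ∈ A → inFrame P (S.toK x) = Matrix.diagonal χ := by
    intro x
    by_cases hx : x ∈ A
    · obtain ⟨χ, hχ⟩ := hP _ ⟨x, hx, rfl⟩
      exact ⟨χ, fun _ => by rw [inFrame, Units.val_mul, Units.val_mul, mul_assoc, hχ, ← mul_assoc, Units.inv_mul, one_mul]⟩
    · exact ⟨0, fun h => absurd h hx⟩
  choose χ hχ using this
  exact ⟨P, χ, hχ⟩

/-- A conjugate inside a diagonal group permutes the characters. -/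
lemma exists_char_of_conj {P : GL (Fin 3) (AlgebraicClosure F)} {A : Subgroup (GL (Fin 3) F)}
    {χ : GL (Fin 3) F → Fin 3 → AlgebraicClosure F} (hχ : ∀ x ∈ A, inFrame P (S.toK x) = Matrix.diagonal (χ x))
    {n : GL (Fin 3) F} (hn : ∀ x ∈ A, n * x * n⁻¹ ∈ A) (j : Fin 3) :
    ∃ i, ∀ x ∈ A, χ (n * x * n⁻¹) i = χ x j := by
  obtain ⟨i, hi⟩ : ∃ i, inFrame P (S.toK n) i j ≠ 0 := by
    by_contra hcon
    push Not at hcon
    have hd : (inFrame P (S.toK n)).det = 0 := Matrix.det_eq_zero_of_column_eq_zero j hcon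
    rw [det_inFrame] at hd
    exact (Matrix.GeneralLinearGroup.det (S.toK n)).ne_zero hd
  refine ⟨i, fun x hx => ?_⟩
  have e : inFrame P (S.toK n) * inFrame P (S.toK x) = inFrame P (S.toK (n * x * n⁻¹)) * inFrame P (S.toK n) := by
    rw [← inFrame_mul, ← inFrame_mul, ← map_mul, ← map_mul, inv_mul_cancel_right]
  rw [hχ x hx, hχ _ (hn x hx)] at e
  have h := congrFun (congrFun e i) j
  rw [Matrix.mul_diagonal, Matrix.diagonal_mul, mul_comm] at h
  exact (mul_right_cancel₀ hi h).symm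

lemma eq_of_char {P : GL (Fin 3) (AlgebraicClosure F)} {A : Subgroup (GL (Fin 3) F)}
    {χ : GL (Fin 3) F → Fin 3 → AlgebraicClosure F} (hχ : ∀ x ∈ A, inFrame P (S.toK x) = Matrix.diagonal (χ x))
    {x y : GL (Fin 3) F} (hx : x ∈ A) (hy : y ∈ A) (h : χ x = χ y) : x = y :=
  S.toK_injective (inFrame_injective P (by rw [hχ x hx, hχ y hy, h]))

set_option maxHeartbeats 1000000 in
/-- An abelian normal subgroup is central. -/
theorem normal_abelian_central {A : Subgroup (GL (Fin 3) F)} (hA : A ≤ S.M)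
    (hn : ∀ g ∈ S.M, ∀ x ∈ A, g * x * g⁻¹ ∈ A) (hc : ∀ x ∈ A, ∀ y ∈ A, x * y = y * x) :
    ∀ x ∈ A, ∃ i, x = S.z ^ i := by
  classical
  haveI := S.fact
  intro x hx
  by_contra hns
  push Not at hns
  have hp : ¬ S.p ∣ Nat.card A := by
    intro hdvd
    obtain ⟨⟨w, hw⟩, hwo⟩ := exists_prime_orderOf_dvd_card' S.p hdvd
    rw [← Subgroup.orderOf_coe] at hwo
    replace hwo : orderOf w = S.p := hwo
    have hwp : w ^ S.p = 1 := by rw [← hwo, pow_orderOf_eq_one]
    have hw1 : w ≠ 1 := fun e => S.prime.ne_one (by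
      rw [e, orderOf_one] at hwo
      exact hwo.symm)
    let W : Submodule F (Fin 3 → F) :=
      { carrier := {v | (w : Matrix (Fin 3) (Fin 3) F) *ᵥ v = v}
        add_mem' := fun {a b} ha hb => by
          show _ *ᵥ (a + b) = a + b
          rw [Matrix.mulVec_add, ha, hb]
        zero_mem' := Matrix.mulVec_zero _
        smul_mem' := fun c {a} ha => by
          show _ *ᵥ (c • a) = c • a
          rw [Matrix.mulVec_smul, ha] }
    have hW : ∀ g ∈ S.M, ∀ v ∈ W, (g : Matrix (Fin 3) (Fin 3) F) *ᵥ v ∈ W := by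
      intro g hg v hv
      obtain ⟨i, n, hin⟩ := S.centraliser_p (hA hw) hwp hw1 (hA (hn g⁻¹ (inv_mem hg) w hw)) (hc _ (hn g⁻¹ (inv_mem hg) w hw) w hw)
      have h3 : g⁻¹ * w ^ 3 * g = w ^ (3 * n) := by
        rw [show g⁻¹ * w ^ 3 * g = (g⁻¹ * w * g⁻¹⁻¹) ^ 3 by rw [conj_pow, inv_inv], hin,
          Commute.mul_pow (S.z_pow_comm i _), ← pow_mul, ← pow_mul, mul_comm i, pow_mul, S.z_cube, one_pow, one_mul,
          mul_comm]
      have hwv : ∀ m, ((w ^ m : GL (Fin 3) F) : Matrix (Fin 3) (Fin 3) F) *ᵥ v = v := by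
        intro m
        induction m with
        | zero => rw [pow_zero, Units.val_one, Matrix.one_mulVec]
        | succ m ih => rw [pow_succ, mul_mulVec, hv, ih]
      have hfix : ((w ^ 3 : GL (Fin 3) F) : Matrix (Fin 3) (Fin 3) F) *ᵥ ((g : Matrix (Fin 3) (Fin 3) F) *ᵥ v) =
          (g : Matrix (Fin 3) (Fin 3) F) *ᵥ v := by
        rw [← mul_mulVec, show w ^ 3 * g = g * (g⁻¹ * w ^ 3 * g) by group, h3, mul_mulVec, hwv]
      obtain ⟨m, hm⟩ : ∃ m, (w ^ 3) ^ m = w := by
        have hco : Nat.Coprime 3 (orderOf w) := by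
          rw [hwo]
          exact (Nat.coprime_primes Nat.prime_three S.fact.out).2 (by have := S.seven_le; omega)
        exact exists_pow_eq_self_of_coprime hco
      show (w : Matrix (Fin 3) (Fin 3) F) *ᵥ ((g : Matrix (Fin 3) (Fin 3) F) *ᵥ v) = (g : Matrix (Fin 3) (Fin 3) F) *ᵥ v
      conv_lhs => rw [← hm]
      clear hm
      induction m with
      | zero => rw [pow_zero, Units.val_one, Matrix.one_mulVec]
      | succ m ih => rw [pow_succ, mul_mulVec, hfix, ih]
    rcases S.hasFrame.irred W hW with h0 | h0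
    · have hnil : IsNilpotent ((w : Matrix (Fin 3) (Fin 3) F) - 1) := by
        haveI := S.charP
        exact isNilpotent_sub_one (p := S.p) (by rw [← Units.val_pow_eq_pow_val, hwp, Units.val_one])
      obtain ⟨n, hn'⟩ := hnil
      have hdet : ((w : Matrix (Fin 3) (Fin 3) F) - 1).det = 0 := by
        have := congrArg Matrix.det hn'
        rw [Matrix.det_pow, Matrix.det_zero] at this
        exact eq_zero_of_pow_eq_zero this
      obtain ⟨v, hv0, hv⟩ := Matrix.exists_mulVec_eq_zero_iff.2 hdet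
      refine hv0 ?_
      have : v ∈ W := by
        show _ *ᵥ v = v
        rwa [Matrix.sub_mulVec, Matrix.one_mulVec, sub_eq_zero] at hv
      rwa [h0, Submodule.mem_bot] at this
    · exact hw1 (Units.ext (Matrix.ext_iff_mulVec.2 fun v => by
        rw [Units.val_one, Matrix.one_mulVec]
        exact (h0 ▸ Submodule.mem_top : v ∈ W)))
  obtain ⟨P, χ, hχ⟩ := S.exists_diag_frame hp hc
  let C : Set (A → AlgebraicClosure F) := Set.range fun j : Fin 3 => fun y : A => χ y j
  letI act : MulAction S.R (A → AlgebraicClosure F) :=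
    { smul := fun r f y => f ⟨(r : GL (Fin 3) F)⁻¹ * y * (r : GL (Fin 3) F), by
        simpa using hn _ (inv_mem (S.R_le r.2)) y y.2⟩
      one_smul := fun f => funext fun y => congrArg f (Subtype.ext (by simp))
      mul_smul := fun r s f => funext fun y => congrArg f (Subtype.ext (by simp [mul_assoc])) }
  let T : SubMulAction S.R (A → AlgebraicClosure F) :=
    { carrier := C
      smul_mem' := by
        rintro r _ ⟨j, rfl⟩
        obtain ⟨i, hi⟩ := S.exists_char_of_conj hχ (n := (r : GL (Fin 3) F)) (fun y hy => hn _ (S.R_le r.2) y hy) j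
        refine ⟨i, funext fun y => ?_⟩
        show χ y i = χ _ j
        have := hi ((r : GL (Fin 3) F)⁻¹ * y * (r : GL (Fin 3) F))
          (by simpa using hn _ (inv_mem (S.R_le r.2)) y y.2)
        rwa [show (r : GL (Fin 3) F) * ((r : GL (Fin 3) F)⁻¹ * y * (r : GL (Fin 3) F)) * (r : GL (Fin 3) F)⁻¹ = y by group]
          at this }
  haveI : Finite T := (Set.finite_range _).to_subtype
  haveI := Fintype.ofFinite T
  have hT : Nat.card T ≤ 3 := by
    refine (Nat.card_le_card_of_surjective (fun j : Fin 3 => (⟨_, j, rfl⟩ : T)) ?_).trans (by simp)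
    rintro ⟨_, j, rfl⟩
    exact ⟨j, rfl⟩
  set σ := MulAction.toPermHom S.R T
  have h6 : Nat.card σ.range ∣ 6 := by
    refine (Subgroup.card_subgroup_dvd_card _).trans ?_
    rw [Nat.card_perm]
    exact (Nat.factorial_dvd_factorial hT).trans (by decide)
  have h27 : Nat.card σ.range ∣ 27 := S.card_R ▸ Subgroup.card_range_dvd σ
  have hker : Nat.card σ.range * Nat.card σ.ker = 27 := by
    rw [← Subgroup.index_ker, mul_comm, σ.ker.card_mul_index, S.card_R]
  have hr3 : Nat.card σ.range ≤ 3 := Nat.le_of_dvd (by norm_num) ((Nat.dvd_gcd h6 h27).trans (by decide))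
  obtain ⟨r, hr, hrns⟩ : ∃ r ∈ σ.ker, ∀ m, (r : GL (Fin 3) F) ≠ S.z ^ m := by
    by_contra hcon
    push Not at hcon
    have hle : Nat.card σ.ker ≤ 3 := by
      have hz : ∀ r : σ.ker, ∃ m : Fin 3, ((r : S.R) : GL (Fin 3) F) = S.z ^ (m : ℕ) := fun r => by
        obtain ⟨m, hm⟩ := hcon r r.2
        exact ⟨⟨m % 3, Nat.mod_lt _ (by norm_num)⟩, hm.trans (pow_eq_pow_mod m S.z_cube)⟩
      choose m hm using hz
      refine (Nat.card_le_card_of_injective m fun r s e => ?_).trans (by simp)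
      exact Subtype.ext (Subtype.ext (by rw [hm, hm, e]))
    nlinarith
  have hrc : (r : GL (Fin 3) F) ∈ Subgroup.centralizer (A : Set (GL (Fin 3) F)) := by
    refine Subgroup.mem_centralizer_iff.2 fun y hy => ?_
    have hy' : (r : GL (Fin 3) F)⁻¹ * y * (r : GL (Fin 3) F) ∈ A := by
      simpa using hn _ (inv_mem (S.R_le r.2)) y hy
    have h : (r : GL (Fin 3) F)⁻¹ * y * (r : GL (Fin 3) F) = y := S.eq_of_char hχ hy' hy (funext fun j =>
      congrFun (congrArg Subtype.val (congrArg (fun e : Equiv.Perm T => e ⟨_, j, rfl⟩) (MonoidHom.mem_ker.1 hr))) ⟨y, hy⟩)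
    calc y * (r : GL (Fin 3) F) = (r : GL (Fin 3) F) * ((r : GL (Fin 3) F)⁻¹ * y * (r : GL (Fin 3) F)) := by group
      _ = _ := by rw [h]
  have hle := S.R_le_of_invariant (Q := Subgroup.centralizer (A : Set (GL (Fin 3) F))) (fun g hg q hq => by
    refine Subgroup.mem_centralizer_iff.2 fun y hy => ?_
    have h1 : g⁻¹ * y * g ∈ A := by simpa using hn g⁻¹ (inv_mem hg.1) y hy
    have h2 := Subgroup.mem_centralizer_iff.1 hq _ h1
    calc y * (g * q * g⁻¹) = g * ((g⁻¹ * y * g) * q) * g⁻¹ := by group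
      _ = g * (q * (g⁻¹ * y * g)) * g⁻¹ := by rw [h2]
      _ = _ := by group) r.2 hrc hrns
  obtain ⟨c, hcx⟩ := S.scalar_of_commute (Subgroup.mem_centralizer_iff.1 (hle S.a_mem_R) x hx)
    (Subgroup.mem_centralizer_iff.1 (hle S.b_mem_R) x hx)
  obtain ⟨i, -, hi⟩ := S.eq_z_pow (hA hx) hcx
  exact hns i hi

end Setup

end CfsgLib.Geo.SL3.Hessian
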