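/-
Finite subgroups of order prime to the characteristic of the projective linear group of degree two, in the
form needed for the Hessian group.
-/
import Cfsg.Agent.Dickson.Classification
import Mathlib.GroupTheory.SpecificGroups.Alternating
import Mathlib.Data.Fintype.Perm

set_option autoImplicit false

namespace CfsgLib.Geo.SL3.Hessian

open CfsgLib.Dickson OnePoint

/-- Properties shared by the alternating groups of degree four and five and the symmetric group of degree four. -/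
structure Except (G : Type*) [Group G] : Prop where
  cent : ∀ g t h : G, t * t = 1 → t ≠ 1 → g * t = t * g → g * g ≠ 1 →
    t * (h * t * h⁻¹) = h * t * h⁻¹ * t
  four : ∀ h v w : G, h * h = 1 → h ≠ 1 → v * v = 1 → v ≠ 1 → w * w = 1 → w ≠ 1 → v ≠ w → v * w = w * v →
    (h * v = v * h ∨ h * w = w * h ∨ h * (v * w) = v * w * h) ∨
      ∃ g, g * h * g⁻¹ = v ∨ g * h * g⁻¹ = w ∨ g * h * g⁻¹ = v * w
  three : ∀ y h v w : G, y * y * y = 1 → h * h = 1 → h ≠ 1 → v * v = 1 → v ≠ 1 → w * w = 1 → w ≠ 1 → v ≠ w →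
    v * w = w * v → (∃ g, g * y * g⁻¹ = y⁻¹) ∨ ∃ g, g * h * g⁻¹ = v ∨ g * h * g⁻¹ = w ∨ g * h * g⁻¹ = v * w

lemma Except.of_equiv {G A : Type*} [Group G] [Group A] (e : G ≃* A) (h : Except A) : Except G where
  cent g t k h1 h2 h3 h4 := e.injective (by
    have := h.cent (e g) (e t) (e k) (by rw [← map_mul, h1, map_one]) (e.map_eq_one_iff.not.2 h2)
      (by rw [← map_mul, h3, map_mul]) (by rw [← map_mul]; exact e.map_eq_one_iff.not.2 h4)
    simpa only [map_mul, map_inv] using this)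
  four k v w h1 h2 h3 h4 h5 h6 h7 h8 := by
    obtain hc | ⟨g, hg⟩ := h.four (e k) (e v) (e w) (by rw [← map_mul, h1, map_one]) (e.map_eq_one_iff.not.2 h2)
      (by rw [← map_mul, h3, map_one]) (e.map_eq_one_iff.not.2 h4) (by rw [← map_mul, h5, map_one])
      (e.map_eq_one_iff.not.2 h6) (e.injective.ne h7) (by rw [← map_mul, h8, map_mul])
    · left
      simpa only [← map_mul, e.injective.eq_iff] using hc
    · right
      obtain ⟨g, rfl⟩ := e.surjective g
      refine ⟨g, ?_⟩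
      simpa only [← map_mul, ← map_inv, e.injective.eq_iff] using hg
  three y k v w h0 h1 h2 h3 h4 h5 h6 h7 h8 := by
    obtain ⟨g, hg⟩ | ⟨g, hg⟩ := h.three (e y) (e k) (e v) (e w) (by rw [← map_mul, ← map_mul, h0, map_one])
      (by rw [← map_mul, h1, map_one]) (e.map_eq_one_iff.not.2 h2) (by rw [← map_mul, h3, map_one])
      (e.map_eq_one_iff.not.2 h4) (by rw [← map_mul, h5, map_one])
      (e.map_eq_one_iff.not.2 h6) (e.injective.ne h7) (by rw [← map_mul, h8, map_mul])
    · left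
      obtain ⟨g, rfl⟩ := e.surjective g
      refine ⟨g, ?_⟩
      simpa only [← map_mul, ← map_inv, e.injective.eq_iff] using hg
    · right
      obtain ⟨g, rfl⟩ := e.surjective g
      refine ⟨g, ?_⟩
      simpa only [← map_mul, ← map_inv, e.injective.eq_iff] using hg

lemma except_of {G : Type*} [Group G] (hsq : ∀ g t : G, t * t = 1 → t ≠ 1 → g * t = t * g → g * g = 1)
    (hconj : ∀ h v : G, h * h = 1 → h ≠ 1 → v * v = 1 → v ≠ 1 → ∃ g, g * h * g⁻¹ = v) : Except G where
  cent g t _ h1 h2 h3 h4 := absurd (hsq g t h1 h2 h3) h4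
  four h v _ h1 h2 h3 h4 _ _ _ _ := Or.inr ((hconj h v h1 h2 h3 h4).imp fun _ => Or.inl)
  three _ h v _ _ h1 h2 h3 h4 _ _ _ _ := Or.inr ((hconj h v h1 h2 h3 h4).imp fun _ => Or.inl)

set_option synthInstance.maxHeartbeats 200000 in
set_option synthInstance.maxSize 2000 in
theorem except_a4 : Except (alternatingGroup (Fin 4)) :=
  except_of (by decide +kernel) (by decide +kernel)

set_option synthInstance.maxHeartbeats 200000 in
set_option synthInstance.maxSize 2000 in
theorem except_a5 : Except (alternatingGroup (Fin 5)) :=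
  except_of (by decide +kernel) (by decide +kernel)

set_option synthInstance.maxHeartbeats 200000 in
set_option synthInstance.maxSize 2000 in
theorem except_s4 : Except (Equiv.Perm (Fin 4)) where
  cent := by decide +kernel
  four := by
    have h : ∀ h v : Equiv.Perm (Fin 4), h * h = 1 → h ≠ 1 → v * v = 1 → v ≠ 1 → ∀ w, w * w = 1 → w ≠ 1 → v ≠ w →
        v * w = w * v → (h * v = v * h ∨ h * w = w * h ∨ h * (v * w) = v * w * h) ∨
          ∃ g, g * h * g⁻¹ = v ∨ g * h * g⁻¹ = w ∨ g * h * g⁻¹ = v * w := by decide +kernel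
    exact fun k v w a b c d e f g i => h k v a b c d w e f g i
  three := by
    have h : ∀ y : Equiv.Perm (Fin 4), y * y * y = 1 → ∃ g, g * y * g⁻¹ = y⁻¹ := by decide +kernel
    exact fun y _ _ _ h0 _ _ _ _ _ _ _ _ => Or.inl (h y h0)

variable {K : Type*} [Field K] [DecidableEq K]

lemma conj_fix {x a : OnePoint K} {k g : PGL2 K} (hk : k • x = a) (hg : g • x = x) : (k * g * k⁻¹) • a = a := by
  rw [← hk, mul_smul, mul_smul, inv_smul_smul, hg]

/-- Elements fixing two given points commute. -/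
lemma commute_of_fix {x y : OnePoint K} (hxy : x ≠ y) {g h : PGL2 K} (hgx : g • x = x) (hgy : g • y = y)
    (hhx : h • x = x) (hhy : h • y = y) : g * h = h * g := by
  obtain ⟨k, hk1, hk2⟩ := exists_smul_pair hxy
  obtain ⟨u, hu⟩ := eq_dil_of_fix (conj_fix hk1 hgx) (conj_fix hk2 hgy)
  obtain ⟨v, hv⟩ := eq_dil_of_fix (conj_fix hk1 hhx) (conj_fix hk2 hhy)
  have e : (k * g * k⁻¹) * (k * h * k⁻¹) = (k * h * k⁻¹) * (k * g * k⁻¹) := by
    rw [hu, hv, aff_mul, aff_mul, mul_comm u v, mul_zero, mul_zero, add_zero]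
  have e' : k * (g * h) * k⁻¹ = k * (h * g) * k⁻¹ := by
    calc k * (g * h) * k⁻¹ = (k * g * k⁻¹) * (k * h * k⁻¹) := by group
      _ = (k * h * k⁻¹) * (k * g * k⁻¹) := e
      _ = k * (h * g) * k⁻¹ := by group
  exact mul_left_cancel (mul_right_cancel e')

/-- At most one involution fixes two given points. -/
lemma invol_unique {x y : OnePoint K} (hxy : x ≠ y) {g h : PGL2 K} (hgx : g • x = x) (hgy : g • y = y)
    (hg : g * g = 1) (hg1 : g ≠ 1) (hhx : h • x = x) (hhy : h • y = y) (hh : h * h = 1) (hh1 : h ≠ 1) : g = h := by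
  obtain ⟨k, hk1, hk2⟩ := exists_smul_pair hxy
  obtain ⟨u, hu⟩ := eq_dil_of_fix (conj_fix hk1 hgx) (conj_fix hk2 hgy)
  obtain ⟨v, hv⟩ := eq_dil_of_fix (conj_fix hk1 hhx) (conj_fix hk2 hhy)
  have key : ∀ (g : PGL2 K) (u : Kˣ), k * g * k⁻¹ = aff u 0 → g * g = 1 → g ≠ 1 → u = -1 := by
    intro g u hu hg hg1
    have e : aff (u * u) (0 : K) = aff 1 0 := by
      rw [show aff (u * u) (0 : K) = aff u 0 * aff u 0 by rw [aff_mul, mul_zero, add_zero], ← hu, aff_one_zero]
      rw [show k * g * k⁻¹ * (k * g * k⁻¹) = k * (g * g) * k⁻¹ by group, hg]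
      simp
    have e' : (u : K) * u = 1 := by rw [← Units.val_mul, (aff_inj e).1, Units.val_one]
    rcases mul_self_eq_one_iff.1 e' with h | h
    · exfalso
      rw [show u = 1 from Units.ext h, aff_one_zero, mul_inv_eq_one, mul_eq_left] at hu
      exact hg1 hu
    · exact Units.ext (by rw [h, Units.val_neg, Units.val_one])
  rw [key g u hu hg hg1, ← key h v hv hh hh1, ← hv] at hu
  exact mul_left_cancel (mul_right_cancel hu)

/-- Two points preserved by a group, and interchanged by some element. -/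
structure SwapPair (H : Subgroup (PGL2 K)) (x y : OnePoint K) : Prop where
  ne : x ≠ y
  mem : ∀ g ∈ H, (g • x = x ∧ g • y = y) ∨ (g • x = y ∧ g • y = x)
  swap : ∃ g ∈ H, g • x = y

variable [IsAlgClosed K]

/-- Tame finite subgroups. -/
theorem tame_cases (p : ℕ) [Fact p.Prime] [CharP K p] (H : Subgroup (PGL2 K)) [Finite H]
    (hp : ¬ p ∣ Nat.card H) :
    (∃ x y : OnePoint K, x ≠ y ∧ ∀ g ∈ H, g • x = x ∧ g • y = y) ∨ (∃ x y, SwapPair H x y) ∨
      (Even (Nat.card H) ∧ 3 ∣ Nat.card H ∧ Except H) := by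
  rcases tame H (unipotents_empty p H hp) with h | ⟨x, y, hxy, hm, hs, -⟩ | ⟨hN, x, -, hs⟩ | ⟨hN, x, -, hs⟩ |
    ⟨hN, x, -, hs⟩
  · exact Or.inl h
  · exact Or.inr (Or.inl ⟨x, y, hxy, hm, hs⟩)
  · obtain ⟨e⟩ := a4_of_stab H hN x hs
    exact Or.inr (Or.inr ⟨hN ▸ by decide, hN ▸ by decide, Except.of_equiv e except_a4⟩)
  · obtain ⟨e⟩ := s4_of_stab H hN x hs
    exact Or.inr (Or.inr ⟨hN ▸ by decide, hN ▸ by decide, Except.of_equiv e except_s4⟩)
  · obtain ⟨e⟩ := a5_of_stab H hN x hs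
    exact Or.inr (Or.inr ⟨hN ▸ by decide, hN ▸ by decide, Except.of_equiv e except_a5⟩)

/-- A finite group of odd order prime to the characteristic fixes two points. -/
theorem exists_fixed_pair_of_odd (p : ℕ) [Fact p.Prime] [CharP K p] (H : Subgroup (PGL2 K)) [Finite H]
    (hp : ¬ p ∣ Nat.card H) (hodd : Odd (Nat.card H)) :
    ∃ x y : OnePoint K, x ≠ y ∧ ∀ g ∈ H, g • x = x ∧ g • y = y := by
  rcases tame_cases p H hp with h | ⟨x, y, hS⟩ | ⟨h, -⟩
  · exact h
  · exfalso
    obtain ⟨g, hg, hgx⟩ := hS.swap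
    have hgy : g • y = x := by
      rcases hS.mem g hg with ⟨h1, -⟩ | ⟨-, h2⟩
      · exact absurd (h1.symm.trans hgx) hS.ne
      · exact h2
    have h2 : g ^ 2 = 1 := by rw [pow_two, sq_eq_one_of_swap hS.ne hgx hgy]
    have hg1 : g ≠ 1 := fun e => hS.ne (by rw [← hgx, e, one_smul])
    have ho : orderOf g = 2 := orderOf_eq_prime h2 hg1
    exact Nat.not_even_iff_odd.2 hodd (even_iff_two_dvd.2 (dvd_trans (dvd_of_eq ho.symm) (H.orderOf_dvd_natCard hg)))
  · exact absurd h (Nat.not_even_iff_odd.2 hodd)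

end CfsgLib.Geo.SL3.Hessian
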