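/-
The centraliser of the involution acting on its axis.
-/
import Cfsg.Agent.Geo.SLThree.Hessian.NoAbelian
import Cfsg.Agent.Geo.SLThree.Hessian.Tame

set_option autoImplicit false
set_option linter.unusedSectionVars false

namespace CfsgLib.Geo.SL3.Hessian

open Matrix Cfsg Cfsg.Geo CfsgLib.Geo CfsgLib.Dickson

variable {F : Type*} [Field F]

/-- The projective action of a block group on its line, over the algebraic closure. -/
noncomputable def proj (Q : GL (Fin 3) F) : Blk Q →* PGL2 (AlgebraicClosure F) :=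
  Matrix.ProjGenLinGroup.mk.comp
    ((Matrix.GeneralLinearGroup.map (algebraMap F (AlgebraicClosure F))).comp (eta Q))

lemma proj_eq_iff {Q : GL (Fin 3) F} {g h : Blk Q} :
    proj Q g = proj Q h ↔
      ∃ s : F, s ≠ 0 ∧ (eta Q h : Matrix (Fin 2) (Fin 2) F) = s • (eta Q g : Matrix (Fin 2) (Fin 2) F) := by
  change Matrix.ProjGenLinGroup.mk (Matrix.GeneralLinearGroup.map (algebraMap F (AlgebraicClosure F)) (eta Q g)) =
    Matrix.ProjGenLinGroup.mk (Matrix.GeneralLinearGroup.map (algebraMap F (AlgebraicClosure F)) (eta Q h)) ↔ _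
  rw [Matrix.ProjGenLinGroup.mk_eq_mk_iff]
  set A := eta Q g
  set B := eta Q h
  have hmap : ∀ (C : GL (Fin 2) F) (i j : Fin 2),
      (Matrix.GeneralLinearGroup.map (algebraMap F (AlgebraicClosure F)) C : Matrix (Fin 2) (Fin 2) _) i j =
        algebraMap F (AlgebraicClosure F) ((C : Matrix (Fin 2) (Fin 2) F) i j) := fun C i j =>
    Matrix.GeneralLinearGroup.map_apply _ i j C
  constructor
  · rintro ⟨u, hu⟩
    have he : ∀ i j, algebraMap F (AlgebraicClosure F) ((B : Matrix (Fin 2) (Fin 2) F) i j) =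
        algebraMap F (AlgebraicClosure F) ((A : Matrix (Fin 2) (Fin 2) F) i j) * (u : AlgebraicClosure F) := fun i j => by
      rw [← hmap, ← hu, Units.val_mul, Matrix.GeneralLinearGroup.coe_scalar, Matrix.scalar_apply, Matrix.mul_diagonal,
        hmap]
    obtain ⟨i, j, hij⟩ : ∃ i j, (A : Matrix (Fin 2) (Fin 2) F) i j ≠ 0 := by
      by_contra hcon
      push Not at hcon
      have h0 : (A : Matrix (Fin 2) (Fin 2) F) = 0 := by ext i j; exact hcon i j
      exact (Matrix.GeneralLinearGroup.det A).ne_zero (by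
        rw [Matrix.GeneralLinearGroup.val_det_apply, h0, Matrix.det_zero])
    set s := (B : Matrix (Fin 2) (Fin 2) F) i j / (A : Matrix (Fin 2) (Fin 2) F) i j
    have hs : algebraMap F (AlgebraicClosure F) s = u := by
      simp only [s]
      rw [map_div₀, he, mul_comm, mul_div_assoc, div_self ((map_ne_zero _).2 hij), mul_one]
    refine ⟨s, fun e => u.ne_zero (by rw [← hs, e, map_zero]), ?_⟩
    ext k l
    apply (algebraMap F (AlgebraicClosure F)).injective
    rw [he, Matrix.smul_apply, smul_eq_mul, map_mul, hs, mul_comm]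
  · rintro ⟨s, hs0, hs⟩
    refine ⟨Units.mk0 (algebraMap F (AlgebraicClosure F) s) ((map_ne_zero _).2 hs0), Units.ext ?_⟩
    ext k l
    rw [Units.val_mul, Matrix.GeneralLinearGroup.coe_scalar, Matrix.scalar_apply, Matrix.mul_diagonal, hmap, hmap, hs,
      Units.val_mk0, Matrix.smul_apply, smul_eq_mul, map_mul, mul_comm]

lemma proj_eq_one_iff {Q : GL (Fin 3) F} {g : Blk Q} :
    proj Q g = 1 ↔ ∃ s : F, s ≠ 0 ∧ (eta Q g : Matrix (Fin 2) (Fin 2) F) = s • 1 := by
  rw [← map_one (proj Q), eq_comm, proj_eq_iff]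
  simp

namespace Setup

variable {F : Type*} [Field F] [Fintype F] (S : Setup F)

/-- The frame of the involution: centre, then a basis of the axis. -/
def Q1 : GL (Fin 3) F :=
  Matrix.GeneralLinearGroup.mkOfDetNeZero !![0, 1, 0; 1, 0, 1; -1, 0, 1] (by
    have := S.two
    simp [Matrix.det_fin_three]; grind)

/-- The frame of the common point and the line of centres. -/
def Q2 : GL (Fin 3) F :=
  Matrix.GeneralLinearGroup.mkOfDetNeZero !![1, -2, 0; 1, 1, 1; 1, 1, -1] (by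
    have h6 : (2 : F) * 3 ≠ 0 := mul_ne_zero S.two S.three
    simp [Matrix.det_fin_three]; grind)

lemma Q1_val : (S.Q1 : Matrix (Fin 3) (Fin 3) F) = !![0, 1, 0; 1, 0, 1; -1, 0, 1] := rfl

lemma Q2_val : (S.Q2 : Matrix (Fin 3) (Fin 3) F) = !![1, -2, 0; 1, 1, 1; 1, 1, -1] := rfl

lemma inFrame_eq {Q g : GL (Fin 3) F} {D : Matrix (Fin 3) (Fin 3) F}
    (h : (g : Matrix (Fin 3) (Fin 3) F) * (Q : Matrix (Fin 3) (Fin 3) F) = (Q : Matrix (Fin 3) (Fin 3) F) * D) :
    inFrame Q g = D := by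
  rw [inFrame, Units.val_mul, Units.val_mul, mul_assoc, h, ← mul_assoc, Units.inv_mul, one_mul]

lemma mul_of_inFrame {Q g : GL (Fin 3) F} {D : Matrix (Fin 3) (Fin 3) F} (h : inFrame Q g = D) :
    (g : Matrix (Fin 3) (Fin 3) F) * (Q : Matrix (Fin 3) (Fin 3) F) = (Q : Matrix (Fin 3) (Fin 3) F) * D := by
  rw [← h, inFrame, ← Units.val_mul, ← Units.val_mul]
  refine congrArg Units.val ?_
  group

lemma inFrame_t : inFrame S.Q1 S.t = Matrix.diagonal ![1, -1, -1] := by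
  refine inFrame_eq ?_
  rw [S.t_val, Q1_val]
  ext i j
  fin_cases i <;> fin_cases j <;> simp [Matrix.mul_apply, Fin.sum_univ_three, Matrix.diagonal_apply]

/-- The centraliser of the involution in the overgroup. -/
def H : Subgroup (GL (Fin 3) F) := S.M ⊓ Subgroup.centralizer {S.t}

lemma mem_H {g : GL (Fin 3) F} : g ∈ S.H ↔ g ∈ S.M ∧ g * S.t = S.t * g := by
  rw [H, Subgroup.mem_inf, Subgroup.mem_centralizer_singleton_iff]

lemma t_mem_H : S.t ∈ S.H := S.mem_H.2 ⟨S.t_mem, rfl⟩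

lemma z_pow_mem_H (i : ℕ) : S.z ^ i ∈ S.H := S.mem_H.2 ⟨pow_mem S.z_mem i, S.z_pow_comm i _⟩

lemma u_mem_H : S.u ∈ S.H := S.mem_H.2 ⟨S.u_mem, by rw [← S.u_sq, mul_assoc]⟩

lemma v_mem_H : S.v ∈ S.H := S.mem_H.2 ⟨S.v_mem, by rw [← S.v_sq, mul_assoc]⟩

lemma H_le_blk : S.H ≤ Blk S.Q1 := fun g hg => by
  refine mem_blk_of_commute (α := (1 : F)) (β := -1) (fun h => S.two ?_) S.inFrame_t (S.mem_H.1 hg).2
  linear_combination h

/-- An element of the centraliser as a block element. -/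
abbrev toBlk : S.H →* Blk S.Q1 := Subgroup.inclusion S.H_le_blk

/-- The projective action on the axis. -/
noncomputable def π : S.H →* PGL2 (AlgebraicClosure F) := (proj S.Q1).comp S.toBlk

/-- The image of the centraliser. -/
noncomputable def J : Subgroup (PGL2 (AlgebraicClosure F)) := S.π.range

/-- The eigenvalue on the centre. -/
def chi : S.H →* F := (corner S.Q1).comp S.toBlk

lemma chi_mul_det (g : S.H) :
    S.chi g * (eta S.Q1 (S.toBlk g) : Matrix (Fin 2) (Fin 2) F).det = 1 :=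
  (det_blk (S.toBlk g)).symm.trans (S.det_eq (S.mem_H.1 g.2).1)

lemma not_dvd_card_H : ¬ S.p ∣ Nat.card S.H := S.not_dvd_card (fun _ h => (S.mem_H.1 h).1) S.H_le_blk

lemma charP_K : CharP (AlgebraicClosure F) S.p :=
  haveI := S.charP
  charP_of_injective_algebraMap (algebraMap F (AlgebraicClosure F)).injective _

instance : Finite S.J := Set.finite_range _ |>.to_subtype

lemma not_dvd_card_J : ¬ S.p ∣ Nat.card S.J := fun h =>
  S.not_dvd_card_H (h.trans (Subgroup.card_range_dvd S.π))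

open scoped Classical in
set_option maxHeartbeats 1000000 in
/-- Elements scalar on the axis are scalar of order dividing six. -/
theorem pow_six {g : S.H} {a : F} (h : (eta S.Q1 (S.toBlk g) : Matrix (Fin 2) (Fin 2) F) = a • 1) : a ^ 6 = 1 := by
  by_contra ha
  have h2 := S.two
  have h3 := S.three
  haveI := S.fact
  haveI := S.charP_K
  have ha0 : a ≠ 0 := fun e => by
    have := S.chi_mul_det g
    rw [h, e, zero_smul, Matrix.det_zero, mul_zero] at this
    exact zero_ne_one this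
  set b₀ := S.chi g with hb₀
  have hb : b₀ * a ^ 2 = 1 := by
    have := S.chi_mul_det g
    rwa [h, Matrix.det_smul, Matrix.det_one, mul_one, Fintype.card_fin] at this
  have hab : a ≠ b₀ := fun e => ha (by
    rw [← e] at hb
    linear_combination (a ^ 3 + 1) * hb)
  have hg1 : inFrame S.Q1 g = !![b₀, 0, 0; 0, a, 0; 0, 0, a] := by
    rw [show (g : GL (Fin 3) F) = (S.toBlk g : GL (Fin 3) F) from rfl, inFrame_blk (S.toBlk g), h, hb₀]
    ext i j
    fin_cases i <;> fin_cases j <;> simp <;> rfl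
  have hg2 : inFrame S.Q2 g = !![a, 0, 0; 0, a, 0; 0, 0, b₀] := by
    refine inFrame_eq ?_
    have e : (S.Q2 : Matrix (Fin 3) (Fin 3) F) =
        (S.Q1 : Matrix (Fin 3) (Fin 3) F) * !![0, 0, 1; 1, -2, 0; 1, 1, 0] := by
      rw [Q1_val, Q2_val]
      ext i j; fin_cases i <;> fin_cases j <;> simp [Matrix.mul_apply, Fin.sum_univ_three]
    rw [e, ← mul_assoc, mul_of_inFrame hg1, mul_assoc, mul_assoc]
    congr 1
    ext i j; fin_cases i <;> fin_cases j <;> simp [Matrix.mul_apply, Fin.sum_univ_three] <;> ring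
  have hb2 : inFrame S.Q2 S.b = !![1, 0, 0; 0, -1/2, 1/2; 0, -3/2, -1/2] := by
    refine inFrame_eq ?_
    rw [S.b_val, Q2_val]
    ext i j
    fin_cases i <;> fin_cases j <;>
      simp [CfsgLib.Elusive.cycMat, Matrix.mul_apply, Fin.sum_univ_three] <;> field_simp <;> ring
  have ht2 : inFrame S.Q2 S.t = !![-1, 0, 0; 0, -1, 0; 0, 0, 1] := by
    refine inFrame_eq ?_
    rw [S.t_val, Q2_val]
    ext i j; fin_cases i <;> fin_cases j <;> simp [Matrix.mul_apply, Fin.sum_univ_three]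
  have mem : ∀ {x : GL (Fin 3) F}, inFrame S.Q2 x 0 1 = 0 → inFrame S.Q2 x 0 2 = 0 → inFrame S.Q2 x 1 0 = 0 →
      inFrame S.Q2 x 2 0 = 0 → x ∈ Blk S.Q2 := fun a b c d => mem_blk_iff.2 ⟨a, b, c, d⟩
  have hgB : (g : GL (Fin 3) F) ∈ S.M ⊓ Blk S.Q2 :=
    ⟨(S.mem_H.1 g.2).1, mem (by rw [hg2]; simp) (by rw [hg2]; simp) (by rw [hg2]; simp) (by rw [hg2]; simp)⟩
  have hbB : S.b ∈ S.M ⊓ Blk S.Q2 :=
    ⟨S.b_mem, mem (by rw [hb2]; simp) (by rw [hb2]; simp) (by rw [hb2]; simp) (by rw [hb2]; simp)⟩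
  have htB : S.t ∈ S.M ⊓ Blk S.Q2 :=
    ⟨S.t_mem, mem (by rw [ht2]; simp) (by rw [ht2]; simp) (by rw [ht2]; simp) (by rw [ht2]; simp)⟩
  set N := S.M ⊓ Blk S.Q2
  let φ : N →* PGL2 (AlgebraicClosure F) := (proj S.Q2).comp (Subgroup.inclusion inf_le_right)
  have etaOf : ∀ (x : N) (A : Matrix (Fin 2) (Fin 2) F), inFrame S.Q2 x 1 1 = A 0 0 → inFrame S.Q2 x 1 2 = A 0 1 →
      inFrame S.Q2 x 2 1 = A 1 0 → inFrame S.Q2 x 2 2 = A 1 1 →
      (eta S.Q2 (Subgroup.inclusion inf_le_right x) : Matrix (Fin 2) (Fin 2) F) = A := by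
    intro x A e1 e2 e3 e4
    ext i j
    fin_cases i <;> fin_cases j <;> assumption
  set G0 : N := ⟨g, hgB⟩
  set B0 : N := ⟨S.b, hbB⟩
  set T0 : N := ⟨S.t, htB⟩
  have hG : (eta S.Q2 (Subgroup.inclusion inf_le_right G0) : Matrix (Fin 2) (Fin 2) F) = !![a, 0; 0, b₀] :=
    etaOf G0 _ (by show inFrame S.Q2 g _ _ = _; rw [hg2]; simp) (by show inFrame S.Q2 g _ _ = _; rw [hg2]; simp)
      (by show inFrame S.Q2 g _ _ = _; rw [hg2]; simp) (by show inFrame S.Q2 g _ _ = _; rw [hg2]; simp)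
  have hB : (eta S.Q2 (Subgroup.inclusion inf_le_right B0) : Matrix (Fin 2) (Fin 2) F) = !![-1/2, 1/2; -3/2, -1/2] :=
    etaOf B0 _ (by show inFrame S.Q2 S.b _ _ = _; rw [hb2]; simp) (by show inFrame S.Q2 S.b _ _ = _; rw [hb2]; simp)
      (by show inFrame S.Q2 S.b _ _ = _; rw [hb2]; simp) (by show inFrame S.Q2 S.b _ _ = _; rw [hb2]; simp)
  have hT : (eta S.Q2 (Subgroup.inclusion inf_le_right T0) : Matrix (Fin 2) (Fin 2) F) = !![-1, 0; 0, 1] :=
    etaOf T0 _ (by show inFrame S.Q2 S.t _ _ = _; rw [ht2]; simp) (by show inFrame S.Q2 S.t _ _ = _; rw [ht2]; simp)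
      (by show inFrame S.Q2 S.t _ _ = _; rw [ht2]; simp) (by show inFrame S.Q2 S.t _ _ = _; rw [ht2]; simp)
  have hval : ∀ x y : N, (eta S.Q2 (Subgroup.inclusion inf_le_right (x * y)) : Matrix (Fin 2) (Fin 2) F) =
      (eta S.Q2 (Subgroup.inclusion inf_le_right x) : Matrix (Fin 2) (Fin 2) F) *
        (eta S.Q2 (Subgroup.inclusion inf_le_right y) : Matrix (Fin 2) (Fin 2) F) := fun x y => by
    rw [map_mul, map_mul, Units.val_mul]
  have hgg : φ G0 * φ G0 ≠ 1 := by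
    intro e
    rw [← map_mul] at e
    obtain ⟨s, -, hs⟩ := proj_eq_one_iff.1 e
    rw [hval, hG] at hs
    have e1 := congrFun (congrFun hs 0) 0
    have e2 := congrFun (congrFun hs 1) 1
    simp [Matrix.mul_apply, Fin.sum_univ_two] at e1 e2
    exact ha (by linear_combination a ^ 4 * (e1.trans e2.symm) + (a ^ 2 * b₀ + 1) * hb)
  have hGB : φ G0 * φ B0 ≠ φ B0 * φ G0 := by
    intro e
    rw [← map_mul, ← map_mul] at e
    obtain ⟨s, -, hs⟩ := proj_eq_iff.1 e
    rw [hval, hval, hG, hB] at hs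
    have e1 := congrFun (congrFun hs 0) 0
    have e2 := congrFun (congrFun hs 0) 1
    simp [Matrix.mul_apply, Fin.sum_univ_two] at e1 e2
    field_simp at e1 e2
    apply hab
    grind
  have hTT : φ T0 * (φ B0 * φ T0 * (φ B0)⁻¹) ≠ φ B0 * φ T0 * (φ B0)⁻¹ * φ T0 := by
    intro e
    rw [← map_inv, ← map_mul, ← map_mul, ← map_mul, ← map_mul] at e
    have hB2 : B0⁻¹ = B0 * B0 := inv_eq_of_mul_eq_one_right (Subtype.ext (by
      show S.b * (S.b * S.b) = 1
      rw [← mul_assoc, ← pow_two, ← pow_succ, S.b_cube]))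
    obtain ⟨s, -, hs⟩ := proj_eq_iff.1 e
    simp only [hB2, hval, hT, hB] at hs
    have e1 := congrFun (congrFun hs 0) 0
    have e2 := congrFun (congrFun hs 0) 1
    simp [Matrix.mul_apply, Fin.sum_univ_two] at e1 e2
    field_simp at e1 e2
    exact h2 (eq_zero_of_pow_eq_zero (n := 3) (by linear_combination -e1 - e2))
  haveI : Finite φ.range := (Set.finite_range _).to_subtype
  have hp : ¬ S.p ∣ Nat.card φ.range := fun hd =>
    S.not_dvd_card inf_le_left inf_le_right (hd.trans (Subgroup.card_range_dvd φ))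
  have hB3 : φ B0 * φ B0 * φ B0 = 1 := by
    rw [← map_mul, ← map_mul, show B0 * B0 * B0 = 1 from Subtype.ext (by
      show S.b * S.b * S.b = 1
      rw [← pow_two, ← pow_succ, S.b_cube]), map_one]
  rcases tame_cases S.p φ.range hp with ⟨x, y, hxy, hf⟩ | ⟨x, y, hS⟩ | ⟨-, -, hE⟩
  · exact hGB (commute_of_fix hxy (hf _ ⟨G0, rfl⟩).1 (hf _ ⟨G0, rfl⟩).2 (hf _ ⟨B0, rfl⟩).1 (hf _ ⟨B0, rfl⟩).2)
  · obtain ⟨g1, g2⟩ : φ G0 • x = x ∧ φ G0 • y = y := (hS.mem _ ⟨G0, rfl⟩).resolve_right fun hsw =>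
      hgg (sq_eq_one_of_swap hS.ne hsw.1 hsw.2)
    obtain ⟨b1, b2⟩ : φ B0 • x = x ∧ φ B0 • y = y := (hS.mem _ ⟨B0, rfl⟩).resolve_right fun hsw => by
      have e := sq_eq_one_of_swap hS.ne hsw.1 hsw.2
      rw [e, one_mul] at hB3
      exact hS.ne (by rw [← hsw.1, hB3, one_smul])
    exact hGB (commute_of_fix hS.ne g1 g2 b1 b2)
  · refine hTT (congrArg Subtype.val (hE.cent ⟨φ G0, G0, rfl⟩ ⟨φ T0, T0, rfl⟩ ⟨φ B0, B0, rfl⟩ ?_ ?_ ?_ ?_))
    · refine Subtype.ext ?_
      show φ T0 * φ T0 = 1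
      rw [← map_mul, show T0 * T0 = 1 from Subtype.ext S.t_sq, map_one]
    · intro e
      have e' : φ T0 = 1 := congrArg Subtype.val e
      obtain ⟨s, -, hs⟩ := proj_eq_one_iff.1 e'
      rw [hT] at hs
      have e1 := congrFun (congrFun hs 0) 0
      have e2 := congrFun (congrFun hs 1) 1
      simp at e1 e2
      exact h2 (by linear_combination e2 - e1)
    · refine Subtype.ext ?_
      show φ G0 * φ T0 = φ T0 * φ G0
      rw [← map_mul, ← map_mul, show G0 * T0 = T0 * G0 from Subtype.ext (S.mem_H.1 g.2).2]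
    · exact fun e => hgg (congrArg Subtype.val e)

lemma pi_eq_one {g : S.H} (h : S.π g = 1) : ∃ a : F, a ^ 6 = 1 ∧ S.chi g * a ^ 2 = 1 ∧
    (eta S.Q1 (S.toBlk g) : Matrix (Fin 2) (Fin 2) F) = a • 1 := by
  obtain ⟨a, -, ha⟩ := proj_eq_one_iff.1 h
  refine ⟨a, S.pow_six ha, ?_, ha⟩
  have := S.chi_mul_det g
  rwa [ha, Matrix.det_smul, Matrix.det_one, mul_one, Fintype.card_fin] at this

lemma chi_cube_of_ker {g : S.H} (h : S.π g = 1) : S.chi g ^ 3 = 1 := by
  obtain ⟨a, ha6, hb, -⟩ := S.pi_eq_one h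
  linear_combination (-(S.chi g ^ 3)) * ha6 + (S.chi g ^ 2 * a ^ 4 + S.chi g * a ^ 2 + 1) * hb

lemma chi_cube_eq {g h : S.H} (e : S.π g = S.π h) : S.chi g ^ 3 = S.chi h ^ 3 := by
  have h1 := S.chi_cube_of_ker (g := g⁻¹ * h) (by rw [map_mul, map_inv, e, inv_mul_cancel])
  calc S.chi g ^ 3 = S.chi g ^ 3 * S.chi (g⁻¹ * h) ^ 3 := by rw [h1, mul_one]
    _ = _ := by rw [← mul_pow, ← map_mul, mul_inv_cancel_left]

end Setup

end CfsgLib.Geo.SL3.Hessian
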