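/-
The fused case: the centraliser of the involution acts as a dihedral group on its axis.
-/
import Cfsg.Agent.Geo.SLThree.Hessian.Axis
import Mathlib.GroupTheory.Sylow

set_option autoImplicit false
set_option linter.unusedSectionVars false

namespace CfsgLib.Geo.SL3.Hessian

open Matrix Cfsg Cfsg.Geo CfsgLib.Geo CfsgLib.Dickson

namespace Setup

variable {F : Type*} [Field F] [Fintype F] (S : Setup F)

/-- Some other conjugate of the involution commutes with it. -/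
def Fused : Prop :=
  ∃ g ∈ S.M, g * S.t * g⁻¹ * S.t = S.t * (g * S.t * g⁻¹) ∧ g * S.t * g⁻¹ ≠ S.t

/-- The involution as an element of the centraliser. -/
def tH : S.H := ⟨S.t, S.t_mem_H⟩

/-- The first quaternion generator as an element of the centraliser. -/
def uH : S.H := ⟨S.u, S.u_mem_H⟩

/-- The second quaternion generator as an element of the centraliser. -/
def vH : S.H := ⟨S.v, S.v_mem_H⟩

lemma eta_of_inFrame {g : S.H} {b₀ : F} {A : Matrix (Fin 2) (Fin 2) F}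
    (h : inFrame S.Q1 g = !![b₀, 0, 0; 0, A 0 0, A 0 1; 0, A 1 0, A 1 1]) :
    S.chi g = b₀ ∧ (eta S.Q1 (S.toBlk g) : Matrix (Fin 2) (Fin 2) F) = A := by
  refine ⟨?_, ?_⟩
  · show inFrame S.Q1 g 0 0 = b₀
    rw [h]; rfl
  · ext i j
    rw [eta_apply]
    show inFrame S.Q1 g i.succ j.succ = A i j
    rw [h]
    fin_cases i <;> fin_cases j <;> rfl

lemma data_t : S.chi S.tH = 1 ∧ (eta S.Q1 (S.toBlk S.tH) : Matrix (Fin 2) (Fin 2) F) = !![-1, 0; 0, -1] := by
  refine S.eta_of_inFrame ?_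
  show inFrame S.Q1 S.t = _
  rw [S.inFrame_t]
  ext i j; fin_cases i <;> fin_cases j <;> simp

lemma data_u : S.chi S.uH = 1 ∧ (eta S.Q1 (S.toBlk S.uH) : Matrix (Fin 2) (Fin 2) F) =
    ((S.μ ^ 2 - S.μ) / 3) • !![1, 2; 1, -1] := by
  refine S.eta_of_inFrame (inFrame_eq ?_)
  show (S.u : Matrix (Fin 3) (Fin 3) F) * _ = _
  have := S.mu_sum
  have := S.c_sq
  have : (S.μ ^ 2 - S.μ) / 3 * 3 = S.μ ^ 2 - S.μ := div_mul_cancel₀ _ S.three
  rw [S.u_val, Q1_val]
  generalize (S.μ ^ 2 - S.μ) / 3 = c at *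
  ext i j; fin_cases i <;> fin_cases j <;> simp [Matrix.mul_apply, Fin.sum_univ_three] <;> grind

lemma data_v : S.chi S.vH = 1 ∧ (eta S.Q1 (S.toBlk S.vH) : Matrix (Fin 2) (Fin 2) F) =
    ((S.μ ^ 2 - S.μ) / 3) • !![1, 2 * S.μ ^ 2; S.μ, -1] := by
  refine S.eta_of_inFrame (inFrame_eq ?_)
  show (S.v : Matrix (Fin 3) (Fin 3) F) * _ = _
  have := S.mu_sum
  have := S.c_sq
  have : (S.μ ^ 2 - S.μ) / 3 * 3 = S.μ ^ 2 - S.μ := div_mul_cancel₀ _ S.three
  rw [S.v_val, Q1_val]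
  generalize (S.μ ^ 2 - S.μ) / 3 = c at *
  ext i j; fin_cases i <;> fin_cases j <;> simp [Matrix.mul_apply, Fin.sum_univ_three] <;> grind

lemma pi_t : S.π S.tH = 1 :=
  proj_eq_one_iff.2 ⟨-1, neg_ne_zero.2 one_ne_zero, by
    rw [(S.data_t).2]
    ext i j; fin_cases i <;> fin_cases j <;> simp⟩

lemma eta_entries_ne : (∀ i j : Fin 2, (eta S.Q1 (S.toBlk S.uH) : Matrix (Fin 2) (Fin 2) F) i j ≠ 0) ∧
    (∀ i j : Fin 2, (eta S.Q1 (S.toBlk S.vH) : Matrix (Fin 2) (Fin 2) F) i j ≠ 0) ∧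
    ∀ i j : Fin 2, (eta S.Q1 (S.toBlk (S.uH * S.vH)) : Matrix (Fin 2) (Fin 2) F) i j ≠ 0 := by
  have h2 := S.two
  have hμ := S.mu_ne
  have hc : (S.μ ^ 2 - S.μ) / 3 ≠ 0 := div_ne_zero S.mu_sub S.three
  have hsum := S.mu_sum
  have h3 : S.μ ^ 2 - S.μ ≠ 0 := S.mu_sub
  have h1 : S.μ - 1 ≠ 0 := sub_ne_zero.2 S.mu_ne_one
  refine ⟨fun i j => ?_, fun i j => ?_, fun i j => ?_⟩
  · rw [(S.data_u).2, Matrix.smul_apply, smul_eq_mul]
    refine mul_ne_zero hc ?_
    fin_cases i <;> fin_cases j <;> simp [h2]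
  · rw [(S.data_v).2, Matrix.smul_apply, smul_eq_mul]
    refine mul_ne_zero hc ?_
    fin_cases i <;> fin_cases j <;> simp [h2, hμ]
  · rw [map_mul, map_mul, Units.val_mul, (S.data_u).2, (S.data_v).2, smul_mul_assoc, mul_smul_comm, smul_smul,
      Matrix.smul_apply, smul_eq_mul]
    refine mul_ne_zero (mul_ne_zero hc hc) ?_
    fin_cases i <;> fin_cases j <;> simp [Matrix.mul_apply, Fin.sum_univ_two] <;> grind

lemma pi_ne_one_of_entries {g : S.H} (h : ∀ i j : Fin 2, (eta S.Q1 (S.toBlk g) : Matrix (Fin 2) (Fin 2) F) i j ≠ 0) :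
    S.π g ≠ 1 := fun e => by
  obtain ⟨s, -, hs⟩ := proj_eq_one_iff.1 e
  exact h 0 1 (by
    have h1 := congrFun (congrFun hs 0) 1
    simpa [toBlk] using h1)

lemma four_group :
    S.π S.uH ≠ 1 ∧ S.π S.vH ≠ 1 ∧ S.π (S.uH * S.vH) ≠ 1 ∧ S.π S.uH ≠ S.π S.vH ∧
      S.π S.uH * S.π S.uH = 1 ∧ S.π S.vH * S.π S.vH = 1 ∧ S.π S.uH * S.π S.vH = S.π S.vH * S.π S.uH := by
  obtain ⟨h1, h2, h3⟩ := S.eta_entries_ne
  have uu : S.π S.uH * S.π S.uH = 1 := by
    rw [← map_mul, show S.uH * S.uH = S.tH from Subtype.ext S.u_sq, pi_t]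
  have vv : S.π S.vH * S.π S.vH = 1 := by
    rw [← map_mul, show S.vH * S.vH = S.tH from Subtype.ext S.v_sq, pi_t]
  refine ⟨S.pi_ne_one_of_entries h1, S.pi_ne_one_of_entries h2, S.pi_ne_one_of_entries h3, fun e => ?_, uu, vv, ?_⟩
  · exact S.pi_ne_one_of_entries h3 (by rw [map_mul, ← e, uu])
  · rw [← map_mul, show S.uH * S.vH = S.tH * (S.vH * S.uH) from Subtype.ext S.u_mul_v, map_mul, pi_t, one_mul, map_mul]

lemma chi_cube_four : S.chi S.uH ^ 3 = 1 ∧ S.chi S.vH ^ 3 = 1 ∧ S.chi (S.uH * S.vH) ^ 3 = 1 := by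
  rw [map_mul, (S.data_u).1, (S.data_v).1]
  simp

lemma kernel_invol {g : S.H} (h : S.π g = 1) (hg : g * g = 1) : g = 1 ∨ g = S.tH := by
  obtain ⟨a, -, hb, ha⟩ := S.pi_eq_one h
  have h1 : (eta S.Q1 (S.toBlk (g * g)) : Matrix (Fin 2) (Fin 2) F) = (a * a) • 1 := by
    rw [map_mul, map_mul, Units.val_mul, ha, smul_mul_assoc, one_mul, smul_smul]
  rw [hg, map_one, map_one, Units.val_one] at h1
  have haa : a * a = 1 := by
    have := congrFun (congrFun h1 0) 0
    simpa using this.symm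
  have hchi : S.chi g = 1 := by rwa [pow_two, haa, mul_one] at hb
  rcases mul_self_eq_one_iff.1 haa with rfl | rfl
  · left
    refine Subgroup.inclusion_injective S.H_le_blk (blk_ext (by rw [map_one (S.toBlk), map_one]; exact hchi) ?_)
    rw [ha, one_smul, map_one, map_one, Units.val_one]
  · right
    refine Subgroup.inclusion_injective S.H_le_blk (blk_ext (hchi.trans (S.data_t).1.symm) ?_)
    rw [ha, (S.data_t).2]
    ext i j; fin_cases i <;> fin_cases j <;> simp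

lemma chi_of_invol {g : S.H} (hg : g * g = 1) (h : S.π g ≠ 1) : S.chi g = -1 := by
  set A := (eta S.Q1 (S.toBlk g) : Matrix (Fin 2) (Fin 2) F) with hA
  have hAA : A * A = 1 := by
    rw [hA, ← Units.val_mul, ← map_mul, ← map_mul, hg, map_one, map_one, Units.val_one]
  have e00 := congrFun (congrFun hAA 0) 0
  have e01 := congrFun (congrFun hAA 0) 1
  have e10 := congrFun (congrFun hAA 1) 0
  have e11 := congrFun (congrFun hAA 1) 1
  simp [Matrix.mul_apply, Fin.sum_univ_two, Matrix.vecMul, dotProduct] at e00 e01 e10 e11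
  have hd : A.det = -1 := by
    rw [Matrix.det_fin_two]
    by_cases ht : A 0 0 + A 1 1 = 0
    · linear_combination A 0 0 * ht - e00
    · exfalso
      have a01 : A 0 1 = 0 := (mul_eq_zero.1 (show (A 0 0 + A 1 1) * A 0 1 = 0 by linear_combination e01)).resolve_left ht
      have a10 : A 1 0 = 0 := (mul_eq_zero.1 (show (A 0 0 + A 1 1) * A 1 0 = 0 by linear_combination e10)).resolve_left ht
      have hd : A 0 0 = A 1 1 := sub_eq_zero.1 ((mul_eq_zero.1
        (show (A 0 0 + A 1 1) * (A 0 0 - A 1 1) = 0 by linear_combination e00 - e11)).resolve_left ht)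
      refine h (proj_eq_one_iff.2 ⟨A 0 0, fun e => ?_, ?_⟩)
      · exact ht (by rw [← hd, e, add_zero])
      · show A = _
        ext i j; fin_cases i <;> fin_cases j <;> simp [a01, a10, hd]
  have := S.chi_mul_det g
  rw [← hA, hd] at this
  linear_combination -this

lemma exists_reflection (hF : S.Fused) :
    ∃ r : S.H, r * r = 1 ∧ S.π r ≠ 1 ∧ S.chi r = -1 ∧ ∃ g ∈ S.M, (r : GL (Fin 3) F) = g * S.t * g⁻¹ := by
  obtain ⟨g, hg, hc, hne⟩ := hF
  let r : S.H := ⟨g * S.t * g⁻¹, S.mem_H.2 ⟨mul_mem (mul_mem hg S.t_mem) (inv_mem hg), hc⟩⟩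
  have hrr : r * r = 1 := Subtype.ext (by
    show g * S.t * g⁻¹ * (g * S.t * g⁻¹) = 1
    rw [show g * S.t * g⁻¹ * (g * S.t * g⁻¹) = g * (S.t * S.t) * g⁻¹ by group, S.t_sq, mul_one, mul_inv_cancel])
  have hπ : S.π r ≠ 1 := fun e => by
    rcases S.kernel_invol e hrr with h | h
    · have h' : g * S.t * g⁻¹ = 1 := congrArg Subtype.val h
      rw [mul_inv_eq_one, mul_eq_left] at h'
      have h'' := congrFun (congrFun (congrArg (Units.val : GL (Fin 3) F → Matrix (Fin 3) (Fin 3) F) h') 0) 0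
      rw [S.t_val, Units.val_one] at h''
      simp at h''
      exact S.two (by linear_combination -h'')
    · exact hne (congrArg Subtype.val h)
  exact ⟨r, hrr, hπ, S.chi_of_invol hrr hπ, g, hg, rfl⟩

/-- The image as an element. -/
noncomputable def jof (g : S.H) : S.J := ⟨S.π g, g, rfl⟩

open scoped Classical in
lemma J_cases :
    (∃ x y, SwapPair S.J x y) ∨ (Even (Nat.card S.J) ∧ 3 ∣ Nat.card S.J ∧ Except S.J) := by
  haveI := S.fact
  haveI := S.charP_K
  rcases tame_cases S.p S.J S.not_dvd_card_J with ⟨x, y, hxy, hf⟩ | h | h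
  · exfalso
    obtain ⟨hu, hv, -, huv, uu, vv, -⟩ := S.four_group
    exact huv (invol_unique hxy (hf _ ⟨_, rfl⟩).1 (hf _ ⟨_, rfl⟩).2 uu hu (hf _ ⟨_, rfl⟩).1 (hf _ ⟨_, rfl⟩).2 vv hv)
  · exact Or.inl h
  · exact Or.inr h

open scoped Classical in
lemma exists_zeta {x y : OnePoint (AlgebraicClosure F)} (hS : SwapPair S.J x y) :
    ∃ w : S.H, (w = S.uH ∨ w = S.vH ∨ w = S.uH * S.vH) ∧ S.π w • x = x ∧ S.π w • y = y ∧
      S.π w * S.π w = 1 ∧ S.π w ≠ 1 := by
  obtain ⟨hu, hv, huv1, -, uu, vv, cm⟩ := S.four_group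
  have ww : S.π (S.uH * S.vH) * S.π (S.uH * S.vH) = 1 := by
    rw [map_mul]
    calc S.π S.uH * S.π S.vH * (S.π S.uH * S.π S.vH) = S.π S.uH * (S.π S.vH * S.π S.uH) * S.π S.vH := by
          simp only [mul_assoc]
      _ = (S.π S.uH * S.π S.uH) * (S.π S.vH * S.π S.vH) := by rw [← cm]; simp only [mul_assoc]
      _ = 1 := by rw [uu, vv, mul_one]
  rcases hS.mem _ ⟨S.uH, rfl⟩ with ⟨a, b⟩ | ⟨a, b⟩
  · exact ⟨_, Or.inl rfl, a, b, uu, hu⟩
  rcases hS.mem _ ⟨S.vH, rfl⟩ with ⟨c, d⟩ | ⟨c, d⟩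
  · exact ⟨_, Or.inr (Or.inl rfl), c, d, vv, hv⟩
  exact ⟨_, Or.inr (Or.inr rfl), by rw [map_mul, mul_smul, c, b], by rw [map_mul, mul_smul, d, a], ww, huv1⟩

open scoped Classical in
lemma commute_zeta {x y : OnePoint (AlgebraicClosure F)} (hS : SwapPair S.J x y) {w g : S.H}
    (wx : S.π w • x = x) (wy : S.π w • y = y) (hw : S.π w * S.π w = 1) (hw1 : S.π w ≠ 1) :
    S.π g * S.π w = S.π w * S.π g := by
  rcases hS.mem _ ⟨g, rfl⟩ with ⟨gx, gy⟩ | ⟨gx, gy⟩
  · exact commute_of_fix hS.ne gx gy wx wy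
  · have gi : (S.π g)⁻¹ • x = y ∧ (S.π g)⁻¹ • y = x := ⟨by rw [← gy, inv_smul_smul], by rw [← gx, inv_smul_smul]⟩
    have e := invol_unique hS.ne (g := S.π g * S.π w * (S.π g)⁻¹) (h := S.π w)
      (by rw [mul_smul, mul_smul, gi.1, wy, gy]) (by rw [mul_smul, mul_smul, gi.2, wx, gx])
      (by rw [show S.π g * S.π w * (S.π g)⁻¹ * (S.π g * S.π w * (S.π g)⁻¹) = S.π g * (S.π w * S.π w) * (S.π g)⁻¹ by
        group, hw, mul_one, mul_inv_cancel])
      (fun e => hw1 (by rwa [mul_inv_eq_one, mul_eq_left] at e)) wx wy hw hw1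
    exact mul_inv_eq_iff_eq_mul.1 e

lemma not_conj_four {r k : S.H} (hr : S.chi r ^ 3 = -1) :
    S.π k * S.π r * (S.π k)⁻¹ ≠ S.π S.uH ∧ S.π k * S.π r * (S.π k)⁻¹ ≠ S.π S.vH ∧
      S.π k * S.π r * (S.π k)⁻¹ ≠ S.π (S.uH * S.vH) := by
  have hk : S.chi (k * r * k⁻¹) ^ 3 = -1 := by
    have h1 : S.chi k * S.chi k⁻¹ = 1 := by rw [← map_mul, mul_inv_cancel, map_one]
    rw [map_mul, map_mul, mul_pow, mul_pow, hr, mul_comm (S.chi k ^ 3), mul_assoc, ← mul_pow, h1, one_pow, mul_one]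
  have key : ∀ w : S.H, S.chi w ^ 3 = 1 → S.π k * S.π r * (S.π k)⁻¹ ≠ S.π w := fun w hw e => by
    rw [← map_inv, ← map_mul, ← map_mul] at e
    have := S.chi_cube_eq e
    rw [hk, hw] at this
    exact S.two (by linear_combination -this)
  obtain ⟨a, b, c⟩ := S.chi_cube_four
  exact ⟨key _ a, key _ b, key _ c⟩

lemma not_commute_diag {g : S.H} {α β : F} (hαβ : α ≠ β)
    (hg : (eta S.Q1 (S.toBlk g) : Matrix (Fin 2) (Fin 2) F) = !![α, 0; 0, β]) {w : S.H}
    (hw : w = S.uH ∨ w = S.vH ∨ w = S.uH * S.vH) : S.π g * S.π w ≠ S.π w * S.π g := by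
  intro e
  obtain ⟨h1, h2, h3⟩ := S.eta_entries_ne
  have hne : ∀ i j : Fin 2, (eta S.Q1 (S.toBlk w) : Matrix (Fin 2) (Fin 2) F) i j ≠ 0 := by
    rcases hw with rfl | rfl | rfl
    exacts [h1, h2, h3]
  rw [← map_mul, ← map_mul] at e
  obtain ⟨s, -, hs⟩ := proj_eq_iff.1 e
  rw [map_mul, map_mul, map_mul, map_mul, Units.val_mul, Units.val_mul, hg] at hs
  have e00 := congrFun (congrFun hs 0) 0
  have e01 := congrFun (congrFun hs 0) 1
  simp [Matrix.mul_apply, Fin.sum_univ_two, Matrix.vecMul, dotProduct] at e00 e01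
  generalize hW : (eta S.Q1 (S.toBlk w) : Matrix (Fin 2) (Fin 2) F) = W at *
  have hα : α ≠ 0 := fun e => by
    have := S.chi_mul_det g
    rw [hg, Matrix.det_fin_two, e] at this
    simp at this
  have hs1 : s = 1 := by
    have : (s - 1) * (α * W 0 0) = 0 := by linear_combination -e00
    exact sub_eq_zero.1 ((mul_eq_zero.1 this).resolve_right (mul_ne_zero hα (hne 0 0)))
  have : (β - α) * W 0 1 = 0 := by rw [hs1] at e01; linear_combination e01
  exact hαβ (sub_eq_zero.1 ((mul_eq_zero.1 this).resolve_right (hne 0 1))).symm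

lemma mul_mem_shift {k : GL (Fin 3) F} (hk : k ∈ S.M) :
    S.b * k * S.b⁻¹ ∈ S.M ∧ S.b * (S.b * k * S.b⁻¹) * S.b⁻¹ ∈ S.M :=
  ⟨mul_mem (mul_mem S.b_mem hk) (inv_mem S.b_mem),
    mul_mem (mul_mem S.b_mem (mul_mem (mul_mem S.b_mem hk) (inv_mem S.b_mem))) (inv_mem S.b_mem)⟩

variable (hF : S.Fused)
include hF

open scoped Classical in
theorem no_nine : ¬ 9 ∣ Fintype.card F - 1 := by
  intro h9
  obtain ⟨y₀, hy₀, d, hd, hyv⟩ := S.exists_y h9
  obtain ⟨r, hrr, hrπ, hr, -⟩ := S.exists_reflection hF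
  have hyH : y₀ ∈ S.H := S.mem_H.2 ⟨hy₀, Units.ext (by
    rw [Units.val_mul, Units.val_mul, hyv, S.t_val]
    ext i j; fin_cases i <;> fin_cases j <;> simp [Matrix.mul_apply, Fin.sum_univ_three, Matrix.diagonal_apply])⟩
  set y : S.H := ⟨y₀, hyH⟩
  obtain ⟨hchi, heta⟩ := S.eta_of_inFrame (g := y) (b₀ := d * S.μ ^ 2) (A := !![d, 0; 0, d * S.μ ^ 2]) (inFrame_eq (by
    show (y₀ : Matrix (Fin 3) (Fin 3) F) * _ = _
    rw [hyv, Q1_val]
    ext i j; fin_cases i <;> fin_cases j <;> simp [Matrix.mul_apply, Fin.sum_univ_three, Matrix.diagonal_apply]))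
  have hμ := S.mu_ne
  have hd0 : d ≠ 0 := fun e => pow_ne_zero 2 hμ (by rw [← hd, e]; simp)
  have hμ2 : S.μ ^ 2 ≠ 1 := fun e => by
    have := S.prim.eq_orderOf ▸ orderOf_dvd_of_pow_eq_one e
    omega
  have hne : d ≠ d * S.μ ^ 2 := fun e => hμ2 (mul_left_cancel₀ hd0 (by rw [mul_one]; exact e.symm))
  have hy1 : S.π y ≠ 1 := fun e => by
    obtain ⟨s, -, hs⟩ := proj_eq_one_iff.1 e
    have hs' : (eta S.Q1 (S.toBlk y) : Matrix (Fin 2) (Fin 2) F) = s • 1 := hs
    rw [heta] at hs'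
    have a := congrFun (congrFun hs' 0) 0
    have b := congrFun (congrFun hs' 1) 1
    simp at a b
    exact hne (a.trans b.symm)
  have hy3 : S.π y * S.π y * S.π y = 1 := by
    rw [← map_mul, ← map_mul]
    refine proj_eq_one_iff.2 ⟨d ^ 3, pow_ne_zero _ hd0, ?_⟩
    rw [map_mul, map_mul, map_mul, map_mul, Units.val_mul, Units.val_mul, heta]
    have := S.mu_cube
    ext i j; fin_cases i <;> fin_cases j <;> simp [Matrix.mul_apply, Fin.sum_univ_two] <;> grind
  rcases S.J_cases with ⟨x, y', hS⟩ | ⟨-, -, hE⟩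
  · obtain ⟨w, hw, wx, wy, ww, w1⟩ := S.exists_zeta hS
    exact S.not_commute_diag hne heta hw (S.commute_zeta hS wx wy ww w1)
  · obtain ⟨hu, hv, -, huv, uu, vv, cm⟩ := S.four_group
    rcases hE.three (S.jof y) (S.jof r) (S.jof S.uH) (S.jof S.vH) (Subtype.ext hy3)
      (Subtype.ext ((map_mul S.π r r).symm.trans (by rw [hrr, map_one]; rfl))) (fun e => hrπ (congrArg Subtype.val e))
      (Subtype.ext uu) (fun e => hu (congrArg Subtype.val e)) (Subtype.ext vv) (fun e => hv (congrArg Subtype.val e))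
      (fun e => huv (congrArg Subtype.val e)) (Subtype.ext cm) with ⟨⟨_, k, rfl⟩, hk⟩ | ⟨⟨_, k, rfl⟩, hk⟩
    · have e : S.π (k * y * k⁻¹) = S.π y⁻¹ := by
        rw [map_mul, map_mul, map_inv, map_inv]
        exact congrArg Subtype.val hk
      have h1 := S.chi_cube_eq e
      have hk1 : S.chi k * S.chi k⁻¹ = 1 := by rw [← map_mul, mul_inv_cancel, map_one]
      have hy1' : S.chi y * S.chi y⁻¹ = 1 := by rw [← map_mul, mul_inv_cancel, map_one]
      have h6 : S.chi y ^ 6 = 1 := by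
        rw [map_mul, map_mul, mul_pow, mul_pow, mul_right_comm, ← mul_pow, hk1, one_pow, one_mul] at h1
        calc S.chi y ^ 6 = S.chi y ^ 3 * S.chi y⁻¹ ^ 3 := by rw [← h1]; ring
          _ = 1 := by rw [← mul_pow, hy1', one_pow]
      rw [hchi, mul_pow, show d ^ 6 = (d ^ 3) ^ 2 by ring, hd] at h6
      exact S.mu_ne_one (by linear_combination h6 - (S.μ * (S.μ ^ 3) ^ 4 + S.μ * (S.μ ^ 3) ^ 3 + S.μ * (S.μ ^ 3) ^ 2 + S.μ * S.μ ^ 3 + S.μ) * S.mu_cube)
    · obtain ⟨a, b, c⟩ := S.not_conj_four (r := r) (k := k) (by rw [hr]; norm_num)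
      rcases hk with h | h | h
      · exact a (congrArg Subtype.val h)
      · exact b (congrArg Subtype.val h)
      · exact c ((congrArg Subtype.val h).trans (map_mul S.π S.uH S.vH).symm)

open scoped Classical in
/-- No diagonal sign element in the overgroup. -/
theorem no_sign {w : GL (Fin 3) F} (hw : w ∈ S.M) :
    (w : Matrix (Fin 3) (Fin 3) F) ≠ Matrix.diagonal ![1, -1, -1] := by
  intro hwv
  have h2 := S.two
  have hwH : w ∈ S.H := S.mem_H.2 ⟨hw, Units.ext (by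
    rw [Units.val_mul, Units.val_mul, hwv, S.t_val]
    ext i j; fin_cases i <;> fin_cases j <;> simp [Matrix.mul_apply, Fin.sum_univ_three, Matrix.diagonal_apply])⟩
  set h : S.H := ⟨w, hwH⟩
  obtain ⟨hchi, heta⟩ := S.eta_of_inFrame (g := h) (b₀ := -1) (A := !![1, 0; 0, -1]) (inFrame_eq (by
    show (w : Matrix (Fin 3) (Fin 3) F) * _ = _
    rw [hwv, Q1_val]
    ext i j; fin_cases i <;> fin_cases j <;> simp [Matrix.mul_apply, Fin.sum_univ_three, Matrix.diagonal_apply]))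
  have hne : (1 : F) ≠ -1 := fun e => h2 (by linear_combination e)
  have hh : h * h = 1 := Subtype.ext (Units.ext (by
    show ((w * w : GL (Fin 3) F) : Matrix (Fin 3) (Fin 3) F) = 1
    rw [Units.val_mul, hwv]
    ext i j; fin_cases i <;> fin_cases j <;> simp [Matrix.mul_apply, Fin.sum_univ_three, Matrix.diagonal_apply]))
  have hπ : S.π h ≠ 1 := fun e => by
    obtain ⟨s, -, hs⟩ := proj_eq_one_iff.1 e
    have hs' : (eta S.Q1 (S.toBlk h) : Matrix (Fin 2) (Fin 2) F) = s • 1 := hs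
    rw [heta] at hs'
    have a := congrFun (congrFun hs' 0) 0
    have b := congrFun (congrFun hs' 1) 1
    simp at a b
    exact hne (a.trans b.symm)
  rcases S.J_cases with ⟨x, y', hS⟩ | ⟨-, -, hE⟩
  · obtain ⟨w', hw', wx, wy, ww, w1⟩ := S.exists_zeta hS
    exact S.not_commute_diag hne heta hw' (S.commute_zeta hS wx wy ww w1)
  · obtain ⟨hu, hv, -, huv, uu, vv, cm⟩ := S.four_group
    rcases hE.four (S.jof h) (S.jof S.uH) (S.jof S.vH)
      (Subtype.ext ((map_mul S.π h h).symm.trans (by rw [hh, map_one]; rfl))) (fun e => hπ (congrArg Subtype.val e))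
      (Subtype.ext uu) (fun e => hu (congrArg Subtype.val e)) (Subtype.ext vv) (fun e => hv (congrArg Subtype.val e))
      (fun e => huv (congrArg Subtype.val e)) (Subtype.ext cm) with (e | e | e) | ⟨⟨_, k, rfl⟩, hk⟩
    · exact S.not_commute_diag hne heta (Or.inl rfl) (congrArg Subtype.val e)
    · exact S.not_commute_diag hne heta (Or.inr (Or.inl rfl)) (congrArg Subtype.val e)
    · exact S.not_commute_diag hne heta (Or.inr (Or.inr rfl)) (by rw [map_mul]; exact congrArg Subtype.val e)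
    · obtain ⟨a, b, c⟩ := S.not_conj_four (r := h) (k := k) (by rw [hchi]; norm_num)
      rcases hk with e | e | e
      · exact a (congrArg Subtype.val e)
      · exact b (congrArg Subtype.val e)
      · exact c ((congrArg Subtype.val e).trans (map_mul S.π S.uH S.vH).symm)

set_option maxHeartbeats 1000000 in
/-- No involution centralises a non-central element of the extraspecial group. -/
theorem no_invol_R {x w : GL (Fin 3) F} (hx : x ∈ S.R) (hns : ∀ m, x ≠ S.z ^ m) (hw : w ∈ S.M) (hww : w * w = 1)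
    (hw1 : w ≠ 1) : w * x ≠ x * w := by
  intro hc
  obtain ⟨q, hq, m, hm⟩ := S.exists_conj_a hx hns
  obtain ⟨k, hk⟩ : ∃ k, k = q * w * q⁻¹ := ⟨_, rfl⟩
  have hkM : k ∈ S.M := by rw [hk]; exact mul_mem (mul_mem hq.1 hw) (inv_mem hq.1)
  have hka : k * S.a = S.a * k := by
    have e : k * (S.z ^ m * S.a) = S.z ^ m * S.a * k := by
      rw [← hm, hk, show q * w * q⁻¹ * (q * x * q⁻¹) = q * (w * x) * q⁻¹ by group, hc]
      group
    rw [← mul_assoc, ← S.z_pow_comm, mul_assoc, mul_assoc] at e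
    exact mul_left_cancel e
  have hkk : k * k = 1 := by
    rw [hk, show q * w * q⁻¹ * (q * w * q⁻¹) = q * (w * w) * q⁻¹ by group, hww, mul_one, mul_inv_cancel]
  set d : Fin 3 → F := fun i => (k : Matrix (Fin 3) (Fin 3) F) i i with hd
  have hkd : (k : Matrix (Fin 3) (Fin 3) F) = Matrix.diagonal d := by
    ext i j
    by_cases h : i = j
    · subst h; simp [d]
    · rw [S.diag_of_commute_a hka h, Matrix.diagonal_apply_ne _ h]
  have hsq : ∀ i, d i * d i = 1 := fun i => by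
    have e := congrArg (Units.val : GL (Fin 3) F → Matrix (Fin 3) (Fin 3) F) hkk
    rw [Units.val_mul, hkd, Matrix.diagonal_mul_diagonal, Units.val_one, ← Matrix.diagonal_one] at e
    exact congrFun (Matrix.diagonal_injective e) i
  have hdet : d 0 * d 1 * d 2 = 1 := by
    have := S.det_eq hkM
    rwa [hkd, Matrix.det_diagonal, Fin.prod_univ_three] at this
  have hshift : ∀ (g : GL (Fin 3) F) (e : Fin 3 → F), (g : Matrix (Fin 3) (Fin 3) F) = Matrix.diagonal e →
      ((S.b * g * S.b⁻¹ : GL (Fin 3) F) : Matrix (Fin 3) (Fin 3) F) = Matrix.diagonal ![e 2, e 0, e 1] := by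
    intro g e he
    have hb : S.b⁻¹ = S.b * S.b := inv_eq_of_mul_eq_one_right (by rw [← mul_assoc, ← pow_two, ← pow_succ, S.b_cube])
    rw [hb, Units.val_mul, Units.val_mul, Units.val_mul, he, S.b_val]
    ext i j
    fin_cases i <;> fin_cases j <;>
      simp [CfsgLib.Elusive.cycMat, Matrix.mul_apply, Fin.sum_univ_three, Matrix.diagonal_apply, Matrix.vecMul_diagonal]
  have hbk := S.mul_mem_shift hkM
  rcases mul_self_eq_one_iff.1 (hsq 0) with a0 | a0 <;> rcases mul_self_eq_one_iff.1 (hsq 1) with a1 | a1 <;>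
    rcases mul_self_eq_one_iff.1 (hsq 2) with a2 | a2
  · have h1 : k = 1 := Units.ext (by
      rw [hkd, Units.val_one, ← Matrix.diagonal_one]
      congr 1; funext i; fin_cases i <;> assumption)
    rw [hk, mul_inv_eq_one, mul_eq_left] at h1
    exact hw1 h1
  all_goals first
    | (exact S.two (by rw [a0, a1, a2] at hdet; linear_combination -hdet))
    | (refine S.no_sign hF hkM ?_
       rw [hkd]; congr 1; funext i; fin_cases i <;> assumption)
    | (refine S.no_sign hF hbk.1 ?_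
       rw [hshift _ _ hkd]; congr 1; funext i; fin_cases i <;> assumption)
    | (refine S.no_sign hF hbk.2 ?_
       rw [hshift _ _ (hshift _ _ hkd)]; congr 1; funext i; fin_cases i <;> assumption)

end Setup

end CfsgLib.Geo.SL3.Hessian
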