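/-
The fused case: conjugacy of involutions, three-elements, and the torus in the centraliser of the involution.
-/
import Cfsg.Agent.Geo.SLThree.Hessian.Fused

set_option autoImplicit false
set_option linter.unusedSectionVars false

namespace CfsgLib.Geo.SL3.Hessian

open Matrix Cfsg Cfsg.Geo CfsgLib.Geo CfsgLib.Dickson

namespace Setup

variable {F : Type*} [Field F] [Fintype F] (S : Setup F)

/-- The centre as an element of the centraliser. -/
def zH : S.H := ⟨S.z, by simpa using S.z_pow_mem_H 1⟩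

lemma pow_eq_one_of_coprime {G : Type*} [Monoid G] {x : G} {m n : ℕ} (h : Nat.Coprime m n) (hm : x ^ m = 1)
    (hn : x ^ n = 1) : x = 1 := by
  have := pow_gcd_eq_one.2 ⟨hm, hn⟩
  rwa [h.gcd_eq_one, pow_one] at this

lemma zH_cube : S.zH ^ 3 = 1 := Subtype.ext S.z_cube

lemma tH_sq : S.tH * S.tH = 1 := Subtype.ext S.t_sq

lemma t_ne_one : S.t ≠ 1 := fun h => by
  have h'' := congrFun (congrFun (congrArg (Units.val : GL (Fin 3) F → Matrix (Fin 3) (Fin 3) F) h) 0) 0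
  rw [S.t_val, Units.val_one] at h''
  simp at h''
  exact S.two (by linear_combination -h'')

lemma z_ne_one : S.z ≠ 1 := fun h => by
  have h'' := congrFun (congrFun (congrArg (Units.val : GL (Fin 3) F → Matrix (Fin 3) (Fin 3) F) h) 0) 0
  rw [S.z_val, Units.val_one] at h''
  simp at h''
  exact S.mu_ne_one h''

lemma tH_ne_one : S.tH ≠ 1 := fun h => S.t_ne_one (congrArg Subtype.val h)

lemma zH_comm (g : S.H) : Commute S.zH g := Subtype.ext (S.z_comm g)

lemma tH_comm (g : S.H) : Commute S.tH g := Subtype.ext (S.mem_H.1 g.2).2.symm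

lemma data_z : S.chi S.zH = S.μ ∧ (eta S.Q1 (S.toBlk S.zH) : Matrix (Fin 2) (Fin 2) F) = S.μ • 1 := by
  obtain ⟨h1, h2⟩ := S.eta_of_inFrame (g := S.zH) (b₀ := S.μ) (A := !![S.μ, 0; 0, S.μ]) (by
    show inFrame S.Q1 S.z = _
    rw [inFrame_scalar (c := S.μ) S.z_val]
    ext i j; fin_cases i <;> fin_cases j <;> simp)
  refine ⟨h1, h2.trans ?_⟩
  ext i j; fin_cases i <;> fin_cases j <;> simp

lemma pi_z : S.π S.zH = 1 := proj_eq_one_iff.2 ⟨S.μ, S.mu_ne, (S.data_z).2⟩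

lemma ext_H {g h : S.H} (h1 : S.chi g = S.chi h)
    (h2 : (eta S.Q1 (S.toBlk g) : Matrix (Fin 2) (Fin 2) F) = (eta S.Q1 (S.toBlk h) : Matrix (Fin 2) (Fin 2) F)) :
    g = h := Subgroup.inclusion_injective S.H_le_blk (blk_ext h1 h2)

/-- The kernel of the action on the axis. -/
lemma kernel_form {g : S.H} (h : S.π g = 1) : ∃ i j : ℕ, g = S.zH ^ i * S.tH ^ j := by
  obtain ⟨a, ha6, hb, ha⟩ := S.pi_eq_one h
  have key : ∀ (c : F) (i j : ℕ), a = c → c = S.μ ^ i * (-1) ^ j → ∃ i j : ℕ, g = S.zH ^ i * S.tH ^ j := by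
    intro c i j hc hc'
    refine ⟨i, j, S.ext_H ?_ ?_⟩
    · rw [map_mul, map_pow, map_pow, (S.data_z).1, (S.data_t).1, one_pow, mul_one]
      calc S.chi g = S.chi g * (S.μ ^ i * (-1) ^ j) ^ 2 * S.μ ^ i := by
            rw [mul_pow, ← pow_mul (-1 : F) j, mul_comm j, pow_mul, neg_one_sq, one_pow, mul_one,
              mul_assoc, ← pow_succ, ← pow_mul, mul_comm i, pow_mul, S.mu_cube, one_pow, mul_one]
        _ = S.μ ^ i := by rw [← hc', ← hc, hb, one_mul]
    · have e1 : (eta S.Q1 (S.toBlk S.tH) : Matrix (Fin 2) (Fin 2) F) = (-1 : F) • 1 := by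
        rw [(S.data_t).2]
        ext i j; fin_cases i <;> fin_cases j <;> simp
      rw [ha, map_mul, map_mul, Units.val_mul, map_pow, map_pow, map_pow, map_pow, Units.val_pow_eq_pow_val,
        Units.val_pow_eq_pow_val, (S.data_z).2, e1, smul_pow, smul_pow, one_pow, one_pow, smul_mul_smul_comm, mul_one, hc, hc']
  have h3 : a ^ 3 = 1 ∨ a ^ 3 = -1 := mul_self_eq_one_iff.1 (by rw [← pow_add]; exact ha6)
  rcases h3 with h3 | h3
  · obtain ⟨i, -, hi⟩ := S.prim.eq_pow_of_pow_eq_one h3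
    exact key a i 0 rfl (by rw [hi, pow_zero, mul_one])
  · obtain ⟨i, -, hi⟩ := S.prim.eq_pow_of_pow_eq_one (ξ := -a) (by linear_combination -h3)
    exact key a i 1 rfl (by rw [pow_one]; linear_combination hi)

lemma kernel_central {g : S.H} (h : S.π g = 1) (x : S.H) : Commute g x := by
  obtain ⟨i, j, rfl⟩ := S.kernel_form h
  exact ((S.zH_comm x).pow_left i).mul_left ((S.tH_comm x).pow_left j)

lemma ker_eq : S.π.ker = Subgroup.zpowers (S.zH * S.tH) := by
  have hc : Commute S.zH S.tH := S.zH_comm _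
  refine le_antisymm (fun g hg => ?_) (by rw [Subgroup.zpowers_le, MonoidHom.mem_ker, map_mul, pi_z, pi_t, one_mul])
  obtain ⟨i, j, rfl⟩ := S.kernel_form hg
  have ez : S.zH = (S.zH * S.tH) ^ 4 := by
    rw [hc.mul_pow, pow_succ S.zH 3, S.zH_cube, one_mul, show (4 : ℕ) = 2 * 2 from rfl, pow_mul, pow_two S.tH,
      S.tH_sq, one_pow, mul_one]
  have et : S.tH = (S.zH * S.tH) ^ 3 := by
    rw [hc.mul_pow, S.zH_cube, one_mul, pow_succ, pow_two, S.tH_sq, one_mul]
  have hz : S.zH ∈ Subgroup.zpowers (S.zH * S.tH) := by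
    have := pow_mem (Subgroup.mem_zpowers (S.zH * S.tH)) 4
    rwa [← ez] at this
  have ht : S.tH ∈ Subgroup.zpowers (S.zH * S.tH) := by
    have := pow_mem (Subgroup.mem_zpowers (S.zH * S.tH)) 3
    rwa [← et] at this
  exact mul_mem (pow_mem hz i) (pow_mem ht j)

lemma card_ker : Nat.card S.π.ker = 6 := by
  haveI : Fact (Nat.Prime 3) := ⟨Nat.prime_three⟩
  rw [S.ker_eq, Nat.card_zpowers]
  have h3 : orderOf S.zH = 3 := orderOf_eq_prime S.zH_cube fun h => S.z_ne_one (congrArg Subtype.val h)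
  have h2 : orderOf S.tH = 2 := orderOf_eq_prime (by rw [pow_two, S.tH_sq]) S.tH_ne_one
  rw [(S.zH_comm S.tH).orderOf_mul_eq_mul_orderOf_of_coprime (by rw [h3, h2]; norm_num), h3, h2]

lemma card_H_eq : Nat.card S.H = 6 * Nat.card S.J := by
  rw [← S.π.ker.card_mul_index, S.card_ker, Subgroup.index_ker]
  rfl

variable (hF : S.Fused)
include hF

/-- Every three-element of the overgroup is conjugate into the extraspecial group. -/
lemma three_conj {g : GL (Fin 3) F} (hg : g ∈ S.M) {n : ℕ} (ho : g ^ 3 ^ n = 1) :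
    ∃ q ∈ S.M, q * g * q⁻¹ ∈ S.R := by
  haveI : Fact (Nat.Prime 3) := ⟨Nat.prime_three⟩
  have hR : IsPGroup 3 (S.R.subgroupOf S.M) :=
    IsPGroup.of_card (n := 3) ((Nat.card_congr (Subgroup.subgroupOfEquivOfLe S.R_le).toEquiv).trans S.card_R)
  obtain ⟨P, hP⟩ := hR.exists_le_sylow
  have hPR : (P : Subgroup S.M) = S.R.subgroupOf S.M := by
    refine le_antisymm (fun x hx => ?_) hP
    by_contra hxR
    have hlt : (S.R.subgroupOf S.M).subgroupOf (P : Subgroup S.M) < ⊤ :=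
      lt_top_iff_ne_top.2 fun h => hxR (Subgroup.subgroupOf_eq_top.1 h hx)
    haveI : Group.IsNilpotent (P : Subgroup S.M) := P.isPGroup'.isNilpotent
    have hN := Group.normalizerCondition_of_isNilpotent _ hlt
    obtain ⟨y, hy, hyR⟩ := SetLike.exists_of_lt hN
    refine hyR ?_
    obtain ⟨m, hm⟩ := P.isPGroup' y
    have hm' : ((y : S.M) : GL (Fin 3) F) ^ 3 ^ m = 1 := by
      have := congrArg (fun w : (P : Subgroup S.M) => ((w : S.M) : GL (Fin 3) F)) hm
      simpa using this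
    refine S.mem_R_of_three (S.no_nine hF) ⟨(y : S.M).2, ?_⟩ hm'
    have hconj : ∀ r ∈ S.R, ((y : S.M) : GL (Fin 3) F) * r * ((y : S.M) : GL (Fin 3) F)⁻¹ ∈ S.R := fun r hr => by
      have hrP : (⟨r, S.R_le hr⟩ : S.M) ∈ (P : Subgroup S.M) := hP hr
      exact (Subgroup.mem_normalizer_iff.1 hy ⟨_, hrP⟩).1 hr
    exact CfsgLib.Elusive.mem_normalizer_of_gen rfl (hconj _ S.a_mem_R) (hconj _ S.b_mem_R)
  have hgp : IsPGroup 3 (Subgroup.zpowers (⟨g, hg⟩ : S.M)) := fun w => ⟨n, by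
    obtain ⟨i, hi⟩ := Subgroup.mem_zpowers_iff.1 w.2
    refine Subtype.ext ?_
    rw [SubmonoidClass.coe_pow, ← hi, OneMemClass.coe_one, ← _root_.zpow_natCast, ← _root_.zpow_mul, mul_comm,
      _root_.zpow_mul, _root_.zpow_natCast, show (⟨g, hg⟩ : S.M) ^ 3 ^ n = 1 from Subtype.ext ho, _root_.one_zpow]⟩
  obtain ⟨Q, hQ⟩ := hgp.exists_le_sylow
  obtain ⟨q, hq⟩ := MulAction.exists_smul_eq S.M Q P
  refine ⟨q, q.2, ?_⟩
  have : q * (⟨g, hg⟩ : S.M) * q⁻¹ ∈ (P : Subgroup S.M) := by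
    rw [← hq, Sylow.coe_subgroup_smul]
    exact Subgroup.smul_mem_pointwise_smul _ (MulAut.conj q) _ (hQ (Subgroup.mem_zpowers _))
  rw [hPR] at this
  exact this

/-- The three-elements centralising the involution are scalar. -/
lemma three_H (g : S.H) {n : ℕ} (ho : g ^ 3 ^ n = 1) : ∃ i, (g : GL (Fin 3) F) = S.z ^ i := by
  obtain ⟨hgM, hgt⟩ := S.mem_H.1 g.2
  obtain ⟨q, hq, hR⟩ := S.three_conj hF hgM (n := n) (by
    simpa using congrArg (fun w : S.H => (w : GL (Fin 3) F)) ho)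
  by_contra hns
  push Not at hns
  refine S.no_invol_R hF hR (fun m hm => hns m ?_) (w := q * S.t * q⁻¹) (mul_mem (mul_mem hq S.t_mem) (inv_mem hq))
    (by rw [show q * S.t * q⁻¹ * (q * S.t * q⁻¹) = q * (S.t * S.t) * q⁻¹ by group, S.t_sq, mul_one, mul_inv_cancel])
    (fun e => S.t_ne_one (by rwa [mul_inv_eq_one, mul_eq_left] at e)) ?_
  · rw [mul_inv_eq_iff_eq_mul, S.z_pow_comm] at hm
    exact mul_left_cancel hm
  · rw [show q * S.t * q⁻¹ * (q * g * q⁻¹) = q * (S.t * g) * q⁻¹ by group, ← hgt]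
    group

lemma not_nine_H : ¬ 9 ∣ Nat.card S.H := by
  intro h
  haveI : Fact (Nat.Prime 3) := ⟨Nat.prime_three⟩
  obtain ⟨Q, hQ⟩ := Sylow.exists_subgroup_card_pow_prime 3 (n := 2) (G := S.H) (by simpa using h)
  have hle : Q ≤ Subgroup.zpowers S.zH := by
    intro g hg
    obtain ⟨n, hn⟩ := IsPGroup.of_card hQ ⟨g, hg⟩
    obtain ⟨i, hi⟩ := S.three_H hF g (congrArg Subtype.val hn)
    rw [show g = S.zH ^ i from Subtype.ext hi]
    exact pow_mem (Subgroup.mem_zpowers _) i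
  have h1 := Subgroup.card_le_of_le hle
  rw [hQ, Nat.card_zpowers] at h1
  have := orderOf_le_of_pow_eq_one (by norm_num) S.zH_cube
  omega

open scoped Classical in
lemma exists_swap : ∃ x y, SwapPair S.J x y := by
  rcases S.J_cases with h | ⟨-, h3, -⟩
  · exact h
  · refine absurd ?_ (S.not_nine_H hF)
    rw [S.card_H_eq]
    obtain ⟨c, hc⟩ := h3
    exact ⟨2 * c, by rw [hc]; ring⟩

open scoped Classical in
/-- A diagonal element commuting with the involution is scalar. -/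
lemma diag_eq {g : GL (Fin 3) F} (hg : g ∈ S.M) {α β : F}
    (hv : (g : Matrix (Fin 3) (Fin 3) F) = Matrix.diagonal ![α, β, β]) : α = β := by
  by_contra hne
  have hgH : g ∈ S.H := S.mem_H.2 ⟨hg, Units.ext (by
    rw [Units.val_mul, Units.val_mul, hv, S.t_val]
    ext i j; fin_cases i <;> fin_cases j <;> simp [Matrix.mul_apply, Fin.sum_univ_three, Matrix.diagonal_apply, mul_comm])⟩
  obtain ⟨-, heta⟩ := S.eta_of_inFrame (g := ⟨g, hgH⟩) (b₀ := β) (A := !![α, 0; 0, β]) (inFrame_eq (by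
    show (g : Matrix (Fin 3) (Fin 3) F) * _ = _
    rw [hv, Q1_val]
    ext i j; fin_cases i <;> fin_cases j <;> simp [Matrix.mul_apply, Fin.sum_univ_three, Matrix.diagonal_apply]))
  obtain ⟨x, y, hS⟩ := S.exists_swap hF
  obtain ⟨w, hw, wx, wy, ww, w1⟩ := S.exists_zeta hS
  exact S.not_commute_diag hne heta hw (S.commute_zeta hS wx wy ww w1)

/-- The centraliser of a diagonal generator. -/
lemma mem_R_of_commute_a {g : GL (Fin 3) F} (hg : g ∈ S.M) (hc : g * S.a = S.a * g) : g ∈ S.R := by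
  obtain ⟨d, hgd⟩ : ∃ d : Fin 3 → F, (g : Matrix (Fin 3) (Fin 3) F) = Matrix.diagonal d := by
    refine ⟨fun i => (g : Matrix (Fin 3) (Fin 3) F) i i, ?_⟩
    ext i j
    by_cases h : i = j
    · subst h; simp
    · rw [S.diag_of_commute_a hc h, Matrix.diagonal_apply_ne _ h]
  have hb : S.b⁻¹ = S.b * S.b := inv_eq_of_mul_eq_one_right (by rw [← mul_assoc, ← pow_two, ← pow_succ, S.b_cube])
  have hshift : ∀ (g : GL (Fin 3) F) (e : Fin 3 → F), (g : Matrix (Fin 3) (Fin 3) F) = Matrix.diagonal e →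
      ((S.b * g * S.b⁻¹ : GL (Fin 3) F) : Matrix (Fin 3) (Fin 3) F) = Matrix.diagonal ![e 2, e 0, e 1] := by
    intro g e he
    rw [hb, Units.val_mul, Units.val_mul, Units.val_mul, he, S.b_val]
    ext i j
    fin_cases i <;> fin_cases j <;>
      simp [CfsgLib.Elusive.cycMat, Matrix.mul_apply, Fin.sum_univ_three, Matrix.diagonal_apply, Matrix.vecMul_diagonal]
  have key : ∀ (k : GL (Fin 3) F) (e : Fin 3 → F), k ∈ S.M → (k : Matrix (Fin 3) (Fin 3) F) = Matrix.diagonal e →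
      e 0 * e 0 = e 1 * e 2 := by
    intro k e hk he
    refine S.diag_eq hF (g := k * (S.t * k * S.t)) (mul_mem hk (mul_mem (mul_mem S.t_mem hk) S.t_mem)) ?_
    rw [Units.val_mul, Units.val_mul, Units.val_mul, he, S.t_val]
    ext i j
    fin_cases i <;> fin_cases j <;>
      simp [Matrix.mul_apply, Fin.sum_univ_three, Matrix.diagonal_apply, Matrix.vecMul, dotProduct, mul_comm]
  have hk := S.mul_mem_shift hg
  have e0 := key g d hg hgd
  have e1 : d 2 * d 2 = d 0 * d 1 := by simpa using key _ _ hk.1 (hshift _ _ hgd)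
  have e2 : d 1 * d 1 = d 2 * d 0 := by simpa using key _ _ hk.2 (hshift _ _ (hshift _ _ hgd))
  have hdet : d 0 * d 1 * d 2 = 1 := by
    have := S.det_eq hg
    rwa [hgd, Matrix.det_diagonal, Fin.prod_univ_three] at this
  have h0 : d 0 ^ 3 = 1 := by linear_combination d 0 * e0 + hdet
  have h1 : d 1 ^ 3 = 1 := by linear_combination d 1 * e2 + hdet
  obtain ⟨i, -, hi⟩ := S.prim.eq_pow_of_pow_eq_one h0
  obtain ⟨j, -, hj⟩ := S.prim.eq_pow_of_pow_eq_one h1
  have h2 : d 2 = d 0 ^ 2 * d 1 ^ 2 := by linear_combination (-d 2) * h0 - (d 0 ^ 3 * d 2) * h1 + (d 0 ^ 2 * d 1 ^ 2) * hdet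
  suffices h : g = S.word i (j + 2 * i) 0 by rw [h]; exact S.word_mem _ _ _
  refine Units.ext ?_
  have hμ := S.mu_cube
  ext r c
  rw [S.word_val _ _ _ (by norm_num), hgd]
  fin_cases r <;> fin_cases c <;> simp [Matrix.diagonal_apply]
  · exact hi.symm
  · rw [← hj, show i + (j + 2 * i) = j + 3 * i by ring, pow_add, pow_mul, hμ, one_pow, mul_one]
  · rw [h2, ← hi, ← hj, show i + (j + 2 * i) * 2 = i * 2 + (j * 2 + 3 * i) by ring, pow_add, pow_add,
      pow_mul S.μ 3, hμ, one_pow, mul_one, ← pow_mul, ← pow_mul]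

/-- The extraspecial group is trivial-intersection away from the centre. -/
lemma ti_R {g x : GL (Fin 3) F} (hg : g ∈ S.M) (hx : x ∈ S.R) (hns : ∀ m, x ≠ S.z ^ m)
    (hgx : g * x * g⁻¹ ∈ S.R) : g ∈ S.X := by
  have hns' : ∀ m, g * x * g⁻¹ ≠ S.z ^ m := fun m hm => hns m (by
    rw [mul_inv_eq_iff_eq_mul, S.z_pow_comm] at hm
    exact mul_left_cancel hm)
  obtain ⟨q, hq, m, hm⟩ := S.exists_conj_a hx hns
  obtain ⟨q', hq', m', hm'⟩ := S.exists_conj_a hgx hns'
  obtain ⟨k, hk⟩ : ∃ k, k = q' * g * q⁻¹ := ⟨_, rfl⟩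
  have hkM : k ∈ S.M := hk ▸ mul_mem (mul_mem hq'.1 hg) (inv_mem hq.1)
  have hka : k * S.a = S.z ^ (m' + 2 * m) * S.a * k := by
    have e : k * (S.z ^ m * S.a) = S.z ^ m' * S.a * k := by
      rw [← hm, ← hm', hk]
      group
    calc k * S.a = S.z ^ (2 * m) * (k * (S.z ^ m * S.a)) := by
          rw [← mul_assoc k, ← S.z_pow_comm, mul_assoc (S.z ^ m), ← mul_assoc, ← pow_add,
            show 2 * m + m = 3 * m by ring, pow_mul, S.z_cube, one_pow, one_mul]
      _ = _ := by rw [e]; simp only [← mul_assoc, ← pow_add]; rw [add_comm m']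
  set j := m' + 2 * m
  have hba : S.b ^ j * k ∈ S.R := by
    refine S.mem_R_of_commute_a hF (mul_mem (pow_mem S.b_mem j) hkM) ?_
    rw [mul_assoc, hka, ← mul_assoc, ← mul_assoc, ← S.z_pow_comm, mul_assoc (S.z ^ j), S.b_pow_a, ← mul_assoc,
      ← pow_add, show j + 2 * j = 3 * j by ring, pow_mul, S.z_cube, one_pow, one_mul, mul_assoc]
  have hkX : k ∈ S.X := by
    have := mul_mem (inv_mem (pow_mem (S.R_le_X S.b_mem_R) j)) (S.R_le_X hba)
    rwa [inv_mul_cancel_left] at this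
  have := mul_mem (mul_mem (inv_mem hq') hkX) hq
  rwa [hk, show q'⁻¹ * (q' * g * q⁻¹) * q = g by group] at this

end Setup

end CfsgLib.Geo.SL3.Hessian
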