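/-
The fused case: the torus of index two in the centraliser of the involution.
-/
import Cfsg.Agent.Geo.SLThree.Hessian.Torus

set_option autoImplicit false
set_option linter.unusedSectionVars false

namespace CfsgLib.Geo.SL3.Hessian

open Matrix Cfsg Cfsg.Geo CfsgLib.Geo CfsgLib.Dickson

namespace Setup

variable {F : Type*} [Field F] [Fintype F] (S : Setup F)

/-- Two commuting elements of determinant one and minus one squaring to minus one and one. -/
lemma two_by_two {A B : Matrix (Fin 2) (Fin 2) F} (h2 : (2 : F) ≠ 0) (hA : A * A = 1) (hB : B * B = -1)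
    (hd : A.det * B.det = -1) (hc : A * B = B * A) : ∃ s : F, s ≠ 0 ∧ A * B = s • 1 := by
  have hC : A * B * (A * B) = -1 := by
    calc A * B * (A * B) = A * (B * A) * B := by simp only [mul_assoc]
      _ = A * A * (B * B) := by rw [← hc]; simp only [mul_assoc]
      _ = -1 := by rw [hA, hB, one_mul]
  have hdet : (A * B).det = -1 := by rw [Matrix.det_mul, hd]
  generalize A * B = C at hC hdet
  rw [Matrix.det_fin_two] at hdet
  have e00 := congrFun (congrFun hC 0) 0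
  have e01 := congrFun (congrFun hC 0) 1
  have e10 := congrFun (congrFun hC 1) 0
  have e11 := congrFun (congrFun hC 1) 1
  simp [Matrix.mul_apply, Fin.sum_univ_two] at e00 e01 e10 e11
  have htr : C 0 0 + C 1 1 ≠ 0 := fun h => h2 (by linear_combination e00 + hdet - C 0 0 * h)
  have a01 : C 0 1 = 0 := (mul_eq_zero.1 (show (C 0 0 + C 1 1) * C 0 1 = 0 by linear_combination e01)).resolve_left htr
  have a10 : C 1 0 = 0 := (mul_eq_zero.1 (show (C 0 0 + C 1 1) * C 1 0 = 0 by linear_combination e10)).resolve_left htr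
  have hd' : C 0 0 = C 1 1 := sub_eq_zero.1 ((mul_eq_zero.1
    (show (C 0 0 + C 1 1) * (C 0 0 - C 1 1) = 0 by linear_combination e00 - e11)).resolve_left htr)
  refine ⟨C 0 0, fun h => ?_, ?_⟩
  · exact htr (by rw [← hd', h, add_zero])
  · ext i j; fin_cases i <;> fin_cases j <;> simp [a01, a10, hd']

/-- An element of prime order at least five, of determinant one and fixing a non-zero vector, is trivial. -/
lemma two_by_two_ne {A : Matrix (Fin 2) (Fin 2) F} {l : ℕ} (hl : (l : F) ≠ 0) (hA : A ^ l = 1) (hd : A.det = 1)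
    (hA1 : A ≠ 1) : A 0 0 + A 1 1 ≠ 2 := by
  intro htr
  refine hA1 ?_
  rw [Matrix.det_fin_two] at hd
  have hN : (A - 1) * (A - 1) = 0 := by
    ext i j
    fin_cases i <;> fin_cases j <;> simp [Matrix.mul_apply, Fin.sum_univ_two] <;> grind
  have hpow : ∀ n : ℕ, A ^ n = 1 + (n : F) • (A - 1) := by
    intro n
    induction n with
    | zero => simp
    | succ n ih =>
      rw [pow_succ, ih]
      calc (1 + (n : F) • (A - 1)) * A = (1 + (n : F) • (A - 1)) * (1 + (A - 1)) := by rw [add_sub_cancel]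
        _ = 1 + ((n : F) + 1) • (A - 1) := by
          rw [add_mul, one_mul, mul_add, mul_one, smul_mul_assoc, hN, smul_zero, add_zero, add_smul, one_smul]
          abel
        _ = _ := by rw [Nat.cast_succ]
  have h := hpow l
  rw [hA, left_eq_add] at h
  exact sub_eq_zero.1 ((smul_eq_zero.1 h).resolve_left hl)

/-- An element of prime order at least five of the centraliser, with unit eigenvalue on the centre, has its
centraliser inside. -/
lemma mem_H_of_commute {z₀ : S.H} {l : ℕ} (hl : (l : F) ≠ 0) (hz : z₀ ^ l = 1) (hz1 : z₀ ≠ 1)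
    (hchi : S.chi z₀ = 1) {g : GL (Fin 3) F} (hg : g ∈ S.M) (hc : g * (z₀ : GL (Fin 3) F) = (z₀ : GL (Fin 3) F) * g) :
    g ∈ S.H := by
  set A := (eta S.Q1 (S.toBlk z₀) : Matrix (Fin 2) (Fin 2) F) with hA
  have hd : A.det = 1 := by
    have := S.chi_mul_det z₀
    rwa [hchi, one_mul, ← hA] at this
  have hAl : A ^ l = 1 := by rw [hA, ← Units.val_pow_eq_pow_val, ← map_pow, ← map_pow, hz, map_one, map_one, Units.val_one]
  have hA1 : A ≠ 1 := fun e => hz1 (S.ext_H (by rw [hchi, map_one]) (by rw [← hA, e, map_one, map_one, Units.val_one]))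
  have htr := two_by_two_ne hl hAl hd hA1
  have hb := inFrame_blk (S.toBlk z₀)
  rw [← hA, show corner S.Q1 (S.toBlk z₀) = 1 from hchi] at hb
  have e : inFrame S.Q1 g * inFrame S.Q1 (z₀ : GL (Fin 3) F) = inFrame S.Q1 (z₀ : GL (Fin 3) F) * inFrame S.Q1 g := by
    rw [← inFrame_mul, ← inFrame_mul, hc]
  rw [show inFrame S.Q1 (z₀ : GL (Fin 3) F) = inFrame S.Q1 (S.toBlk z₀ : GL (Fin 3) F) from rfl, hb] at e
  have hdA : A 0 0 * A 1 1 - A 0 1 * A 1 0 = 1 := by rwa [← Matrix.det_fin_two]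
  obtain ⟨G, hG⟩ : ∃ G, inFrame S.Q1 g = G := ⟨_, rfl⟩
  rw [hG] at e
  have r1 := congrFun (congrFun e 0) 1
  have r2 := congrFun (congrFun e 0) 2
  have c1 := congrFun (congrFun e 1) 0
  have c2 := congrFun (congrFun e 2) 0
  simp [Matrix.mul_apply, Fin.sum_univ_three] at r1 r2 c1 c2
  have hne : 2 - (A 0 0 + A 1 1) ≠ 0 := fun h => htr (by linear_combination -h)
  have gB : g ∈ Blk S.Q1 := by
    rw [mem_blk_iff, hG]
    refine ⟨?_, ?_, ?_, ?_⟩
    · exact (mul_eq_zero.1 (show (2 - (A 0 0 + A 1 1)) * G 0 1 = 0 by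
        linear_combination (A 1 1 - 1) * r1 - A 1 0 * r2 - G 0 1 * hdA)).resolve_left hne
    · exact (mul_eq_zero.1 (show (2 - (A 0 0 + A 1 1)) * G 0 2 = 0 by
        linear_combination (A 0 0 - 1) * r2 - A 0 1 * r1 - G 0 2 * hdA)).resolve_left hne
    · exact (mul_eq_zero.1 (show (2 - (A 0 0 + A 1 1)) * G 1 0 = 0 by
        linear_combination -(A 1 1 - 1) * c1 + A 0 1 * c2 - G 1 0 * hdA)).resolve_left hne
    · exact (mul_eq_zero.1 (show (2 - (A 0 0 + A 1 1)) * G 2 0 = 0 by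
        linear_combination -(A 0 0 - 1) * c2 + A 1 0 * c1 - G 2 0 * hdA)).resolve_left hne
  refine S.mem_H.2 ⟨hg, inFrame_injective S.Q1 ?_⟩
  rw [inFrame_mul, inFrame_mul, S.inFrame_t, hG]
  rw [mem_blk_iff, hG] at gB
  ext i j
  fin_cases i <;> fin_cases j <;>
    simp [Matrix.mul_apply, Fin.sum_univ_three, Matrix.diagonal_apply, gB.1, gB.2.1, gB.2.2.1, gB.2.2.2]

/-- The basic data behind the torus. -/
structure Core where
  T0 : Subgroup S.H
  r : S.H
  sq_r : r * r = 1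
  not_mem : r ∉ T0
  chi_r : S.chi r = -1
  conj_r : ∃ g ∈ S.M, (r : GL (Fin 3) F) = g * S.t * g⁻¹
  index : T0.index = 2
  comm : ∀ g ∈ T0, ∀ h ∈ T0, g * h = h * g
  invol : ∀ g ∈ T0, g * g = 1 → g = 1 ∨ g = S.tH
  ker_le : ∀ g, S.π g = 1 → g ∈ T0
  mul_mem_of : ∀ g h, g ∉ T0 → h ∉ T0 → g * h ∈ T0
  sq_ker : ∀ g, g ∉ T0 → S.π (g * g) = 1
  fixed : ∀ g ∈ T0, r * g = g * r → S.π g = 1
  exists_inner : ∃ g ∈ T0, orderOf g = 4
  exists_outer : ∃ g, g ∉ T0 ∧ g * g = S.tH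
  five : 5 ≤ Nat.card S.J

variable (hF : S.Fused)

open scoped Classical in
set_option maxHeartbeats 1000000 in
include hF in
/-- The basic data exist. -/
theorem exists_core : Nonempty S.Core := by
  obtain ⟨x, y, hS⟩ := S.exists_swap hF
  obtain ⟨r, hrr, hrπ, hrchi, rg, hrg, hrval⟩ := S.exists_reflection hF
  obtain ⟨w, hw, wx, wy, ww, w1⟩ := S.exists_zeta hS
  let T0 : Subgroup S.H := Subgroup.comap S.π
    (MulAction.stabilizer (PGL2 (AlgebraicClosure F)) x ⊓ MulAction.stabilizer (PGL2 (AlgebraicClosure F)) y)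
  have hT : ∀ g, g ∈ T0 ↔ S.π g • x = x ∧ S.π g • y = y := fun g => Iff.rfl
  have hnT : ∀ g, g ∉ T0 → S.π g • x = y ∧ S.π g • y = x := fun g hg =>
    (hS.mem _ ⟨g, rfl⟩).resolve_left fun h => hg ((hT g).2 h)
  have hkerT : ∀ g, S.π g = 1 → g ∈ T0 := fun g hg => (hT g).2 ⟨by rw [hg, one_smul], by rw [hg, one_smul]⟩
  -- the involution is the only one in the torus
  have hwchi : S.chi w ^ 3 = 1 := by
    obtain ⟨a, b, c⟩ := S.chi_cube_four
    rcases hw with rfl | rfl | rfl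
    exacts [a, b, c]
  have hinv : ∀ g ∈ T0, g * g = 1 → g = 1 ∨ g = S.tH := by
    intro g hg hgg
    by_cases hπ : S.π g = 1
    · exact S.kernel_invol hπ hgg
    · exfalso
      have e := invol_unique hS.ne ((hT g).1 hg).1 ((hT g).1 hg).2 (by rw [← map_mul, hgg, map_one]) hπ wx wy ww w1
      have := S.chi_cube_eq e
      rw [S.chi_of_invol hgg hπ, hwchi] at this
      exact S.two (by linear_combination -this)
  have hrT : r ∉ T0 := fun h => by
    rcases hinv r h hrr with e | e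
    · exact hrπ (by rw [e, map_one])
    · exact hrπ (by rw [e, pi_t])
  have hswap : ∀ g, g ∉ T0 → S.π g * S.π g = 1 := fun g hg => sq_eq_one_of_swap hS.ne (hnT g hg).1 (hnT g hg).2
  have hmul : ∀ g h, g ∉ T0 → h ∉ T0 → g * h ∈ T0 := fun g h hg hh => (hT _).2
    ⟨by rw [map_mul, mul_smul, (hnT h hh).1, (hnT g hg).2], by rw [map_mul, mul_smul, (hnT h hh).2, (hnT g hg).1]⟩
  have hrinv : r⁻¹ = r := inv_eq_of_mul_eq_one_right hrr
  have hidx : T0.index = 2 := Subgroup.index_eq_two_iff.2 ⟨r, fun b => by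
    by_cases hb : b ∈ T0
    · exact Or.inr ⟨hb, fun h => hrT (by simpa using mul_mem (inv_mem hb) h)⟩
    · exact Or.inl ⟨hmul b r hb hrT, hb⟩⟩
  haveI hN : T0.Normal := Subgroup.normal_of_index_eq_two hidx
  -- the torus is commutative
  have hinvol_pi : ∀ g h : S.H, g ∈ T0 → h ∈ T0 → g * h * g⁻¹ * h⁻¹ = S.tH → False := by
    intro g h hg hh e
    have hc : ∀ g h : S.H, g * h * g⁻¹ * h⁻¹ = S.tH → S.π h * S.π h = 1 := by
      intro g h e
      have e' : g * h * g⁻¹ = S.tH * h := mul_inv_eq_iff_eq_mul.1 e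
      have et : (eta S.Q1 (S.toBlk S.tH) : Matrix (Fin 2) (Fin 2) F) = -1 := by
        rw [(S.data_t).2]
        ext i j; fin_cases i <;> fin_cases j <;> simp
      set G := (eta S.Q1 (S.toBlk g) : Matrix (Fin 2) (Fin 2) F)
      set A := (eta S.Q1 (S.toBlk h) : Matrix (Fin 2) (Fin 2) F) with hA
      have he : G * A = -A * G := by
        have := congrArg (fun k : S.H => (eta S.Q1 (S.toBlk k) : Matrix (Fin 2) (Fin 2) F))
          (mul_inv_eq_iff_eq_mul.1 e')
        simp only [map_mul, Units.val_mul, et] at this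
        rw [neg_one_mul] at this
        exact this
      have htr : A.trace = 0 := by
        have h1 : G * A * ((eta S.Q1 (S.toBlk g))⁻¹ : GL (Fin 2) F) = -A := by
          rw [he, mul_assoc, Units.mul_inv, mul_one]
        have h2 := congrArg Matrix.trace h1
        rw [Matrix.trace_units_conj, Matrix.trace_neg] at h2
        exact (mul_eq_zero.1 (show (2 : F) * A.trace = 0 by linear_combination h2)).resolve_left S.two
      rw [← map_mul]
      refine proj_eq_one_iff.2 ⟨-A.det, neg_ne_zero.2 fun e => ?_, ?_⟩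
      · have := S.chi_mul_det h
        rw [← hA, e, mul_zero] at this
        exact zero_ne_one this
      · rw [Matrix.trace_fin_two] at htr
        show (eta S.Q1 (S.toBlk (h * h)) : Matrix (Fin 2) (Fin 2) F) = _
        rw [map_mul, map_mul, Units.val_mul, ← hA, Matrix.det_fin_two]
        ext i j
        fin_cases i <;> fin_cases j <;> simp [Matrix.mul_apply, Fin.sum_univ_two, Matrix.vecMul, dotProduct] <;> grind
    have e2 : h * g * h⁻¹ * g⁻¹ = S.tH := by
      rw [show h * g * h⁻¹ * g⁻¹ = (g * h * g⁻¹ * h⁻¹)⁻¹ by group, e, inv_eq_of_mul_eq_one_right S.tH_sq]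
    have ne1 : ∀ g h : S.H, g * h * g⁻¹ * h⁻¹ = S.tH → S.π h ≠ 1 := fun g h e h1 => S.tH_ne_one (by
      rw [← e, mul_assoc g, ((S.kernel_central h1) g⁻¹).eq, ← mul_assoc, mul_inv_cancel, one_mul, mul_inv_cancel])
    have key := invol_unique hS.ne ((hT g).1 hg).1 ((hT g).1 hg).2 (hc h g e2) (ne1 h g e2)
      ((hT h).1 hh).1 ((hT h).1 hh).2 (hc g h e) (ne1 g h e)
    obtain ⟨κ, hκ, rfl⟩ : ∃ κ, S.π κ = 1 ∧ g = κ * h :=
      ⟨g * h⁻¹, by rw [map_mul, map_inv, key, mul_inv_cancel], by group⟩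
    exact S.tH_ne_one (by
      rw [← e, _root_.mul_inv_rev, show κ * h * h * (h⁻¹ * κ⁻¹) * h⁻¹ = κ * h * κ⁻¹ * h⁻¹ by group,
        (S.kernel_central hκ h).eq, mul_inv_cancel_right, mul_inv_cancel])
  have hcomm : ∀ g ∈ T0, ∀ h ∈ T0, g * h = h * g := by
    intro g hg h hh
    have hπ : S.π (g * h * g⁻¹ * h⁻¹) = 1 := by
      rw [map_mul, map_mul, map_mul, map_inv, map_inv, commute_of_fix hS.ne ((hT g).1 hg).1 ((hT g).1 hg).2
        ((hT h).1 hh).1 ((hT h).1 hh).2]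
      group
    obtain ⟨i, j, hij⟩ := S.kernel_form hπ
    have hchi : S.chi (g * h * g⁻¹ * h⁻¹) = 1 := by
      have a : S.chi g * S.chi g⁻¹ = 1 := by rw [← map_mul, mul_inv_cancel, map_one]
      have b : S.chi h * S.chi h⁻¹ = 1 := by rw [← map_mul, mul_inv_cancel, map_one]
      rw [map_mul, map_mul, map_mul]
      linear_combination (S.chi h * S.chi h⁻¹) * a + b
    have hz : S.zH ^ i = 1 := by
      have hμ : S.μ ^ i = 1 := by
        have := congrArg S.chi hij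
        rwa [hchi, map_mul, map_pow, map_pow, (S.data_z).1, (S.data_t).1, one_pow, mul_one, eq_comm] at this
      obtain ⟨c, rfl⟩ : 3 ∣ i := by
        have := orderOf_dvd_of_pow_eq_one hμ
        rwa [← S.prim.eq_orderOf] at this
      rw [pow_mul, S.zH_cube, one_pow]
    rw [hz, one_mul] at hij
    rcases Nat.even_or_odd j with ⟨l, rfl⟩ | ⟨l, rfl⟩
    · rw [← two_mul, pow_mul, pow_two, S.tH_sq, one_pow, mul_inv_eq_one, mul_inv_eq_iff_eq_mul] at hij
      exact hij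
    · rw [pow_succ, pow_mul, pow_two, S.tH_sq, one_pow, one_mul] at hij
      exact (hinvol_pi g h hg hh hij).elim
  have hw2 : w * w = S.tH := by
    rcases hw with rfl | rfl | rfl
    · exact Subtype.ext S.u_sq
    · exact Subtype.ext S.v_sq
    · refine Subtype.ext ?_
      show S.u * S.v * (S.u * S.v) = S.t
      calc S.u * S.v * (S.u * S.v) = S.u * S.v * (S.t * (S.v * S.u)) := by rw [← S.u_mul_v]
        _ = S.u * S.v * S.t * S.v * S.u := by simp only [mul_assoc]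
        _ = S.u * S.v * (S.v * S.t) * S.u := by rw [← (S.mem_H.1 S.v_mem_H).2.symm]; simp only [mul_assoc]
        _ = S.u * (S.v * S.v) * S.t * S.u := by simp only [mul_assoc]
        _ = S.u * S.u := by rw [S.v_sq, mul_assoc S.u S.t, S.t_sq, mul_one]
        _ = S.t := S.u_sq
  refine ⟨{ T0 := T0, r := r, sq_r := hrr, not_mem := hrT, chi_r := hrchi, conj_r := ⟨rg, hrg, hrval⟩,
            index := hidx, comm := hcomm, invol := hinv, ker_le := hkerT, mul_mem_of := hmul,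
            sq_ker := fun g hg => by rw [map_mul]; exact hswap g hg,
            fixed := fun g hg hcr => ?_, exists_inner := ⟨w, (hT w).2 ⟨wx, wy⟩, ?_⟩, exists_outer := ?_,
            five := ?_ }⟩
  ·
    by_contra hne
    have hsq : S.π g * S.π g = 1 := by
      have h1 := hswap (r * g) (fun h => hrT (by simpa using mul_mem h (inv_mem hg)))
      rwa [← map_mul, show r * g * (r * g) = r * r * (g * g) by
        calc r * g * (r * g) = r * (g * r) * g := by simp only [mul_assoc]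
          _ = _ := by rw [← hcr]; simp only [mul_assoc], hrr, one_mul, map_mul] at h1
    have e := invol_unique hS.ne ((hT _).1 hg).1 ((hT _).1 hg).2 hsq hne wx wy ww w1
    obtain ⟨κ, hκ, hgκ⟩ : ∃ κ, S.π κ = 1 ∧ g = κ * w :=
      ⟨g * w⁻¹, by rw [map_mul, map_inv, e, mul_inv_cancel], by group⟩
    rw [hgκ, ← mul_assoc, ← (S.kernel_central hκ r).eq, mul_assoc, mul_assoc] at hcr
    have hrw : r * w = w * r := mul_left_cancel hcr
    have hwsq : (eta S.Q1 (S.toBlk w) : Matrix (Fin 2) (Fin 2) F) * (eta S.Q1 (S.toBlk w) : Matrix (Fin 2) (Fin 2) F) = -1 := by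
      have et : (eta S.Q1 (S.toBlk S.tH) : Matrix (Fin 2) (Fin 2) F) = -1 := by
        rw [(S.data_t).2]
        ext i j; fin_cases i <;> fin_cases j <;> simp
      rw [← Units.val_mul, ← map_mul, ← map_mul, hw2, et]
    have hrsq : (eta S.Q1 (S.toBlk r) : Matrix (Fin 2) (Fin 2) F) * (eta S.Q1 (S.toBlk r) : Matrix (Fin 2) (Fin 2) F) = 1 := by
      rw [← Units.val_mul, ← map_mul, ← map_mul, hrr, map_one, map_one, Units.val_one]
    have hdr := S.chi_mul_det r
    rw [hrchi] at hdr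
    have hdw := S.chi_mul_det w
    have hwc : S.chi w = 1 := by
      rcases hw with rfl | rfl | rfl
      · exact (S.data_u).1
      · exact (S.data_v).1
      · rw [map_mul, (S.data_u).1, (S.data_v).1, one_mul]
    rw [hwc, one_mul] at hdw
    obtain ⟨s, hs0, hs⟩ := two_by_two S.two hrsq hwsq (by rw [hdw, mul_one]; linear_combination -hdr)
      (by rw [← Units.val_mul, ← Units.val_mul, ← map_mul, ← map_mul, ← map_mul, ← map_mul, hrw])
    have h1 : S.π (r * w) = 1 := proj_eq_one_iff.2 ⟨s, hs0, by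
      show (eta S.Q1 (S.toBlk (r * w)) : Matrix (Fin 2) (Fin 2) F) = _
      rw [map_mul, map_mul, Units.val_mul, hs]⟩
    rw [map_mul, mul_eq_one_iff_eq_inv, inv_eq_of_mul_eq_one_right ww] at h1
    exact hrT ((hT r).2 ⟨by rw [h1, wx], by rw [h1, wy]⟩)
  · haveI : Fact (Nat.Prime 2) := ⟨Nat.prime_two⟩
    exact orderOf_eq_prime_pow (p := 2) (n := 1) (by rw [pow_one, pow_two, hw2]; exact S.tH_ne_one)
      (by rw [show (2 : ℕ) ^ (1 + 1) = 2 * 2 from rfl, pow_mul, pow_two w, hw2, pow_two, S.tH_sq])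
  · obtain ⟨hu, hv, -, huv, uu, vv, -⟩ := S.four_group
    by_contra hcon
    push Not at hcon
    have a : S.uH ∈ T0 := by_contra fun h => hcon _ h (Subtype.ext S.u_sq)
    have b : S.vH ∈ T0 := by_contra fun h => hcon _ h (Subtype.ext S.v_sq)
    exact huv (invol_unique hS.ne ((hT _).1 a).1 ((hT _).1 a).2 uu hu ((hT _).1 b).1 ((hT _).1 b).2 vv hv)
  ·
    obtain ⟨hu, hv, huv1, huv, uu, vv, cm⟩ := S.four_group
    have hnot : ∀ w' : S.H, S.chi w' ^ 3 = 1 → S.π r ≠ S.π w' := fun w' hw' e => by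
      have := S.chi_cube_eq e
      rw [hrchi, hw'] at this
      exact S.two (by linear_combination -this)
    obtain ⟨ca, cb, cc⟩ := S.chi_cube_four
    haveI := Fintype.ofFinite S.J
    have hcard : ({S.jof 1, S.jof S.uH, S.jof S.vH, S.jof (S.uH * S.vH), S.jof r} : Finset S.J).card = 5 := by
      have ne : ∀ g h : S.H, S.π g ≠ S.π h → S.jof g ≠ S.jof h := fun g h hne e => hne (congrArg Subtype.val e)
      have a1 := ne 1 S.uH (by rw [map_one]; exact hu.symm)
      have a2 := ne 1 S.vH (by rw [map_one]; exact hv.symm)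
      have a3 := ne 1 (S.uH * S.vH) (by rw [map_one]; exact huv1.symm)
      have a4 := ne 1 r (by rw [map_one]; exact hrπ.symm)
      have a5 := ne S.uH S.vH huv
      have a6 := ne S.uH (S.uH * S.vH) (fun e => hv (by rwa [map_mul, left_eq_mul] at e))
      have a7 := ne S.uH r (hnot _ ca).symm
      have a8 := ne S.vH (S.uH * S.vH) (fun e => hu (by rwa [map_mul, right_eq_mul] at e))
      have a9 := ne S.vH r (hnot _ cb).symm
      have a10 := ne (S.uH * S.vH) r (hnot _ cc).symm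
      rw [Finset.card_insert_of_notMem (by simp [a1, a2, a3, a4]), Finset.card_insert_of_notMem (by simp [a5, a6, a7]),
        Finset.card_insert_of_notMem (by simp [a8, a9]), Finset.card_insert_of_notMem (by simp [a10]), Finset.card_singleton]
    have h5 := Finset.card_le_univ ({S.jof 1, S.jof S.uH, S.jof S.vH, S.jof (S.uH * S.vH), S.jof r} : Finset S.J)
    rwa [hcard, ← Nat.card_eq_fintype_card] at h5

namespace Core

variable {S} (C : S.Core)

lemma r_inv : C.r⁻¹ = C.r := inv_eq_of_mul_eq_one_right C.sq_r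

lemma normal : C.T0.Normal := Subgroup.normal_of_index_eq_two C.index

lemma conj_mem {g : S.H} (hg : g ∈ C.T0) : C.r * g * C.r ∈ C.T0 := by
  have := C.normal.conj_mem _ hg C.r
  rwa [C.r_inv] at this

lemma mul_not_mem {g : S.H} (hg : g ∈ C.T0) : C.r * g ∉ C.T0 := fun h =>
  C.not_mem (by simpa using mul_mem h (inv_mem hg))

/-- The squaring map of the outside coset. -/
def sqHom : C.T0 →* S.H where
  toFun g := C.r * g * C.r * g
  map_one' := by simp [C.sq_r]
  map_mul' g h := by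
    calc C.r * (g * h : S.H) * C.r * (g * h : S.H) = C.r * (g : S.H) * (C.r * C.r) * h * C.r * (g * h : S.H) := by
          rw [C.sq_r, mul_one, ← mul_assoc C.r]
      _ = C.r * (g : S.H) * C.r * ((C.r * h * C.r) * g) * h := by simp only [mul_assoc]
      _ = C.r * (g : S.H) * C.r * (g * (C.r * h * C.r)) * h := by rw [C.comm _ (C.conj_mem h.2) _ g.2]
      _ = _ := by simp only [mul_assoc]

lemma sqHom_eq (g : C.T0) : C.sqHom g = (C.r * g) * (C.r * g) := by simp [sqHom, mul_assoc]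

lemma pi_sqHom (g : C.T0) : S.π (C.sqHom g) = 1 := by
  rw [sqHom_eq]
  exact C.sq_ker _ (C.mul_not_mem g.2)

lemma exists_of_outside {g : S.H} (hg : g ∉ C.T0) : ∃ g' : C.T0, g = C.r * g' ∧ g * g = C.sqHom g' :=
  ⟨⟨C.r * g, C.mul_mem_of C.r g C.not_mem hg⟩, by rw [← mul_assoc, C.sq_r, one_mul],
    by rw [sqHom_eq, ← mul_assoc C.r C.r, C.sq_r, one_mul]⟩

lemma t_mem_range : S.tH ∈ C.sqHom.range := by
  obtain ⟨w', hw', hsq⟩ := C.exists_outer
  obtain ⟨g, -, hg⟩ := C.exists_of_outside hw'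
  exact ⟨g, hg.symm.trans hsq⟩

lemma range_sqHom : C.sqHom.range = S.π.ker := by
  refine le_antisymm (fun g hg => ?_) (fun g hg => ?_)
  · obtain ⟨g', rfl⟩ := hg
    exact C.pi_sqHom g'
  · obtain ⟨i, j, rfl⟩ := S.kernel_form hg
    refine mul_mem ?_ (pow_mem C.t_mem_range j)
    have hz2 : S.zH ^ 2 ∈ C.sqHom.range := ⟨⟨S.zH, C.ker_le _ S.pi_z⟩, by
      show C.r * S.zH * C.r * S.zH = _
      rw [mul_assoc C.r, (S.zH_comm C.r).eq, ← mul_assoc, C.sq_r, one_mul, pow_two]⟩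
    have : S.zH ^ i = (S.zH ^ 2) ^ (2 * i) := by
      rw [← pow_mul, show 2 * (2 * i) = i + 3 * i by ring, pow_add, pow_mul, S.zH_cube, one_pow, mul_one]
    rw [this]; exact pow_mem hz2 _

/-- The order of the rotation group. -/
noncomputable def k : ℕ := Nat.card C.sqHom.ker

lemma card_T0 : Nat.card C.T0 = 6 * C.k := by
  rw [← C.sqHom.ker.card_mul_index, Subgroup.index_ker, C.range_sqHom, S.card_ker, mul_comm, k]

lemma card_H : Nat.card S.H = 12 * C.k := by
  rw [← C.T0.card_mul_index, C.index, C.card_T0]; ring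

lemma even_k : Even C.k := by
  obtain ⟨w, hw, h4⟩ := C.exists_inner
  have hd := C.T0.orderOf_dvd_natCard hw
  rw [h4, C.card_T0] at hd
  exact even_iff_two_dvd.2 (by omega)

lemma four_le : 4 ≤ C.k := by
  have h1 := S.card_H_eq
  have h2 := C.five
  have h3 := C.card_H
  obtain ⟨c, hc⟩ := C.even_k
  omega

include C in
lemma conj_invol_H {g : S.H} (hgg : g * g = 1) (hg1 : g ≠ 1) :
    ∃ q ∈ S.M, q * (g : GL (Fin 3) F) * q⁻¹ = S.t := by
  obtain ⟨rg, hrg, hrval⟩ := C.conj_r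
  let ψ : C.T0 →* S.H :=
    { toFun := fun g => C.r * g * C.r * (g : S.H)⁻¹
      map_one' := by simp [C.sq_r]
      map_mul' := fun g h => by
        calc C.r * (g * h : S.H) * C.r * (g * h : S.H)⁻¹
            = C.r * (g : S.H) * (C.r * C.r) * h * C.r * ((h : S.H)⁻¹ * (g : S.H)⁻¹) := by
              rw [C.sq_r, mul_one, ← mul_assoc C.r, _root_.mul_inv_rev]
          _ = C.r * (g : S.H) * C.r * ((C.r * h * C.r * (h : S.H)⁻¹) * (g : S.H)⁻¹) := by simp only [mul_assoc]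
          _ = C.r * (g : S.H) * C.r * ((g : S.H)⁻¹ * (C.r * h * C.r * (h : S.H)⁻¹)) := by
              rw [C.comm _ (mul_mem (C.conj_mem h.2) (inv_mem h.2)) _ (inv_mem g.2)]
          _ = _ := by simp only [mul_assoc] }
  have hψker : ψ.ker.map C.T0.subtype ≤ S.π.ker := by
    rintro _ ⟨g, hg, rfl⟩
    have hg' : C.r * (g : S.H) * C.r * (g : S.H)⁻¹ = 1 := hg
    refine C.fixed _ g.2 ?_
    rw [mul_inv_eq_one] at hg'
    calc C.r * (g : S.H) = C.r * g * (C.r * C.r) := by rw [C.sq_r, mul_one]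
      _ = _ := by rw [← mul_assoc, hg']; rfl
  have hψrange : ψ.range = C.sqHom.ker.map C.T0.subtype := by
    refine Subgroup.eq_of_le_of_card_ge ?_ ?_
    · rintro _ ⟨g, rfl⟩
      let g1 : C.T0 := ⟨C.r * g * C.r, C.conj_mem g.2⟩
      refine ⟨g1 * g⁻¹, ?_, rfl⟩
      show C.sqHom (g1 * g⁻¹) = 1
      have e2 : C.sqHom g1 = C.sqHom g := by
        show C.r * (C.r * g * C.r) * C.r * (C.r * g * C.r) = C.r * (g : S.H) * C.r * g
        rw [← mul_assoc C.r, ← mul_assoc C.r C.r, C.sq_r, one_mul, mul_assoc (g : S.H) C.r C.r, C.sq_r, mul_one]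
        exact (C.comm _ g1.2 _ g.2).symm
      rw [map_mul, e2, map_inv, mul_inv_cancel]
    · rw [Subgroup.card_map_of_injective C.T0.subtype_injective]
      have h1 := ψ.ker.card_mul_index
      rw [Subgroup.index_ker, C.card_T0] at h1
      have h2 : Nat.card ψ.ker ≤ 6 := by
        rw [← S.card_ker, ← Subgroup.card_map_of_injective C.T0.subtype_injective]
        exact Subgroup.card_le_of_le hψker
      have : Nat.card ψ.ker * Nat.card ψ.range ≤ 6 * Nat.card ψ.range := Nat.mul_le_mul_right _ h2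
      show C.k ≤ _
      omega
  by_cases hg : g ∈ C.T0
  · rcases C.invol g hg hgg with rfl | rfl
    · exact absurd rfl hg1
    · exact ⟨1, one_mem _, by rw [one_mul, inv_one, mul_one]; rfl⟩
  · obtain ⟨g', hg', hsq⟩ := C.exists_of_outside hg
    obtain ⟨y', hy'⟩ : (g' : S.H) ∈ ψ.range := hψrange ▸ ⟨g', show C.sqHom g' = 1 by rw [← hsq, hgg], rfl⟩
    have e : g = y' * C.r * (y' : S.H)⁻¹ := by
      rw [hg', ← hy']
      show C.r * (C.r * (y' : S.H) * C.r * (y' : S.H)⁻¹) = _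
      rw [← mul_assoc C.r, ← mul_assoc C.r, ← mul_assoc C.r C.r, C.sq_r, one_mul]
    refine ⟨rg⁻¹ * ((y' : S.H) : GL (Fin 3) F)⁻¹, mul_mem (inv_mem hrg) (inv_mem (S.mem_H.1 (y' : S.H).2).1), ?_⟩
    rw [e, Subgroup.coe_mul, Subgroup.coe_mul, Subgroup.coe_inv, hrval]
    group

include C in
lemma conj_invol (g : GL (Fin 3) F) (hg : g ∈ S.M) (hgg : g * g = 1) (hg1 : g ≠ 1) :
    ∃ q ∈ S.M, q * g * q⁻¹ = S.t := by
  set x' := g * S.t with hx'
  have hx'M : x' ∈ S.M := mul_mem hg S.t_mem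
  have hgi : g⁻¹ = g := inv_eq_of_mul_eq_one_right hgg
  have hti : S.t⁻¹ = S.t := inv_eq_of_mul_eq_one_right S.t_sq
  have hst : S.t * x' * S.t = x'⁻¹ := by
    rw [hx', _root_.mul_inv_rev, hgi, hti, mul_assoc S.t, mul_assoc g, S.t_sq, mul_one]
  have hpow : ∀ n : ℕ, S.t * x' ^ n * S.t = (x' ^ n)⁻¹ := fun n => by
    have := congrArg (· ^ n) hst
    nth_rw 2 [← hti] at this
    simp only [conj_pow] at this
    rw [hti, inv_pow] at this
    exact this
  rcases Nat.even_or_odd (orderOf x') with ⟨l, hl⟩ | ⟨l, hl⟩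
  · have hl0 : 0 < l := by have := orderOf_pos x'; omega
    set c := x' ^ l
    have hcc : c * c = 1 := by rw [← pow_add, ← hl, pow_orderOf_eq_one]
    have hc1 : c ≠ 1 := fun e => by
      have := Nat.le_of_dvd hl0 (orderOf_dvd_of_pow_eq_one e)
      omega
    have hct : c * S.t = S.t * c := by
      have h1 := hpow l
      rw [inv_eq_of_mul_eq_one_right hcc] at h1
      calc c * S.t = S.t * c * S.t * S.t := by rw [h1]
        _ = _ := by rw [mul_assoc _ S.t S.t, S.t_sq, mul_one]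
    obtain ⟨q, hq, hqc⟩ := C.conj_invol_H (g := ⟨c, S.mem_H.2 ⟨pow_mem hx'M l, hct⟩⟩) (Subtype.ext hcc)
      (fun e => hc1 (congrArg Subtype.val e))
    have hgc : g * c = c * g := by
      have hxx : Commute x' c := (Commute.refl x').pow_right l
      rw [show g = x' * S.t by rw [hx', mul_assoc, S.t_sq, mul_one], mul_assoc, ← hct, ← mul_assoc, hxx.eq, mul_assoc]
    obtain ⟨q', hq', hqg⟩ := C.conj_invol_H (g := ⟨q * g * q⁻¹, S.mem_H.2 ⟨mul_mem (mul_mem hq hg) (inv_mem hq), by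
        rw [← hqc]
        show q * g * q⁻¹ * (q * c * q⁻¹) = q * c * q⁻¹ * (q * g * q⁻¹)
        rw [show q * g * q⁻¹ * (q * c * q⁻¹) = q * (g * c) * q⁻¹ by group, hgc]
        group⟩⟩)
      (Subtype.ext (by
        show q * g * q⁻¹ * (q * g * q⁻¹) = 1
        rw [show q * g * q⁻¹ * (q * g * q⁻¹) = q * (g * g) * q⁻¹ by group, hgg, mul_one, mul_inv_cancel]))
      (fun e => hg1 (by
        have : q * g * q⁻¹ = 1 := congrArg Subtype.val e
        rwa [mul_inv_eq_one, mul_eq_left] at this))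
    refine ⟨q' * q, mul_mem hq' hq, ?_⟩
    rw [← hqg]
    show _ = q' * (q * g * q⁻¹) * q'⁻¹
    group
  · refine ⟨x' ^ l, pow_mem hx'M l, ?_⟩
    have h1 : x' ^ l * x' = (x' ^ l)⁻¹ := eq_inv_of_mul_eq_one_left (by
      rw [← pow_succ, ← pow_add, show l + 1 + l = orderOf x' by omega, pow_orderOf_eq_one])
    calc x' ^ l * g * (x' ^ l)⁻¹ = x' ^ l * x' * S.t * (x' ^ l)⁻¹ := by rw [hx', mul_assoc _ (g * S.t), mul_assoc g, S.t_sq, mul_one]
      _ = S.t * (x' ^ l) * (S.t * S.t) * (x' ^ l)⁻¹ := by rw [h1, ← hpow]; simp only [mul_assoc]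
      _ = S.t := by rw [S.t_sq, mul_one, mul_inv_cancel_right]

include hF in
lemma three_not_dvd : ¬ 3 ∣ C.k := fun ⟨c, hc⟩ => S.not_nine_H hF ⟨4 * c, by rw [C.card_H, hc]; ring⟩

/-- The centraliser of an element of prime order at least five of the torus. -/
lemma exists_of_commute {l : ℕ} (hl : l.Prime) (hl2 : l ≠ 2) (hl3 : l ≠ 3) (hlF : (l : F) ≠ 0) {z₀ : S.H}
    (hz₀ : z₀ ∈ C.T0) (hzl : z₀ ^ l = 1) (hz1 : z₀ ≠ 1) {g : GL (Fin 3) F} (hg : g ∈ S.M)
    (hgc : g * (z₀ : GL (Fin 3) F) = (z₀ : GL (Fin 3) F) * g) : ∃ h : S.H, h ∈ C.T0 ∧ (h : GL (Fin 3) F) = g := by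
  have hl6 : Nat.Coprime 6 l := by
    have a : Nat.Coprime 2 l := (Nat.coprime_primes Nat.prime_two hl).2 (Ne.symm hl2)
    have b : Nat.Coprime 3 l := (Nat.coprime_primes Nat.prime_three hl).2 (Ne.symm hl3)
    exact a.mul_left b
  have h6 : ∀ κ : S.H, S.π κ = 1 → κ ^ 6 = 1 := fun κ hκ => by
    have h := S.π.ker.orderOf_dvd_natCard hκ
    rw [S.card_ker] at h
    exact orderOf_dvd_iff_pow_eq_one.1 h
  have hφ1 : C.sqHom ⟨z₀, hz₀⟩ = 1 := by
    refine pow_eq_one_of_coprime hl6 (h6 _ (C.pi_sqHom _)) ?_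
    rw [← map_pow, show (⟨z₀, hz₀⟩ : C.T0) ^ l = 1 from Subtype.ext hzl, map_one]
  have hrz : C.r * z₀ * C.r = z₀⁻¹ := eq_inv_of_mul_eq_one_left hφ1
  have hchi : S.chi z₀ = 1 := by
    refine pow_eq_one_of_coprime (Nat.Coprime.coprime_dvd_left (show 2 ∣ 6 by norm_num) hl6) ?_
      (by rw [← map_pow, hzl, map_one])
    have h1 := congrArg S.chi hrz
    rw [map_mul, map_mul, C.chi_r] at h1
    have h2 : S.chi z₀ * S.chi z₀⁻¹ = 1 := by rw [← map_mul, mul_inv_cancel, map_one]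
    linear_combination S.chi z₀ * h1 + h2
  refine ⟨⟨g, S.mem_H_of_commute hlF hzl hz1 hchi hg hgc⟩, ?_, rfl⟩
  by_contra hgT
  obtain ⟨g', hg', -⟩ := C.exists_of_outside hgT
  have hgz : (C.r * (g' : S.H)) * z₀ = z₀ * (C.r * g') := by
    rw [← hg']; exact Subtype.ext hgc
  have : z₀⁻¹ = z₀ := by
    rw [mul_assoc, C.comm _ g'.2 _ hz₀, ← mul_assoc, ← mul_assoc] at hgz
    rw [← hrz, mul_right_cancel hgz, mul_assoc, C.sq_r, mul_one]
  refine hz1 (pow_eq_one_of_coprime ((Nat.coprime_primes Nat.prime_two hl).2 (Ne.symm hl2)) ?_ hzl)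
  rw [pow_two]
  nth_rw 1 [← this]
  exact inv_mul_cancel z₀

include hF in
lemma conj_t_eq {g : GL (Fin 3) F} (hg : g ∈ S.M) {x₀ x₂ : S.H} (hx₀ : x₀ ∈ C.T0) (hx₂ : x₂ ∈ C.T0)
    (hns : ∀ m, (x₀ : GL (Fin 3) F) ≠ S.z ^ m)
    (hx₂v : (x₂ : GL (Fin 3) F) = g * (x₀ : GL (Fin 3) F) * g⁻¹) : g * S.t * g⁻¹ = S.t := by
  have hpx : ∀ n : ℕ, ((x₂ ^ n : S.H) : GL (Fin 3) F) = g * ((x₀ ^ n : S.H) : GL (Fin 3) F) * g⁻¹ := fun n => by
    rw [SubmonoidClass.coe_pow, SubmonoidClass.coe_pow, ← conj_pow, hx₂v]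
  obtain ⟨c, hc⟩ : ∃ c, c = g * S.t * g⁻¹ := ⟨_, rfl⟩
  have hcc : c * c = 1 := by
    rw [hc, show g * S.t * g⁻¹ * (g * S.t * g⁻¹) = g * (S.t * S.t) * g⁻¹ by group, S.t_sq, mul_one, mul_inv_cancel]
  have hc1 : c ≠ 1 := fun e => S.t_ne_one (by rwa [hc, mul_inv_eq_one, mul_eq_left] at e)
  have hkey : ∀ i₂ : S.H, i₂ ∈ C.T0 → (i₂ : GL (Fin 3) F) = c → g * S.t * g⁻¹ = S.t := by
    intro i₂ hi hv
    rcases C.invol i₂ hi (Subtype.ext (by rw [Subgroup.coe_mul, hv, hcc]; rfl)) with e | e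
    · exact absurd (by rw [← hv, e]; rfl) hc1
    · rw [← hc, ← hv, e]; rfl
  rcases Nat.even_or_odd (orderOf x₀) with ⟨l, hl⟩ | hodd
  · have hl0 : 0 < l := by have := orderOf_pos x₀; omega
    have h0 : x₀ ^ l = S.tH := (C.invol _ (pow_mem hx₀ l) (by rw [← pow_add, ← hl, pow_orderOf_eq_one])).resolve_left
      fun e => by
        have := Nat.le_of_dvd hl0 (orderOf_dvd_of_pow_eq_one e)
        omega
    exact hkey _ (pow_mem hx₂ l) (by rw [hpx, h0, hc]; rfl)
  · obtain ⟨l, hl, hl3, hld⟩ : ∃ l, l.Prime ∧ l ≠ 3 ∧ l ∣ orderOf x₀ := by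
      by_contra hcon
      push Not at hcon
      obtain ⟨n, hn⟩ : ∃ n, orderOf x₀ = 3 ^ n :=
        ⟨_, Nat.eq_prime_pow_of_unique_prime_dvd (orderOf_pos x₀).ne' fun {d} hd hdd => by
          by_contra h; exact hcon d hd h hdd⟩
      obtain ⟨i, hi⟩ := S.three_H hF x₀ (n := n) (by rw [← hn, pow_orderOf_eq_one])
      exact hns i hi
    have hl2 : l ≠ 2 := fun e => Nat.not_even_iff_odd.2 hodd (even_iff_two_dvd.2 (e ▸ hld))
    haveI := S.charP
    have hlF : (l : F) ≠ 0 := fun e => S.not_dvd_card_H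
      (((CharP.cast_eq_zero_iff F S.p l).1 e).trans (hld.trans (orderOf_dvd_natCard x₀)))
    obtain ⟨m, hm⟩ := hld
    have hm0 : 0 < m := Nat.pos_of_ne_zero fun e => by
      have := orderOf_pos x₀
      rw [hm, e, mul_zero] at this
      omega
    have hz1 : x₀ ^ m ≠ 1 := fun e => by
      have := Nat.le_of_dvd hm0 (orderOf_dvd_of_pow_eq_one e)
      rw [hm] at this
      have h2 := hl.two_le
      have := Nat.mul_le_mul_right m h2
      omega
    have hzl : (x₀ ^ m) ^ l = 1 := by rw [← pow_mul, mul_comm, ← hm, pow_orderOf_eq_one]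
    have hzl2 : (x₂ ^ m) ^ l = 1 := Subtype.ext (by
      rw [← pow_mul, hpx, pow_mul, hzl, OneMemClass.coe_one, mul_one, mul_inv_cancel])
    have hz21 : x₂ ^ m ≠ 1 := fun e => hz1 (Subtype.ext (by
      have := hpx m
      rw [e, OneMemClass.coe_one, eq_comm, mul_inv_eq_one, mul_eq_left] at this
      exact this))
    have htz : c * ((x₂ ^ m : S.H) : GL (Fin 3) F) = ((x₂ ^ m : S.H) : GL (Fin 3) F) * c := by
      have h := (S.mem_H.1 (x₀ ^ m).2).2
      rw [hpx, hc]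
      generalize ((x₀ ^ m : S.H) : GL (Fin 3) F) = z₁ at h ⊢
      calc g * S.t * g⁻¹ * (g * z₁ * g⁻¹) = g * (S.t * z₁) * g⁻¹ := by group
        _ = g * (z₁ * S.t) * g⁻¹ := by rw [h]
        _ = _ := by group
    obtain ⟨i₂, hi₂, hi₂v⟩ := C.exists_of_commute hl hl2 hl3 hlF (pow_mem hx₂ m) hzl2 hz21
      (g := c) (hc ▸ mul_mem (mul_mem hg S.t_mem) (inv_mem hg)) htz
    exact hkey i₂ hi₂ hi₂v

lemma outside_props {g : S.H} (hg : g ∉ C.T0) : (g ^ 6 = 1 ∨ g ^ 6 = S.tH) ∧ ∃ i, g ^ 4 = S.zH ^ i := by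
  obtain ⟨g', -, h⟩ := C.exists_of_outside hg
  obtain ⟨i, j, hij⟩ := S.kernel_form (C.pi_sqHom g')
  rw [← h] at hij
  have hcij : Commute (S.zH ^ i) (S.tH ^ j) := (S.zH_comm S.tH).pow_pow i j
  refine ⟨?_, 2 * i, ?_⟩
  · rw [show (6 : ℕ) = 2 * 3 from rfl, pow_mul, pow_two, hij, hcij.mul_pow, ← pow_mul, mul_comm i, pow_mul, S.zH_cube,
      one_pow, one_mul, ← pow_mul]
    rcases Nat.even_or_odd (j * 3) with ⟨l, hl⟩ | ⟨l, hl⟩
    · exact Or.inl (by rw [hl, ← two_mul, pow_mul, pow_two, S.tH_sq, one_pow])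
    · exact Or.inr (by rw [hl, pow_succ, pow_mul, pow_two, S.tH_sq, one_pow, one_mul])
  · rw [show (4 : ℕ) = 2 * 2 from rfl, pow_mul, pow_two g, hij, hcij.mul_pow, ← pow_mul, ← pow_mul, mul_comm i,
      mul_comm j, pow_mul S.tH, pow_two S.tH, S.tH_sq, one_pow, mul_one]

/-- The sixth powers on the outside coset. -/
lemma card_six : {g : S.H | g ∉ C.T0 ∧ g ^ 6 = S.tH}.ncard = 3 * C.k := by
  let φ3 : C.T0 →* S.H :=
    { toFun := fun g => C.sqHom g ^ 3
      map_one' := by rw [map_one, one_pow]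
      map_mul' := fun g h => by rw [map_mul, (S.kernel_central (C.pi_sqHom g) (C.sqHom h)).mul_pow] }
  have ht3 : S.tH ^ 3 = S.tH := by rw [pow_succ, pow_two, S.tH_sq, one_mul]
  have hr3 : φ3.range = Subgroup.zpowers S.tH := by
    refine le_antisymm ?_ ?_
    · rintro _ ⟨g, rfl⟩
      obtain ⟨i, j, hij⟩ := S.kernel_form (C.pi_sqHom g)
      show C.sqHom g ^ 3 ∈ _
      rw [hij, ((S.zH_comm S.tH).pow_pow i j).mul_pow, ← pow_mul, mul_comm i, pow_mul, S.zH_cube, one_pow, one_mul, ← pow_mul]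
      exact pow_mem (Subgroup.mem_zpowers _) _
    · rw [Subgroup.zpowers_le]
      obtain ⟨g, hg⟩ := C.t_mem_range
      exact ⟨g, by show C.sqHom g ^ 3 = _; rw [hg, ht3]⟩
  have hc3 : Nat.card φ3.ker = 3 * C.k := by
    have h1 := φ3.ker.card_mul_index
    rw [Subgroup.index_ker, hr3, Nat.card_zpowers, C.card_T0,
      show orderOf S.tH = 2 from orderOf_eq_prime (by rw [pow_two, S.tH_sq]) S.tH_ne_one] at h1
    omega
  obtain ⟨g₁, hg₁⟩ := C.t_mem_range
  have hg₁3 : φ3 g₁ = S.tH := by show C.sqHom g₁ ^ 3 = _; rw [hg₁, ht3]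
  let f : φ3.ker → S.H := fun g => C.r * ((g₁ * g : C.T0) : S.H)
  have hf : Function.Injective f := fun a b e =>
    Subtype.ext (mul_left_cancel (a := g₁) (Subtype.ext (mul_left_cancel e)))
  have hY : {g : S.H | g ∉ C.T0 ∧ g ^ 6 = S.tH} = Set.range f := by
    ext g
    constructor
    · rintro ⟨hgT, hg6⟩
      obtain ⟨g', hg', hsq⟩ := C.exists_of_outside hgT
      have hφ3 : φ3 g' = S.tH := by
        show C.sqHom g' ^ 3 = _
        rw [← hsq, ← pow_two, ← pow_mul, hg6]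
      refine ⟨⟨g₁⁻¹ * g', by show φ3 _ = 1; rw [map_mul, map_inv, hg₁3, hφ3, inv_mul_cancel]⟩, ?_⟩
      show C.r * ((g₁ * (g₁⁻¹ * g') : C.T0) : S.H) = g
      rw [mul_inv_cancel_left, ← hg']
    · rintro ⟨a, rfl⟩
      refine ⟨C.mul_not_mem (g₁ * a : C.T0).2, ?_⟩
      show (C.r * ((g₁ * a : C.T0) : S.H)) ^ 6 = S.tH
      rw [show (6 : ℕ) = 2 * 3 from rfl, pow_mul, pow_two, ← sqHom_eq]
      show φ3 (g₁ * a) = _
      rw [map_mul, hg₁3, show φ3 (a : C.T0) = 1 from a.2, mul_one]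
  rw [hY, Set.ncard_range_of_injective hf, hc3]

include hF in
lemma pow_mem_center {x₀ : S.H} (hx : x₀ ∈ C.T0) : ∃ i, ((x₀ ^ (2 * C.k) : S.H) : GL (Fin 3) F) = S.z ^ i := by
  refine S.three_H hF _ (n := 1) ?_
  rw [pow_one, ← pow_mul, show 2 * C.k * 3 = 6 * C.k by ring]
  have h := C.T0.orderOf_dvd_natCard hx
  rw [C.card_T0] at h
  exact orderOf_dvd_iff_pow_eq_one.1 h

end Core

/-- The torus data. -/
structure Torus where
  k : ℕ
  T : Subgroup (GL (Fin 3) F)
  four_le : 4 ≤ k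
  even : Even k
  not_three : ¬ 3 ∣ k
  not_p : ¬ S.p ∣ k
  le : T ≤ S.H
  z_mem : S.z ∈ T
  t_mem : S.t ∈ T
  card_T : Nat.card T = 6 * k
  card_H : Nat.card S.H = 12 * k
  normal : ∀ g ∈ S.H, ∀ x ∈ T, g * x * g⁻¹ ∈ T
  shift : ∀ g ∈ S.H, ∀ h ∈ S.H, g ∉ T → h ∉ T → g * h ∈ T
  outside : ∀ g ∈ S.H, g ∉ T → (g ^ 6 = 1 ∨ g ^ 6 = S.t) ∧ ∃ i, g ^ 4 = S.z ^ i
  card_Y : {g : GL (Fin 3) F | g ∈ S.H ∧ g ∉ T ∧ g ^ 6 = S.t}.ncard = 3 * k
  pow_mem : ∀ x ∈ T, ∃ i, x ^ (2 * k) = S.z ^ i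
  conj_invol : ∀ g ∈ S.M, g * g = 1 → g ≠ 1 → ∃ q ∈ S.M, q * g * q⁻¹ = S.t
  ti : ∀ g ∈ S.M, ∀ x ∈ T, (∀ m, x ≠ S.z ^ m) → g * x * g⁻¹ ∈ T → g ∈ S.H

include hF in
/-- The torus exists. -/
theorem exists_torus : Nonempty S.Torus := by
  obtain ⟨C⟩ := S.exists_core hF
  have hmemT : ∀ g : S.H, (g : GL (Fin 3) F) ∈ C.T0.map S.H.subtype ↔ g ∈ C.T0 := fun g =>
    Subgroup.mem_map_iff_mem S.H.subtype_injective
  refine ⟨{ k := C.k, T := C.T0.map S.H.subtype, four_le := C.four_le, even := C.even_k,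
            not_three := C.three_not_dvd hF,
            not_p := fun h => S.not_dvd_card_H (C.card_H ▸ h.mul_left 12),
            le := Subgroup.map_subtype_le C.T0, z_mem := (hmemT S.zH).2 (C.ker_le _ S.pi_z),
            t_mem := (hmemT S.tH).2 (C.ker_le _ S.pi_t),
            card_T := by rw [Subgroup.card_map_of_injective S.H.subtype_injective, C.card_T0],
            card_H := C.card_H,
            normal := fun g hg x' hx' => by
              obtain ⟨x₀, hx₀, rfl⟩ := hx'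
              exact Subgroup.mem_map.2 ⟨⟨g, hg⟩ * x₀ * ⟨g, hg⟩⁻¹, C.normal.conj_mem _ hx₀ _, by simp⟩,
            shift := fun g hg h hh h1 h2 => Subgroup.mem_map.2 ⟨⟨g, hg⟩ * ⟨h, hh⟩,
              C.mul_mem_of _ _ (fun e => h1 (Subgroup.mem_map.2 ⟨⟨g, hg⟩, e, rfl⟩))
                (fun e => h2 (Subgroup.mem_map.2 ⟨⟨h, hh⟩, e, rfl⟩)), rfl⟩,
            outside := fun g hg hgT => ?_, card_Y := ?_, pow_mem := fun x' hx' => ?_,
            conj_invol := C.conj_invol, ti := ?_ }⟩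
  · obtain ⟨h6, i, h4⟩ := C.outside_props (g := ⟨g, hg⟩) (fun e => hgT (Subgroup.mem_map.2 ⟨⟨g, hg⟩, e, rfl⟩))
    refine ⟨?_, i, congrArg Subtype.val h4⟩
    rcases h6 with e | e
    exacts [Or.inl (congrArg Subtype.val e), Or.inr (congrArg Subtype.val e)]
  · have e : {g : GL (Fin 3) F | g ∈ S.H ∧ g ∉ C.T0.map S.H.subtype ∧ g ^ 6 = S.t} =
        (fun g : S.H => (g : GL (Fin 3) F)) '' {g : S.H | g ∉ C.T0 ∧ g ^ 6 = S.tH} := by
      ext g
      constructor
      · rintro ⟨hg, hgT, h6⟩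
        exact ⟨⟨g, hg⟩, ⟨fun e => hgT (Subgroup.mem_map.2 ⟨⟨g, hg⟩, e, rfl⟩), Subtype.ext h6⟩, rfl⟩
      · rintro ⟨a, ⟨ha, h6⟩, rfl⟩
        exact ⟨a.2, fun e => ha ((hmemT a).1 e), congrArg Subtype.val h6⟩
    rw [e, Set.ncard_image_of_injective _ Subtype.val_injective, C.card_six]
  · obtain ⟨x₀, hx₀, rfl⟩ := hx'
    exact C.pow_mem_center hF hx₀
  · rintro g hg _ ⟨x₀, hx₀, rfl⟩ hns ⟨x₂, hx₂, hx₂v⟩
    exact S.mem_H.2 ⟨hg, mul_inv_eq_iff_eq_mul.1 (C.conj_t_eq hF hg hx₀ hx₂ hns hx₂v)⟩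

end Setup

end CfsgLib.Geo.SL3.Hessian
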