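/-
Elements commuting with no involution and not conjugate into the extraspecial group.
-/
import Cfsg.Agent.Geo.SLThree.Hessian.TorusExists

set_option autoImplicit false
set_option linter.unusedSectionVars false

namespace CfsgLib.Geo.SL3.Hessian

open Matrix Cfsg Cfsg.Geo CfsgLib.Geo CfsgLib.Dickson

namespace Setup

variable {F : Type*} [Field F] [Fintype F] (S : Setup F)

/-- A non-central element commuting with no involution and not conjugate into the extraspecial group. -/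
structure Lone (x : GL (Fin 3) F) : Prop where
  mem : x ∈ S.M
  ne_z : ∀ m, x ≠ S.z ^ m
  no_invol : ∀ w ∈ S.M, w * w = 1 → w ≠ 1 → w * x ≠ x * w
  no_R : ∀ q ∈ S.M, q * x * q⁻¹ ∉ S.R

/-- The centraliser in the overgroup. -/
def Cent (x : GL (Fin 3) F) : Subgroup (GL (Fin 3) F) := S.M ⊓ Subgroup.centralizer {x}

lemma mem_Cent {x g : GL (Fin 3) F} : g ∈ S.Cent x ↔ g ∈ S.M ∧ g * x = x * g := by
  rw [Cent, Subgroup.mem_inf, Subgroup.mem_centralizer_singleton_iff]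

lemma conj_ne_z {x q : GL (Fin 3) F} (h : ∀ m, x ≠ S.z ^ m) (m : ℕ) : q * x * q⁻¹ ≠ S.z ^ m := fun e => h m (by
  rw [mul_inv_eq_iff_eq_mul, S.z_pow_comm] at e
  exact mul_left_cancel e)

lemma commute_conj {G : Type*} [Group G] {x y : G} (h : x * y = y * x) (q : G) :
    q * x * q⁻¹ * (q * y * q⁻¹) = q * y * q⁻¹ * (q * x * q⁻¹) := by
  rw [show q * x * q⁻¹ * (q * y * q⁻¹) = q * (x * y) * q⁻¹ by group, h]
  group

lemma zpowers_z_le : Subgroup.zpowers S.z ≤ S.M := Subgroup.zpowers_le.2 S.z_mem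

lemma orderOf_z : orderOf S.z = 3 :=
  haveI : Fact (Nat.Prime 3) := ⟨Nat.prime_three⟩
  orderOf_eq_prime S.z_cube S.z_ne_one

variable (hF : S.Fused)
include hF

lemma mem_R_of_commute {x g : GL (Fin 3) F} (hx : x ∈ S.R) (hns : ∀ m, x ≠ S.z ^ m) (hg : g ∈ S.M)
    (hc : g * x = x * g) : g ∈ S.R := by
  obtain ⟨q, hq, m, hm⟩ := S.exists_conj_a hx hns
  have h1 : q * g * q⁻¹ ∈ S.R := by
    refine S.mem_R_of_commute_a hF (mul_mem (mul_mem hq.1 hg) (inv_mem hq.1)) ?_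
    have e := commute_conj hc q
    rw [hm] at e
    generalize q * g * q⁻¹ = K at e ⊢
    refine mul_left_cancel (a := S.z ^ m) ?_
    rw [← mul_assoc, S.z_pow_comm, mul_assoc, e, mul_assoc]
  have := S.conj_mem_R (inv_mem hq) h1
  rwa [show q⁻¹ * (q * g * q⁻¹) * q⁻¹⁻¹ = g by group] at this

lemma cube_of_mem_R {x : GL (Fin 3) F} (hx : x ∈ S.R) : x ^ 3 = 1 := by
  by_cases hns : ∀ m, x ≠ S.z ^ m
  · obtain ⟨q, hq, m, hm⟩ := S.exists_conj_a hx hns
    have e : q * x ^ 3 * q⁻¹ = 1 := by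
      rw [← conj_pow, hm, Commute.mul_pow (show Commute (S.z ^ m) S.a from S.z_pow_comm m S.a), S.a_cube, mul_one,
        ← pow_mul, mul_comm, pow_mul, S.z_cube, one_pow]
    rwa [mul_inv_eq_one, mul_eq_left] at e
  · push Not at hns
    obtain ⟨m, rfl⟩ := hns
    rw [← pow_mul, mul_comm, pow_mul, S.z_cube, one_pow]

variable (T : S.Torus)
include T

lemma exists_conj_H {x w : GL (Fin 3) F} (hx : x ∈ S.M) (hw : w ∈ S.M) (hww : w * w = 1) (hw1 : w ≠ 1)
    (hc : w * x = x * w) : ∃ q ∈ S.M, q * w * q⁻¹ = S.t ∧ q * x * q⁻¹ ∈ S.H := by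
  obtain ⟨q, hq, e⟩ := T.conj_invol w hw hww hw1
  exact ⟨q, hq, e, S.mem_H.2 ⟨mul_mem (mul_mem hq hx) (inv_mem hq), by rw [← e, commute_conj hc q]⟩⟩

variable {x : GL (Fin 3) F} (hx : S.Lone x)
include hx

lemma Lone.not_commute_conj_t {q : GL (Fin 3) F} (hq : q ∈ S.M) : q * x * q⁻¹ ∉ S.H := fun h => by
  refine hx.no_invol (q⁻¹ * S.t * q) (mul_mem (mul_mem (inv_mem hq) S.t_mem) hq) ?_ ?_ ?_
  · rw [show q⁻¹ * S.t * q * (q⁻¹ * S.t * q) = q⁻¹ * (S.t * S.t) * q by group, S.t_sq, mul_one, inv_mul_cancel]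
  · intro e
    rw [mul_assoc, inv_mul_eq_one, right_eq_mul] at e
    exact S.t_ne_one e
  · have e := commute_conj (S.mem_H.1 h).2.symm q⁻¹
    rwa [inv_inv, show q⁻¹ * (q * x * q⁻¹) * q = x by group] at e

lemma Lone.of_commute {y : GL (Fin 3) F} (hy : y ∈ S.M) (hns : ∀ m, y ≠ S.z ^ m) (hc : x * y = y * x) :
    S.Lone y := by
  refine ⟨hy, hns, fun w hw hww hw1 hwy => ?_, fun q hq hR => ?_⟩
  · obtain ⟨q, hq, -, hyH⟩ := S.exists_conj_H hF T hy hw hww hw1 hwy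
    have hxy := commute_conj hc q
    have hnsy := fun m => S.conj_ne_z (q := q) hns m
    obtain ⟨X', hX'⟩ : ∃ X', q * x * q⁻¹ = X' := ⟨_, rfl⟩
    obtain ⟨Y', hY'⟩ : ∃ Y', q * y * q⁻¹ = Y' := ⟨_, rfl⟩
    rw [hX', hY'] at hxy
    rw [hY'] at hyH hnsy
    have hX : X' ∈ S.M := hX' ▸ mul_mem (mul_mem hq hx.mem) (inv_mem hq)
    by_cases hyT : Y' ∈ T.T
    · exact Lone.not_commute_conj_t S hF T hx hq (hX' ▸ T.ti X' hX Y' hyT hnsy (by rwa [hxy, mul_inv_cancel_right]))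
    · rcases (T.outside Y' hyH hyT).1 with h6 | h6
      · obtain ⟨c, hc'⟩ : ∃ c, Y' ^ 3 = c := ⟨_, rfl⟩
        by_cases hc1 : c = 1
        · obtain ⟨i, hi⟩ := S.three_H hF ⟨Y', hyH⟩ (n := 1) (Subtype.ext (by simpa [hc1] using hc'))
          exact hnsy i hi
        · refine hx.no_invol (q⁻¹ * c * q) (mul_mem (mul_mem (inv_mem hq) ?_) hq) ?_ ?_ ?_
          · rw [← hc']; exact pow_mem (S.mem_H.1 hyH).1 3
          · rw [show q⁻¹ * c * q * (q⁻¹ * c * q) = q⁻¹ * (c * c) * q by group, ← hc', ← pow_add, h6, mul_one, inv_mul_cancel]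
          · intro e
            rw [mul_assoc, inv_mul_eq_one, right_eq_mul] at e
            exact hc1 e
          · have e1 : X' * c = c * X' := hc' ▸ (Commute.pow_right hxy 3).eq
            have e := commute_conj e1.symm q⁻¹
            rwa [inv_inv, ← hX', show q⁻¹ * (q * x * q⁻¹) * q = x by group] at e
      · exact Lone.not_commute_conj_t S hF T hx hq (hX' ▸ S.mem_H.2 ⟨hX, h6 ▸ (Commute.pow_right hxy 6).eq⟩)
  · exact hx.no_R q hq (S.mem_R_of_commute hF hR (fun m => S.conj_ne_z hns m)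
      (mul_mem (mul_mem hq hx.mem) (inv_mem hq)) (commute_conj hc q))

lemma Lone.no_invol_cent {w : GL (Fin 3) F} (hw : w ∈ S.Cent x) (hww : w * w = 1) : w = 1 := by
  by_contra h
  exact hx.no_invol w (S.mem_Cent.1 hw).1 hww h (S.mem_Cent.1 hw).2

lemma Lone.odd_cent : Odd (Nat.card (S.Cent x)) := by
  rw [← Nat.not_even_iff_odd, even_iff_two_dvd]
  intro h
  haveI : Fact (Nat.Prime 2) := ⟨Nat.prime_two⟩
  obtain ⟨g, hg⟩ := exists_prime_orderOf_dvd_card' 2 h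
  have h2 : g ^ 2 = 1 := by rw [← hg, pow_orderOf_eq_one]
  have := Lone.no_invol_cent S hF T hx g.2 (by rw [← pow_two]; exact congrArg Subtype.val h2)
  rw [show g = 1 from Subtype.ext this, orderOf_one] at hg
  omega

lemma Lone.cube_ne_one : x ^ 3 ≠ 1 := fun h => by
  obtain ⟨q, hq, hR⟩ := S.three_conj hF hx.mem (n := 1) (by rwa [pow_one])
  exact hx.no_R q hq hR

lemma Lone.fifteen : 15 ≤ Nat.card (S.Cent x) := by
  have hxC : x ∈ S.Cent x := S.mem_Cent.2 ⟨hx.mem, rfl⟩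
  have hzC : S.z ∈ S.Cent x := S.mem_Cent.2 ⟨S.z_mem, S.z_comm x⟩
  have h3 := (S.Cent x).orderOf_dvd_natCard hzC
  rw [S.orderOf_z] at h3
  have hxd := (S.Cent x).orderOf_dvd_natCard hxC
  obtain ⟨l, hl, hl3, hld⟩ : ∃ l, l.Prime ∧ l ≠ 3 ∧ l ∣ orderOf x := by
    by_contra hcon
    push Not at hcon
    obtain ⟨n, hn⟩ : ∃ n, orderOf x = 3 ^ n :=
      ⟨_, Nat.eq_prime_pow_of_unique_prime_dvd (orderOf_pos x).ne' fun {d} hd hdd => by
        by_contra h; exact hcon d hd h hdd⟩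
    obtain ⟨q, hq, hR⟩ := S.three_conj hF hx.mem (n := n) (by rw [← hn, pow_orderOf_eq_one])
    exact hx.no_R q hq hR
  have hl2 : l ≠ 2 := fun e => Nat.not_even_iff_odd.2 (Lone.odd_cent S hF T hx)
    (even_iff_two_dvd.2 (e ▸ hld.trans hxd))
  have hl5 : 5 ≤ l := hl.five_le_of_ne_two_of_ne_three hl2 hl3
  have h15 := Nat.le_of_dvd Nat.card_pos
    (((Nat.coprime_primes Nat.prime_three hl).2 (Ne.symm hl3)).mul_dvd_of_dvd_of_dvd h3 (hld.trans hxd))
  omega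

end Setup

end CfsgLib.Geo.SL3.Hessian
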