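/-
The centraliser of a lone element of order prime to the characteristic, and its normaliser.
-/
import Cfsg.Agent.Geo.SLThree.Hessian.Lone

set_option autoImplicit false
set_option linter.unusedSectionVars false

namespace CfsgLib.Geo.SL3.Hessian

open Matrix Cfsg Cfsg.Geo CfsgLib.Geo CfsgLib.Dickson

lemma mk_eq_one {K : Type*} [Field K] {A : GL (Fin 2) K} (h : Matrix.ProjGenLinGroup.mk A = 1) :
    ∃ s : K, (A : Matrix (Fin 2) (Fin 2) K) = s • 1 := by
  rw [← map_one (Matrix.ProjGenLinGroup.mk (n := Fin 2) (R := K)), Matrix.ProjGenLinGroup.mk_eq_mk_iff] at h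
  obtain ⟨u, hu⟩ := h
  refine ⟨((u⁻¹ : Kˣ) : K), ?_⟩
  have e : A = (Matrix.GeneralLinearGroup.scalar (Fin 2) u)⁻¹ := eq_inv_of_mul_eq_one_left hu
  rw [e, ← map_inv, Matrix.GeneralLinearGroup.coe_scalar, Matrix.scalar_apply, ← Matrix.smul_one_eq_diagonal]

namespace Setup

variable {F : Type*} [Field F] [Fintype F] (S : Setup F) (hF : S.Fused) (T : S.Torus) {x : GL (Fin 3) F}
  (hx : S.Lone x) (hp : ¬ S.p ∣ Nat.card (S.Cent x))
include hF T hx hp

open scoped Classical in
set_option maxHeartbeats 1000000 in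
/-- The centraliser is commutative. -/
theorem Lone.cent_comm {g h : GL (Fin 3) F} (hg : g ∈ S.Cent x) (hh : h ∈ S.Cent x) : g * h = h * g := by
  haveI := S.fact
  haveI := S.charP_K
  have hxC : x ∈ S.Cent x := S.mem_Cent.2 ⟨hx.mem, rfl⟩
  have hxZ : Subgroup.zpowers x ≤ S.Cent x := Subgroup.zpowers_le.2 hxC
  obtain ⟨P, χ, hχ⟩ := S.exists_diag_frame (A := Subgroup.zpowers x)
    (fun h => hp (h.trans (Subgroup.card_dvd_of_le hxZ))) (fun y hy w hw => by
      obtain ⟨i, rfl⟩ := Subgroup.mem_zpowers_iff.1 hy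
      obtain ⟨j, rfl⟩ := Subgroup.mem_zpowers_iff.1 hw
      rw [← _root_.zpow_add, ← _root_.zpow_add, add_comm])
  obtain ⟨d, hd⟩ : ∃ d, inFrame P (S.toK x) = Matrix.diagonal d := ⟨_, hχ x (Subgroup.mem_zpowers x)⟩
  have hz : ∀ k ∈ S.Cent x, ∀ i j, d i ≠ d j → inFrame P (S.toK k) i j = 0 := by
    intro k hk i j hij
    have e : inFrame P (S.toK k) * inFrame P (S.toK x) = inFrame P (S.toK x) * inFrame P (S.toK k) := by
      rw [← inFrame_mul, ← inFrame_mul, ← map_mul, ← map_mul, (S.mem_Cent.1 hk).2]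
    rw [hd] at e
    have h := congrFun (congrFun e i) j
    rw [Matrix.mul_diagonal, Matrix.diagonal_mul, mul_comm] at h
    exact (mul_eq_zero.1 (show (d j - d i) * inFrame P (S.toK k) i j = 0 by linear_combination h)).resolve_left
      (sub_ne_zero.2 (Ne.symm hij))
  by_cases hinj : Function.Injective d
  · refine S.toK_injective (inFrame_injective P ?_)
    have hdiag : ∀ k ∈ S.Cent x, inFrame P (S.toK k) = Matrix.diagonal fun i => inFrame P (S.toK k) i i := by
      intro k hk
      ext i j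
      by_cases h : i = j
      · subst h; simp
      · rw [Matrix.diagonal_apply_ne _ h, hz k hk i j (hinj.ne h)]
    rw [map_mul, map_mul, inFrame_mul, inFrame_mul, hdiag g hg, hdiag h hh, Matrix.diagonal_mul_diagonal,
      Matrix.diagonal_mul_diagonal]
    congr 1; funext i; ring
  · obtain ⟨Q, α, β, hab, hQ⟩ : ∃ (Q : GL (Fin 3) (AlgebraicClosure F)) (α β : AlgebraicClosure F),
        α ≠ β ∧ inFrame Q (S.toK x) = Matrix.diagonal ![α, β, β] := by
      have hns : ¬ (d 0 = d 1 ∧ d 1 = d 2) := fun ⟨e1, e2⟩ => by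
        have h1 : inFrame P (S.toK x) = d 0 • 1 := by
          rw [hd, Matrix.smul_one_eq_diagonal]
          congr 1; funext i; fin_cases i <;> simp [e1, e2]
        have h2 := scalar_of_inFrame h1
        rw [S.toK_val] at h2
        have hinjK := (algebraMap F (AlgebraicClosure F)).injective
        obtain ⟨i, -, hi⟩ := S.eq_z_pow hx.mem (c := (x : Matrix (Fin 3) (Fin 3) F) 0 0) (by
          ext i j
          apply hinjK
          have a := congrFun (congrFun h2 i) j
          have b := congrFun (congrFun h2 0) 0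
          simp only [Matrix.map_apply, Matrix.smul_apply, Matrix.one_apply_eq, smul_eq_mul, mul_one] at a b
          rw [a, ← b, Matrix.smul_apply, smul_eq_mul, map_mul]
          by_cases h : i = j
          · subst h; simp
          · simp [Matrix.one_apply_ne h])
        exact hx.ne_z i hi
      have hshift : ∀ (Q : GL (Fin 3) (AlgebraicClosure F)) (e : Fin 3 → AlgebraicClosure F),
          inFrame Q (S.toK x) = Matrix.diagonal e →
          inFrame (Q * (S.toK S.b)⁻¹) (S.toK x) = Matrix.diagonal ![e 2, e 0, e 1] := by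
        intro Q e he
        have hb : (S.toK S.b : Matrix (Fin 3) (Fin 3) (AlgebraicClosure F)) * Matrix.diagonal e =
            Matrix.diagonal ![e 2, e 0, e 1] * (S.toK S.b : Matrix (Fin 3) (Fin 3) (AlgebraicClosure F)) := by
          rw [S.toK_val, S.b_val]
          ext i j
          fin_cases i <;> fin_cases j <;>
            simp [CfsgLib.Elusive.cycMat, Matrix.mul_apply, Fin.sum_univ_three, Matrix.diagonal_apply]
        have he' : ((Q⁻¹ * S.toK x * Q : GL (Fin 3) (AlgebraicClosure F)) : Matrix (Fin 3) (Fin 3) (AlgebraicClosure F)) =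
            Matrix.diagonal e := he
        rw [inFrame, show (Q * (S.toK S.b)⁻¹)⁻¹ * S.toK x * (Q * (S.toK S.b)⁻¹) =
          S.toK S.b * (Q⁻¹ * S.toK x * Q) * (S.toK S.b)⁻¹ by group, Units.val_mul, Units.val_mul,
          he', hb, mul_assoc,
          Units.mul_inv, mul_one]
      have h1 := hshift P d hd
      have h2 := hshift _ _ h1
      obtain ⟨i, j, hij, hne⟩ := Function.not_injective_iff.1 hinj
      fin_cases i <;> fin_cases j <;> simp at hne hij
      · exact ⟨_, d 2, d 0, fun e => hns ⟨hij, by rw [← hij, e]⟩, by rw [h1, hij]⟩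
      · exact ⟨_, d 1, d 2, fun e => hns ⟨hij.trans e.symm, e⟩, by rw [h2, hij]; simp⟩
      · exact ⟨_, d 2, d 0, fun e => hns ⟨hij.symm, by rw [hij, e]⟩, by rw [h1, ← hij]⟩
      · exact ⟨P, d 0, d 1, fun e => hns ⟨e, hij⟩, by rw [hd]; congr 1; funext i; fin_cases i <;> simp [hij]⟩
      · exact ⟨_, d 1, d 2, fun e => hns ⟨hij.symm.trans e.symm, e⟩, by rw [h2, ← hij]; simp⟩
      · exact ⟨P, d 0, d 1, fun e => hns ⟨e, hij.symm⟩, by rw [hd]; congr 1; funext i; fin_cases i <;> simp [hij]⟩
    have hB : ∀ k ∈ S.Cent x, S.toK k ∈ Blk Q := fun k hk => mem_blk_of_commute hab hQ (by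
      rw [← map_mul, ← map_mul, (S.mem_Cent.1 hk).2])
    let f : S.Cent x →* Blk Q := (S.toK.comp (S.Cent x).subtype).codRestrict _ fun k => hB k k.2
    let ρ : S.Cent x →* PGL2 (AlgebraicClosure F) := Matrix.ProjGenLinGroup.mk.comp ((eta Q).comp f)
    haveI : Finite ρ.range := (Set.finite_range _).to_subtype
    have hdvd := Subgroup.card_range_dvd ρ
    obtain ⟨u, v, huv, hfix⟩ := exists_fixed_pair_of_odd S.p ρ.range (fun h => hp (h.trans hdvd))
      ((Lone.odd_cent S hF T hx).of_dvd_nat hdvd)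
    set G : S.Cent x := ⟨g, hg⟩
    set H : S.Cent x := ⟨h, hh⟩
    obtain ⟨c, hc⟩ : ∃ c, c = G * H * G⁻¹ * H⁻¹ := ⟨_, rfl⟩
    have hρ : ρ c = 1 := by
      rw [hc, map_mul, map_mul, map_mul, map_inv, map_inv, commute_of_fix huv (hfix _ ⟨G, rfl⟩).1 (hfix _ ⟨G, rfl⟩).2
        (hfix _ ⟨H, rfl⟩).1 (hfix _ ⟨H, rfl⟩).2]
      group
    obtain ⟨s, hs⟩ := mk_eq_one hρ
    have hs' : (eta Q (f c) : Matrix (Fin 2) (Fin 2) (AlgebraicClosure F)) = s • 1 := hs
    have hdet : (eta Q (f c) : Matrix (Fin 2) (Fin 2) (AlgebraicClosure F)).det = 1 := by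
      rw [← Matrix.GeneralLinearGroup.val_det_apply, hc]
      simp only [map_mul, map_inv]
      rw [mul_right_comm (Matrix.GeneralLinearGroup.det (eta Q (f G))), mul_inv_cancel, one_mul, mul_inv_cancel,
        Units.val_one]
    have hcorner : corner Q (f c) = 1 := by
      have a : corner Q (f G) * corner Q (f G⁻¹) = 1 := by rw [← map_mul, ← map_mul, mul_inv_cancel, map_one, map_one]
      have b : corner Q (f H) * corner Q (f H⁻¹) = 1 := by rw [← map_mul, ← map_mul, mul_inv_cancel, map_one, map_one]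
      rw [hc, map_mul, map_mul, map_mul, map_mul, map_mul, map_mul]
      linear_combination (corner Q (f H) * corner Q (f H⁻¹)) * a + b
    have hss : s * s = 1 := by
      rw [hs', Matrix.det_smul, Matrix.det_one, mul_one, Fintype.card_fin, pow_two] at hdet
      exact hdet
    have hcc : c * c = 1 := by
      have hf : f (c * c) = f 1 := blk_ext (by rw [map_mul, map_mul, hcorner, mul_one, map_one, map_one]) (by
        rw [map_mul, map_mul, Units.val_mul, hs', smul_mul_assoc, one_mul, smul_smul, hss, one_smul, map_one, map_one,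
          Units.val_one])
      exact Subtype.ext (S.toK_injective (congrArg Subtype.val hf))
    have h1 : c = 1 := Subtype.ext (Lone.no_invol_cent S hF T hx c.2 (congrArg Subtype.val hcc))
    rw [hc, mul_inv_eq_one, mul_inv_eq_iff_eq_mul] at h1
    exact congrArg Subtype.val h1

/-- The centraliser of every non-central element is the same. -/
theorem Lone.cent_eq {y : GL (Fin 3) F} (hy : y ∈ S.Cent x) (hns : ∀ m, y ≠ S.z ^ m) : S.Cent y = S.Cent x := by
  obtain ⟨hyM, hyx⟩ := S.mem_Cent.1 hy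
  have hL : S.Lone y := Lone.of_commute S hF T hx hyM hns hyx.symm
  have hpy : ¬ S.p ∣ Nat.card (S.Cent y) := by
    intro h
    haveI := S.fact
    obtain ⟨w, hw⟩ := exists_prime_orderOf_dvd_card' S.p h
    have hwp : (w : GL (Fin 3) F) ^ S.p = 1 := by
      rw [← SubgroupClass.coe_pow, ← hw, pow_orderOf_eq_one, OneMemClass.coe_one]
    have hw1 : (w : GL (Fin 3) F) ≠ 1 := fun e => S.prime.ne_one (by
      rw [← show orderOf w = S.p from hw, show w = 1 from Subtype.ext e, orderOf_one])
    obtain ⟨i, n, hin⟩ := S.centraliser_p (S.mem_Cent.1 w.2).1 hwp hw1 hyM (S.mem_Cent.1 w.2).2.symm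
    have h1 : ((w : GL (Fin 3) F) ^ n) ^ Nat.card (S.Cent x) = 1 := by
      have e : (w : GL (Fin 3) F) ^ n = S.z ^ (2 * i) * y :=
        calc (w : GL (Fin 3) F) ^ n = S.z ^ (2 * i) * (S.z ^ i * (w : GL (Fin 3) F) ^ n) := by
              rw [← mul_assoc, ← pow_add, show 2 * i + i = 3 * i by ring, pow_mul, S.z_cube, one_pow, one_mul]
          _ = _ := congrArg _ hin.symm
      rw [e]
      exact congrArg Subtype.val (pow_card_eq_one' (x := (⟨S.z ^ (2 * i) * y,
        mul_mem (pow_mem (S.mem_Cent.2 ⟨S.z_mem, S.z_comm x⟩) _) hy⟩ : S.Cent x)))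
    have h2 : ((w : GL (Fin 3) F) ^ n) ^ S.p = 1 := by rw [← pow_mul, mul_comm, pow_mul, hwp, one_pow]
    have h3 := pow_eq_one_of_coprime ((S.prime.coprime_iff_not_dvd).2 hp) h2 h1
    exact hns i (by rw [hin, h3, mul_one])
  refine le_antisymm (fun g hg => S.mem_Cent.2 ⟨(S.mem_Cent.1 hg).1, ?_⟩)
    (fun g hg => S.mem_Cent.2 ⟨(S.mem_Cent.1 hg).1, Lone.cent_comm S hF T hx hp hg hy⟩)
  exact Lone.cent_comm S hF T hL hpy hg (S.mem_Cent.2 ⟨hx.mem, hyx.symm⟩)

open scoped Classical in
set_option maxHeartbeats 1000000 in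
/-- The normaliser is at most three times the centraliser. -/
theorem Lone.card_normaliser :
    Nat.card (S.M ⊓ Subgroup.normalizer (S.Cent x : Set (GL (Fin 3) F)) : Subgroup _) ≤ 3 * Nat.card (S.Cent x) := by
  obtain ⟨A, hA⟩ : ∃ A, A = S.Cent x := ⟨_, rfl⟩
  rw [← hA]
  have hcomm : ∀ g ∈ A, ∀ h ∈ A, g * h = h * g := fun g hg h hh => Lone.cent_comm S hF T hx hp (hA ▸ hg) (hA ▸ hh)
  have hAM : ∀ g ∈ A, g ∈ S.M := fun g hg => (S.mem_Cent.1 (hA ▸ hg)).1
  have hxA : x ∈ A := hA ▸ S.mem_Cent.2 ⟨hx.mem, rfl⟩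
  obtain ⟨P, χ, hχ⟩ := S.exists_diag_frame (A := A) (hA ▸ hp) hcomm
  have hχm : ∀ y ∈ A, ∀ w ∈ A, ∀ i, χ (y * w) i = χ y i * χ w i := by
    intro y hy w hw i
    have e := hχ _ (mul_mem hy hw)
    rw [map_mul, inFrame_mul, hχ y hy, hχ w hw, Matrix.diagonal_mul_diagonal] at e
    exact (congrFun (Matrix.diagonal_injective e) i).symm
  have hχ1 : ∀ i, χ 1 i = 1 := fun i => by
    have e := hχ 1 (one_mem A)
    rw [map_one, inFrame_one, ← Matrix.diagonal_one] at e
    exact (congrFun (Matrix.diagonal_injective e) i).symm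
  have hχpow : ∀ y ∈ A, ∀ (n : ℕ) i, χ (y ^ n) i = χ y i ^ n := by
    intro y hy n i
    induction n with
    | zero => rw [pow_zero, pow_zero, hχ1]
    | succ n ih => rw [pow_succ, pow_succ, hχm _ (pow_mem hy n) _ hy, ih]
  have hχdet : ∀ y ∈ A, χ y 0 * χ y 1 * χ y 2 = 1 := by
    intro y hy
    have e := det_inFrame P (S.toK y)
    rw [hχ y hy, S.det_toK (hAM y hy), Matrix.det_diagonal, Fin.prod_univ_three] at e
    exact e
  have hx3 : ¬ ∀ i, χ x i ^ 3 = 1 := fun h => Lone.cube_ne_one S hF T hx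
    (S.eq_of_char hχ (pow_mem hxA 3) (one_mem A) (funext fun i => by rw [hχpow x hxA, h i, hχ1]))
  set N := S.M ⊓ Subgroup.normalizer (A : Set (GL (Fin 3) F))
  have hN : ∀ n ∈ N, ∀ y ∈ A, n * y * n⁻¹ ∈ A := fun n hn y hy => (Subgroup.mem_normalizer_iff.1 hn.2 y).1 hy
  have hfix : ∀ n ∈ N, (∀ y ∈ A, ∀ i, χ (n * y * n⁻¹) i = χ y i) → n ∈ A := fun n hn h => by
    rw [hA]
    exact S.mem_Cent.2 ⟨hn.1, mul_inv_eq_iff_eq_mul.1 (S.eq_of_char hχ (hN n hn x hxA) hxA (funext (h x hxA)))⟩
  by_cases hdist : ∀ i j : Fin 3, (∀ y ∈ A, χ y i = χ y j) → i = j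
  · choose σ hσ using fun n : N => exists_char_of_conj S hχ (hN n n.2)
    have huniq : ∀ (n : N) i i' , (∀ y ∈ A, χ ((n : GL (Fin 3) F) * y * (n : GL (Fin 3) F)⁻¹) i =
        χ ((n : GL (Fin 3) F) * y * (n : GL (Fin 3) F)⁻¹) i') → i = i' := fun n i i' h => hdist i i' fun y hy => by
      have := h _ (hN _ (inv_mem n.2) y hy)
      simpa [mul_assoc] using this
    have hinj : ∀ n, Function.Injective (σ n) := fun n j j' e => hdist j j' fun y hy => by
      rw [← hσ n j y hy, e, hσ n j' y hy]
    let π : N →* Equiv.Perm (Fin 3) :=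
      { toFun := fun n => Equiv.ofBijective (σ n) (Finite.injective_iff_bijective.1 (hinj n))
        map_one' := Equiv.ext fun j => huniq 1 _ _ fun y hy => by
          show χ _ (σ 1 j) = χ _ j
          rw [hσ 1 j y hy, OneMemClass.coe_one, one_mul, inv_one, mul_one]
        map_mul' := fun m n => Equiv.ext fun j => huniq (m * n) _ _ fun y hy => by
          show χ _ (σ (m * n) j) = χ _ (σ m (σ n j))
          rw [hσ (m * n) j y hy, Subgroup.coe_mul, show (m : GL (Fin 3) F) * n * y * ((m : GL (Fin 3) F) * n)⁻¹ =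
            (m : GL (Fin 3) F) * ((n : GL (Fin 3) F) * y * (n : GL (Fin 3) F)⁻¹) * (m : GL (Fin 3) F)⁻¹ by group,
            hσ m _ _ (hN n n.2 y hy), hσ n j y hy] }
    have hπ : ∀ (n : N) j, ∀ y ∈ A, χ ((n : GL (Fin 3) F) * y * (n : GL (Fin 3) F)⁻¹) (π n j) = χ y j := hσ
    have hker : π.ker.map N.subtype ≤ A := by
      rintro _ ⟨n, hn, rfl⟩
      refine hfix _ n.2 fun y hy i => ?_
      have := hπ n i y hy
      rwa [show π n = 1 from hn] at this
    have hinvert : ∀ (n : N) (i j l : Fin 3), i ≠ j → π n = Equiv.swap i j → l ≠ i → l ≠ j →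
        ∀ y ∈ A, χ y l ^ 3 = 1 := by
      intro n i j l hij hn hli hlj
      obtain ⟨e, m, hm2, hnm⟩ := Nat.exists_eq_pow_mul_and_not_dvd (orderOf_pos n).ne' 2 (by norm_num)
      have hm : Odd m := Nat.not_even_iff_odd.1 fun h => hm2 (even_iff_two_dvd.1 h)
      obtain ⟨c, hc⟩ := hm
      set s := n ^ m with hs
      have hπs : π s = Equiv.swap i j := by
        rw [hs, map_pow, hn, hc, pow_succ, pow_mul, pow_two, Equiv.swap_mul_self, one_pow, one_mul]
      have hsA : ((s * s : N) : GL (Fin 3) F) ∈ A := hker ⟨s * s, by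
        show π (s * s) = 1
        rw [map_mul, hπs, Equiv.swap_mul_self], rfl⟩
      have hss : (s : GL (Fin 3) F) * s = 1 := by
        have h1 : ((s * s : N) : GL (Fin 3) F) ^ 2 ^ e = 1 := by
          rw [← SubmonoidClass.coe_pow, hs, ← pow_add, ← pow_mul, show (m + m) * 2 ^ e = orderOf n * 2 by rw [hnm]; ring,
            pow_mul, pow_orderOf_eq_one, one_pow, OneMemClass.coe_one]
        exact pow_eq_one_of_coprime (Nat.Coprime.pow_left e (Nat.coprime_two_left.2 (Lone.odd_cent S hF T hx)))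
          h1 (congrArg Subtype.val (pow_card_eq_one' (x := (⟨((s * s : N) : GL (Fin 3) F), hA ▸ hsA⟩ : S.Cent x))))
      have hs1 : (s : GL (Fin 3) F) ≠ 1 := fun h => by
        have h' := hπs
        rw [show s = 1 from Subtype.ext h, map_one] at h'
        have := congrArg (fun f => f i) h'
        simp at this
        exact hij this
      have hsi : (s : GL (Fin 3) F)⁻¹ = (s : GL (Fin 3) F) := inv_eq_of_mul_eq_one_right hss
      intro y hy
      have hy' := hN s s.2 y hy
      obtain ⟨w, hw⟩ : ∃ w, w = y * ((s : GL (Fin 3) F) * y * (s : GL (Fin 3) F)⁻¹) := ⟨_, rfl⟩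
      have hwA : w ∈ A := hw ▸ mul_mem hy hy'
      have hsw : (s : GL (Fin 3) F) * w = w * s := by
        rw [hw]
        nth_rw 2 [hcomm _ hy _ hy']
        rw [hsi]
        simp only [mul_assoc]
      obtain ⟨a, ha⟩ : ∃ a, w = S.z ^ a := by
        by_contra hcon
        push Not at hcon
        exact (Lone.of_commute S hF T hx (hAM w hwA) hcon (S.mem_Cent.1 (hA ▸ hwA)).2.symm).no_invol s s.2.1 hss hs1 hsw
      have h1 : χ y l ^ 6 = 1 := by
        have h := hχpow w hwA 3 l
        rw [ha, ← pow_mul, mul_comm, pow_mul, S.z_cube, one_pow, hχ1, ← ha, hw, hχm _ hy _ hy'] at h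
        have hl : χ ((s : GL (Fin 3) F) * y * (s : GL (Fin 3) F)⁻¹) l = χ y l := by
          have := hπ s l y hy
          rwa [hπs, Equiv.swap_apply_of_ne_of_ne hli hlj] at this
        rw [hl] at h
        linear_combination -h
      have h2 : χ y l ^ Nat.card A = 1 := by
        rw [← hχpow y hy, show y ^ Nat.card A = 1 from congrArg Subtype.val (pow_card_eq_one' (x := (⟨y, hy⟩ : A))), hχ1]
      have h3 := pow_gcd_eq_one.2 ⟨h1, h2⟩
      have hd : Nat.gcd 6 (Nat.card A) ∣ 3 := by
        refine Nat.Coprime.dvd_of_dvd_mul_left (k := Nat.gcd 6 (Nat.card A)) (m := 2) ?_ (Nat.gcd_dvd_left 6 _)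
        exact Nat.Coprime.coprime_dvd_left (Nat.gcd_dvd_right _ _)
          (Nat.coprime_two_right.2 (hA ▸ Lone.odd_cent S hF T hx))
      obtain ⟨q, hq⟩ := hd
      rw [hq, pow_mul, h3, one_pow]
    have hrange : Nat.card π.range ≤ 3 := by
      have hne : π.range ≠ ⊤ := fun h => by
        obtain ⟨n, hn⟩ : Equiv.swap (0 : Fin 3) 1 ∈ π.range := h ▸ Subgroup.mem_top _
        obtain ⟨m, hm⟩ : Equiv.swap (1 : Fin 3) 2 ∈ π.range := h ▸ Subgroup.mem_top _
        have a := hinvert n 0 1 2 (by decide) hn (by decide) (by decide) x hxA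
        have b := hinvert m 1 2 0 (by decide) hm (by decide) (by decide) x hxA
        refine hx3 fun i => ?_
        fin_cases i
        · exact b
        · calc χ x 1 ^ 3 = χ x 0 ^ 3 * χ x 1 ^ 3 * χ x 2 ^ 3 := by rw [a, b, one_mul, mul_one]
            _ = 1 := by rw [← mul_pow, ← mul_pow, hχdet x hxA, one_pow]
        · exact a
      have h6 : Nat.card (Equiv.Perm (Fin 3)) = 6 := by
        rw [Nat.card_eq_fintype_card, Fintype.card_perm, Fintype.card_fin]; rfl
      have hd := Subgroup.card_subgroup_dvd_card π.range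
      rw [h6] at hd
      have hlt : Nat.card π.range ≠ 6 := fun h => hne (Subgroup.eq_top_of_card_eq _ (h.trans h6.symm))
      have := Nat.le_of_dvd (by norm_num) hd
      interval_cases h : Nat.card π.range <;> omega
    have hk : Nat.card π.ker ≤ Nat.card A := by
      rw [← Subgroup.card_map_of_injective N.subtype_injective]
      exact Subgroup.card_le_of_le hker
    rw [← π.ker.card_mul_index, Subgroup.index_ker]
    calc Nat.card π.ker * Nat.card π.range ≤ Nat.card A * 3 := Nat.mul_le_mul hk hrange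
      _ = _ := mul_comm _ _
  · push Not at hdist
    obtain ⟨i, j, he, hij⟩ := hdist
    obtain ⟨l, hcov, hdet⟩ : ∃ l, (∀ k, k = i ∨ k = j ∨ k = l) ∧ ∀ y ∈ A, χ y i * χ y j * χ y l = 1 := by
      fin_cases i <;> fin_cases j <;> simp at hij
      · exact ⟨2, by decide, fun y hy => by simp; linear_combination hχdet y hy⟩
      · exact ⟨1, by decide, fun y hy => by simp; linear_combination hχdet y hy⟩
      · exact ⟨2, by decide, fun y hy => by simp; linear_combination hχdet y hy⟩
      · exact ⟨0, by decide, fun y hy => by simp; linear_combination hχdet y hy⟩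
      · exact ⟨1, by decide, fun y hy => by simp; linear_combination hχdet y hy⟩
      · exact ⟨0, by decide, fun y hy => by simp; linear_combination hχdet y hy⟩
    have hdet' : ∀ y ∈ A, χ y i ^ 2 * χ y l = 1 := fun y hy => by rw [pow_two]; nth_rw 2 [he y hy]; exact hdet y hy
    have hab : ∀ y ∈ A, ∀ k, χ y k = χ y i ∨ χ y k = χ y l := fun y hy k => by
      rcases hcov k with h | h | h
      · exact Or.inl (by rw [h])
      · exact Or.inl (by rw [h, he y hy])
      · exact Or.inr (by rw [h])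
    have hle : N ≤ A := by
      intro n hn
      obtain ⟨i0, hi0⟩ := exists_char_of_conj S hχ (hN n hn) i
      by_cases hc0 : i0 = i ∨ i0 = j
      · have hi : ∀ y ∈ A, χ (n * y * n⁻¹) i = χ y i := fun y hy => by
          rcases hc0 with h | h
          · rw [← h]; nth_rw 2 [h]; exact hi0 y hy
          · rw [he _ (hN n hn y hy), ← h]; exact hi0 y hy
        refine hfix n hn fun y hy k => ?_
        have hl : χ (n * y * n⁻¹) l = χ y l := by
          have a := hdet' _ (hN n hn y hy)
          rw [hi y hy] at a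
          exact mul_left_cancel₀ (fun e => by rw [e, zero_mul] at a; exact zero_ne_one a) (a.trans (hdet' y hy).symm)
        rcases hcov k with h | h | h
        · rw [h]; exact hi y hy
        · rw [h, ← he _ (hN n hn y hy), ← he y hy]; exact hi y hy
        · rw [h]; exact hl
      · push Not at hc0
        have hi0l : i0 = l := ((hcov i0).resolve_left hc0.1).resolve_left hc0.2
        rw [hi0l] at hi0
        obtain ⟨i1, hi1⟩ := exists_char_of_conj S hχ (hN n hn) l
        have a := hdet' _ (hN n hn x hxA)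
        rw [hi0 x hxA] at a
        have b := hdet' x hxA
        have key : χ x i ^ 3 = 1 ∧ χ x l = χ x i := by
          rcases hcov i1 with h | h | h
          · rw [h] at hi1
            rw [hi1 x hxA] at a
            have e : χ x l = χ x i := by linear_combination (-(χ x l)) * b + (χ x i) * a
            exact ⟨by rw [e] at b; linear_combination b, e⟩
          · rw [h] at hi1
            rw [he _ (hN n hn x hxA), hi1 x hxA] at a
            have e : χ x l = χ x i := by linear_combination (-(χ x l)) * b + (χ x i) * a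
            exact ⟨by rw [e] at b; linear_combination b, e⟩
          · rw [h] at hi1
            have e : χ x l = χ x i := (hi1 x hxA).symm.trans (hi0 x hxA)
            exact ⟨by rw [e] at b; linear_combination b, e⟩
        exact absurd (fun k => by
          rcases hab x hxA k with h | h
          · rw [h]; exact key.1
          · rw [h, key.2]; exact key.1) hx3
    exact (Subgroup.card_le_of_le hle).trans (Nat.le_mul_of_pos_left _ (by norm_num))

end Setup

end CfsgLib.Geo.SL3.Hessian
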