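/-
The subgroup of order the characteristic and its normaliser.
-/
import Cfsg.Agent.Geo.SLThree.Hessian.Lone
import Mathlib.GroupTheory.SpecificGroups.Cyclic
import Mathlib.RingTheory.ZMod.UnitsCyclic

set_option autoImplicit false
set_option linter.unusedSectionVars false

namespace CfsgLib.Geo.SL3.Hessian

open Matrix Cfsg Cfsg.Geo CfsgLib.Geo CfsgLib.Dickson

namespace Setup

variable {F : Type*} [Field F] [Fintype F] (S : Setup F)
variable {w : GL (Fin 3) F} (hw : w ∈ S.M) (hwp : w ^ S.p = 1) (hw1 : w ≠ 1)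
include hw hwp hw1

lemma orderOf_w : orderOf w = S.p :=
  haveI := S.fact
  orderOf_eq_prime hwp hw1

lemma cent_w : S.Cent w = Subgroup.zpowers (S.z * w) := by
  refine le_antisymm (fun g hg => ?_) ?_
  · obtain ⟨hgM, hgw⟩ := S.mem_Cent.1 hg
    obtain ⟨i, n, rfl⟩ := S.centraliser_p hw hwp hw1 hgM hgw
    have hc : Commute S.z w := S.z_comm w
    have hp3 : Nat.Coprime 3 S.p := (Nat.coprime_primes Nat.prime_three S.prime).2 (by
      intro e
      have := S.seven_le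
      have e' : (3 : ℕ) = S.p := e
      omega)
    obtain ⟨m, hm3, hmp⟩ : ∃ m, m ≡ i [MOD 3] ∧ m ≡ n [MOD S.p] :=
      ⟨_, (Nat.chineseRemainder hp3 i n).2.1, (Nat.chineseRemainder hp3 i n).2.2⟩
    have : (S.z * w) ^ m = S.z ^ i * w ^ n := by
      rw [hc.mul_pow]
      congr 1
      · rw [pow_eq_pow_iff_modEq, S.orderOf_z]; exact hm3
      · rw [pow_eq_pow_iff_modEq, S.orderOf_w hw hwp hw1]; exact hmp
    rw [← this]
    exact pow_mem (Subgroup.mem_zpowers _) m
  · rw [Subgroup.zpowers_le]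
    refine S.mem_Cent.2 ⟨mul_mem S.z_mem hw, ?_⟩
    rw [mul_assoc, ← mul_assoc w S.z, ← S.z_comm, mul_assoc]

lemma card_cent_w : Nat.card (S.Cent w) = 3 * S.p := by
  have hne : 3 ≠ S.p := by have := S.seven_le; omega
  rw [S.cent_w hw hwp hw1, Nat.card_zpowers, (show Commute S.z w from S.z_comm w).orderOf_mul_eq_mul_orderOf_of_coprime
    (by rw [S.orderOf_z, S.orderOf_w hw hwp hw1]; exact (Nat.coprime_primes Nat.prime_three S.prime).2 hne),
    S.orderOf_z, S.orderOf_w hw hwp hw1]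

/-- All elements of order the characteristic are conjugate into one cyclic group. -/
lemma conj_p {v : GL (Fin 3) F} (hv : v ∈ S.M) (hvp : v ^ S.p = 1) :
    ∃ q ∈ S.M, q * v * q⁻¹ ∈ Subgroup.zpowers w := by
  haveI := S.fact
  have hpg : ∀ u : S.M, (u : GL (Fin 3) F) ^ S.p = 1 → IsPGroup S.p (Subgroup.zpowers u) := fun u hu k => ⟨1, by
    obtain ⟨i, hi⟩ := Subgroup.mem_zpowers_iff.1 k.2
    refine Subtype.ext ?_
    rw [SubmonoidClass.coe_pow, ← hi, pow_one, OneMemClass.coe_one, ← _root_.zpow_natCast, ← _root_.zpow_mul, mul_comm,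
      _root_.zpow_mul, _root_.zpow_natCast, show u ^ S.p = 1 from Subtype.ext hu, _root_.one_zpow]⟩
  obtain ⟨P, hP⟩ := (hpg ⟨w, hw⟩ hwp).exists_le_sylow
  have hwP : (⟨w, hw⟩ : S.M) ∈ (P : Subgroup S.M) := hP (Subgroup.mem_zpowers _)
  haveI : Nontrivial (P : Subgroup S.M) :=
    (Subgroup.nontrivial_iff_ne_bot _).2 fun e => by rw [e] at hwP; exact hw1 (congrArg Subtype.val (Subgroup.mem_bot.1 hwP))
  haveI := IsPGroup.center_nontrivial P.isPGroup'
  obtain ⟨c₀, hc₀⟩ := exists_ne (1 : Subgroup.center (P : Subgroup S.M))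
  obtain ⟨n, hn⟩ := IsPGroup.iff_orderOf.1
    (P.isPGroup'.to_subgroup (Subgroup.center (P : Subgroup S.M))) c₀
  have hnpos : 0 < n := Nat.pos_of_ne_zero fun e => hc₀ (orderOf_eq_one_iff.1 (by rw [hn, e, pow_zero]))
  obtain ⟨c, hc⟩ : ∃ c, c = c₀ ^ S.p ^ (n - 1) := ⟨_, rfl⟩
  have hcp : c ^ S.p = 1 := by
    rw [hc, ← pow_mul, ← pow_succ, show n - 1 + 1 = n by omega, ← hn, pow_orderOf_eq_one]
  have hc1 : c ≠ 1 := fun e => by
    have h := orderOf_dvd_of_pow_eq_one (hc ▸ e)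
    rw [hn, Nat.pow_dvd_pow_iff_le_right (show 1 < S.p from S.prime.one_lt)] at h
    omega
  set cc : GL (Fin 3) F := (((c : (P : Subgroup S.M)) : S.M) : GL (Fin 3) F)
  have hcc : cc ^ S.p = 1 := by
    have := congrArg (fun k : Subgroup.center (P : Subgroup S.M) => (((k : (P : Subgroup S.M)) : S.M) : GL (Fin 3) F)) hcp
    simpa using this
  have hcc1 : cc ≠ 1 := fun e => hc1 (Subtype.ext (Subtype.ext (Subtype.ext e)))
  have hccM : cc ∈ S.M := SetLike.coe_mem _
  have hform : ∀ y : (P : Subgroup S.M), ∃ i m : ℕ, ((y : S.M) : GL (Fin 3) F) = S.z ^ i * cc ^ m := fun y =>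
    S.centraliser_p hccM hcc hcc1 (y : S.M).2
      (congrArg (fun k : (P : Subgroup S.M) => ((k : S.M) : GL (Fin 3) F)) (Subgroup.mem_center_iff.1 c.2 y))
  have hPw : ∀ y : (P : Subgroup S.M), ((y : S.M) : GL (Fin 3) F) ∈ Subgroup.zpowers w := by
    intro y
    obtain ⟨i, m, hym⟩ := hform y
    obtain ⟨i', m', hwm⟩ := hform ⟨_, hwP⟩
    have hcomm : ((y : S.M) : GL (Fin 3) F) * w = w * ((y : S.M) : GL (Fin 3) F) := by
      have hwm' : w = S.z ^ i' * cc ^ m' := hwm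
      rw [hym, hwm']
      have hc : Commute (S.z ^ i * cc ^ m) (S.z ^ i' * cc ^ m') :=
        ((Commute.pow_pow_self S.z i i').mul_left (((show Commute S.z cc from S.z_comm cc).pow_pow i' m).symm)).mul_right
          ((((show Commute S.z cc from S.z_comm cc).pow_pow i m')).mul_left (Commute.pow_pow_self cc m m'))
      exact hc.eq
    obtain ⟨a, b, hab⟩ := S.centraliser_p hw hwp hw1 (y : S.M).2 hcomm
    obtain ⟨e, he⟩ := P.isPGroup' y
    have he' : ((y : S.M) : GL (Fin 3) F) ^ S.p ^ (e + 1) = 1 := by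
      have h := congrArg (fun k : (P : Subgroup S.M) => ((k : S.M) : GL (Fin 3) F)) he
      rw [pow_succ, pow_mul]
      simp only [SubmonoidClass.coe_pow, OneMemClass.coe_one] at h
      rw [h, one_pow]
    have hz : S.z ^ a = 1 := by
      rw [hab, (show Commute (S.z ^ a) (w ^ b) from (show Commute S.z w from S.z_comm w).pow_pow a b).mul_pow,
        ← pow_mul w, mul_comm b, pow_succ', mul_assoc, pow_mul w, hwp, one_pow, mul_one] at he'
      have h3 : (S.z ^ a) ^ 3 = 1 := by rw [← pow_mul, mul_comm, pow_mul, S.z_cube, one_pow]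
      have hne : 3 ≠ S.p := by have := S.seven_le; omega
      exact pow_eq_one_of_coprime (Nat.Coprime.pow_right _ ((Nat.coprime_primes Nat.prime_three S.prime).2 hne)) h3
        (by rwa [pow_succ'])
    rw [hab, hz, one_mul]
    exact pow_mem (Subgroup.mem_zpowers _) b
  obtain ⟨Q, hQ⟩ := (hpg ⟨v, hv⟩ hvp).exists_le_sylow
  obtain ⟨q, hq⟩ := MulAction.exists_smul_eq S.M Q P
  have h1 : q * (⟨v, hv⟩ : S.M) * q⁻¹ ∈ (P : Subgroup S.M) := by
    rw [← hq, Sylow.coe_subgroup_smul]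
    exact Subgroup.smul_mem_pointwise_smul _ (MulAut.conj q) _ (hQ (Subgroup.mem_zpowers _))
  exact ⟨q, q.2, hPw ⟨_, h1⟩⟩

/-- The normaliser of the subgroup of order the characteristic. -/
def Np (S : Setup F) (w : GL (Fin 3) F) : Subgroup (GL (Fin 3) F) :=
  S.M ⊓ Subgroup.normalizer (Subgroup.zpowers w : Set (GL (Fin 3) F))

lemma np_data : ∃ e, e ∣ S.p - 1 ∧ Nat.card (Np S w) = 3 * S.p * e ∧
    ∃ n ∈ Np S w, ∀ m : ℕ, (∃ i, n ^ m = S.z ^ i) → e ∣ m := by
  haveI := S.fact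
  set W := Subgroup.zpowers w
  let τ : Np S w →* MulAut W := (Subgroup.normalizerMonoidHom W).comp (Subgroup.inclusion inf_le_right)
  have hτ : ∀ (n : Np S w), τ n = 1 ↔ (n : GL (Fin 3) F) * w = w * n := by
    intro n
    constructor
    · intro h
      have h' := congrArg Subtype.val (DFunLike.congr_fun h (⟨w, Subgroup.mem_zpowers w⟩ : W))
      exact mul_inv_eq_iff_eq_mul.1 h'
    · intro h
      refine MulEquiv.ext fun k => Subtype.ext ?_
      obtain ⟨i, hi⟩ := Subgroup.mem_zpowers_iff.1 k.2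
      show (n : GL (Fin 3) F) * k * (n : GL (Fin 3) F)⁻¹ = k
      rw [← hi, (show Commute (n : GL (Fin 3) F) w from h).zpow_right i |>.eq, mul_inv_cancel_right]
  have hcW : Nat.card W = S.p := by rw [Nat.card_zpowers, S.orderOf_w hw hwp hw1]
  haveI : Finite (MulAut W) := Finite.of_injective (fun f : MulAut W => (f : W → W)) DFunLike.coe_injective
  let E : MulAut W ≃* (ZMod S.p)ˣ := (MulEquiv.refl _).trans ((IsCyclic.mulAutMulEquiv W).trans
    (Units.mapEquiv (ZMod.ringEquivCongr hcW).toMulEquiv))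
  have hcard : Nat.card (MulAut W) = S.p - 1 := by
    rw [Nat.card_congr E.toEquiv, Nat.card_eq_fintype_card, ZMod.card_units]
  haveI : IsCyclic (MulAut W) := isCyclic_of_surjective E.symm.toMonoidHom E.symm.surjective
  refine ⟨Nat.card τ.range, hcard ▸ Subgroup.card_subgroup_dvd_card τ.range, ?_, ?_⟩
  · have hk : τ.ker.map (Np S w).subtype = S.Cent w := by
      refine le_antisymm ?_ ?_
      · rintro _ ⟨n, hn, rfl⟩
        exact S.mem_Cent.2 ⟨n.2.1, (hτ n).1 hn⟩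
      · intro g hg
        obtain ⟨hgM, hgw⟩ := S.mem_Cent.1 hg
        have hN : g ∈ Np S w := ⟨hgM, Subgroup.centralizer_le_normalizer _ (Subgroup.mem_centralizer_iff.2 fun k hk => by
          obtain ⟨i, rfl⟩ := Subgroup.mem_zpowers_iff.1 hk
          exact ((show Commute g w from hgw).zpow_right i).eq.symm)⟩
        exact ⟨⟨g, hN⟩, (hτ _).2 hgw, rfl⟩
    rw [← τ.ker.card_mul_index, Subgroup.index_ker, ← Subgroup.card_map_of_injective (Np S w).subtype_injective, hk,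
      S.card_cent_w hw hwp hw1]
  · obtain ⟨⟨_, n, rfl⟩, hgen⟩ := IsCyclic.exists_ofOrder_eq_natCard (α := τ.range)
    refine ⟨n, n.2, fun m ⟨i, hi⟩ => ?_⟩
    have h : τ (n ^ m) = 1 := (hτ _).2 (by
      rw [SubmonoidClass.coe_pow, hi, S.z_pow_comm])
    rw [← hgen]
    exact orderOf_dvd_of_pow_eq_one (Subtype.ext (by rw [SubmonoidClass.coe_pow, OneMemClass.coe_one, ← map_pow, h]))

/-- The non-central part of the centraliser meets a conjugate only through the normaliser. -/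
lemma ti_p {g y : GL (Fin 3) F} (hg : g ∈ S.M) (hy : y ∈ S.Cent w) (hns : ∀ m, y ≠ S.z ^ m)
    (hgy : g * y * g⁻¹ ∈ S.Cent w) : g ∈ Np S w := by
  haveI := S.fact
  obtain ⟨i, n, rfl⟩ := S.centraliser_p hw hwp hw1 (S.mem_Cent.1 hy).1 (S.mem_Cent.1 hy).2
  obtain ⟨i', n', hgy'⟩ := S.centraliser_p hw hwp hw1 (S.mem_Cent.1 hgy).1 (S.mem_Cent.1 hgy).2
  have hn : ¬ S.p ∣ n := fun ⟨c, hc⟩ => hns i (by rw [hc, pow_mul, hwp, one_pow, mul_one])
  have h3 : ∀ a b : ℕ, (S.z ^ a * w ^ b) ^ 3 = w ^ (3 * b) := fun a b => by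
    rw [((show Commute S.z w from S.z_comm w).pow_pow a b).mul_pow, ← pow_mul, mul_comm a, pow_mul, S.z_cube, one_pow,
      one_mul, ← pow_mul, mul_comm b]
  have h := congrArg (· ^ 3) hgy'
  simp only [conj_pow, h3] at h
  obtain ⟨j, hj⟩ : ∃ j : ℕ, (w ^ (3 * n)) ^ j = w := by
    have hco : Nat.Coprime S.p (3 * n) := (Nat.Prime.coprime_iff_not_dvd S.prime).2 fun hd => by
      rcases (Nat.Prime.dvd_mul S.prime).1 hd with h | h
      · have := Nat.le_of_dvd (by norm_num) h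
        have h7 := S.seven_le
        have : S.p ≤ 3 := this
        omega
      · exact hn h
    obtain ⟨j, hj⟩ := exists_pow_eq_self_of_coprime (x := w) (n := 3 * n) (by
      rw [S.orderOf_w hw hwp hw1]; exact hco.symm)
    exact ⟨j, hj⟩
  have hgw : g * w * g⁻¹ ∈ Subgroup.zpowers w := by
    have e : g * w * g⁻¹ = (w ^ (3 * n')) ^ j := by
      conv_lhs => rw [← hj]
      rw [← conj_pow, h]
    rw [e]
    exact pow_mem (pow_mem (Subgroup.mem_zpowers w) _) j
  refine ⟨hg, Subgroup.mem_normalizer_fintype (S := (Subgroup.zpowers w : Set (GL (Fin 3) F))) fun k hk => ?_⟩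
  obtain ⟨a, rfl⟩ := Subgroup.mem_zpowers_iff.1 hk
  rw [← conj_zpow]
  exact zpow_mem hgw a

lemma conj_cent_p {g y : GL (Fin 3) F} (hg : g ∈ Np S w) (hy : y ∈ S.Cent w) : g * y * g⁻¹ ∈ S.Cent w := by
  obtain ⟨hyM, hyw⟩ := S.mem_Cent.1 hy
  refine S.mem_Cent.2 ⟨mul_mem (mul_mem hg.1 hyM) (inv_mem hg.1), ?_⟩
  obtain ⟨a, ha⟩ := Subgroup.mem_zpowers_iff.1 ((Subgroup.mem_normalizer_iff''.1 hg.2 w).1 (Subgroup.mem_zpowers w))
  have hc : Commute y (g⁻¹ * w * g) := ha ▸ (show Commute y w from hyw).zpow_right a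
  calc g * y * g⁻¹ * w = g * (y * (g⁻¹ * w * g)) * g⁻¹ := by group
    _ = g * (g⁻¹ * w * g * y) * g⁻¹ := by rw [hc.eq]
    _ = _ := by group

end Setup

end CfsgLib.Geo.SL3.Hessian
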