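/-
The fused case contradicts the count of the elements of the overgroup.
-/
import Cfsg.Agent.Geo.SLThree.Hessian.LoneAbelian
import Cfsg.Agent.Geo.SLThree.Hessian.SylowP

set_option autoImplicit false
set_option linter.unusedSectionVars false

namespace CfsgLib.Geo.SL3.Hessian

open Matrix Cfsg Cfsg.Geo CfsgLib.Geo CfsgLib.Dickson

/-- The conjugates of a set. -/
def conjSet {G : Type*} [Group G] (M : Subgroup G) (D : Set G) : Set G :=
  {y | ∃ g ∈ M, ∃ x ∈ D, y = g * x * g⁻¹}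

/-- The number of conjugates of a trivial-intersection set. -/
lemma card_conjSet {G : Type*} [Group G] [Finite G] (M N : Subgroup G) (D : Set G) (hN : N ≤ M)
    (h1 : ∀ g ∈ N, ∀ x ∈ D, g * x * g⁻¹ ∈ D) (h2 : ∀ g ∈ M, ∀ x ∈ D, g * x * g⁻¹ ∈ D → g ∈ N) :
    (conjSet M D).ncard * Nat.card N = Nat.card M * D.ncard := by
  classical
  let U := conjSet M D
  have hrep : ∀ y : U, ∃ g : M, ∃ x : D, (y : G) = g * x * (g : G)⁻¹ := fun y => by
    obtain ⟨g, hg, x, hx, e⟩ := y.2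
    exact ⟨⟨g, hg⟩, ⟨x, hx⟩, e⟩
  choose g₀ x₀ h₀ using hrep
  let toU : M × D → U := fun gx => ⟨gx.1 * gx.2 * (gx.1 : G)⁻¹, gx.1, gx.1.2, gx.2, gx.2.2, rfl⟩
  let E : M × D ≃ U × N :=
    { toFun := fun gx => (toU gx, ⟨(g₀ (toU gx) : G)⁻¹ * gx.1, h2 _ (mul_mem (inv_mem (g₀ (toU gx)).2) gx.1.2)
        gx.2 gx.2.2 (by
          have e := h₀ (toU gx)
          have e' : (gx.1 : G) * gx.2 * (gx.1 : G)⁻¹ = g₀ (toU gx) * x₀ (toU gx) * (g₀ (toU gx) : G)⁻¹ := e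
          rw [show (g₀ (toU gx) : G)⁻¹ * gx.1 * gx.2 * ((g₀ (toU gx) : G)⁻¹ * gx.1)⁻¹ =
            (g₀ (toU gx) : G)⁻¹ * ((gx.1 : G) * gx.2 * (gx.1 : G)⁻¹) * g₀ (toU gx) by group, e']
          simp [mul_assoc])⟩)
      invFun := fun yn => (g₀ yn.1 * ⟨yn.2, hN yn.2.2⟩, ⟨(yn.2 : G)⁻¹ * x₀ yn.1 * yn.2, by
        simpa using h1 _ (inv_mem yn.2.2) _ (x₀ yn.1).2⟩)
      left_inv := fun gx => by
        obtain ⟨⟨g, hg⟩, ⟨x, hx⟩⟩ := gx
        have e : g * x * g⁻¹ = g₀ (toU (⟨g, hg⟩, ⟨x, hx⟩)) * x₀ (toU (⟨g, hg⟩, ⟨x, hx⟩)) *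
            (g₀ (toU (⟨g, hg⟩, ⟨x, hx⟩)) : G)⁻¹ := h₀ (toU (⟨g, hg⟩, ⟨x, hx⟩))
        refine Prod.ext (Subtype.ext ?_) (Subtype.ext ?_)
        · simp
        · show ((g₀ (toU (⟨g, hg⟩, ⟨x, hx⟩)) : G)⁻¹ * g)⁻¹ * x₀ (toU (⟨g, hg⟩, ⟨x, hx⟩)) *
            ((g₀ (toU (⟨g, hg⟩, ⟨x, hx⟩)) : G)⁻¹ * g) = x
          calc _ = g⁻¹ * (g₀ (toU (⟨g, hg⟩, ⟨x, hx⟩)) * x₀ (toU (⟨g, hg⟩, ⟨x, hx⟩)) *
                (g₀ (toU (⟨g, hg⟩, ⟨x, hx⟩)) : G)⁻¹) * g := by group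
            _ = x := by rw [← e]; group
      right_inv := fun yn => by
        obtain ⟨y, n⟩ := yn
        have key : toU (g₀ y * ⟨n, hN n.2⟩, ⟨(n : G)⁻¹ * x₀ y * n, by simpa using h1 _ (inv_mem n.2) _ (x₀ y).2⟩) = y := by
          refine Subtype.ext ?_
          show (g₀ y : G) * n * ((n : G)⁻¹ * x₀ y * n) * ((g₀ y : G) * n)⁻¹ = y
          rw [h₀ y]
          group
        refine Prod.ext key (Subtype.ext ?_)
        show (g₀ (toU _) : G)⁻¹ * ((g₀ y : G) * n) = n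
        rw [key, inv_mul_cancel_left] }
  have := Nat.card_congr E
  rw [Nat.card_prod, Nat.card_prod] at this
  exact this.symm

lemma no_solution {k p e t : ℕ} (hk : 4 ≤ k) (h3 : ¬ 3 ∣ k) (hp : p.Prime) (hp7 : 7 ≤ p)
    (he : e ∣ p - 1) (hcase : e ∣ 4 ∨ e ∣ 3 ∨ e ∣ 2 * k)
    (h : t * (5 * k + 9) * p * e + 36 * k * t = e + 36 * k * p * t) : False := by
  have ht : 0 < t := by
    rcases Nat.eq_zero_or_pos t with rfl | ht
    · simp at h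
      subst h
      have := Nat.eq_zero_of_zero_dvd he
      omega
    · exact ht
  by_cases he4 : e ≤ 4
  · have h1 : t * (5 * k + 9) * p * e ≤ t * (5 * k + 9) * p * 4 := Nat.mul_le_mul_left _ he4
    zify at h h1 he4 hk hp7 ht
    nlinarith [mul_pos (show (0 : ℤ) < t by linarith) (show (0 : ℤ) < (k : ℤ) by linarith),
      mul_nonneg (mul_nonneg (show (0 : ℤ) ≤ t by linarith) (show (0 : ℤ) ≤ (k : ℤ) - 4 by linarith))
        (show (0 : ℤ) ≤ (p : ℤ) - 7 by linarith),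
      mul_nonneg (show (0 : ℤ) ≤ t by linarith) (show (0 : ℤ) ≤ (k : ℤ) - 4 by linarith),
      mul_nonneg (show (0 : ℤ) ≤ t by linarith) (show (0 : ℤ) ≤ (p : ℤ) - 7 by linarith)]
  · obtain ⟨f, hf⟩ : e ∣ 2 * k := by
      rcases hcase with h | h | h
      · exact absurd (Nat.le_of_dvd (by norm_num) h) he4
      · exact absurd (Nat.le_of_dvd (by norm_num) h) (by omega)
      · exact h
    have h' : t * (5 * k + 9) * p + 18 * f * t = 1 + 18 * f * p * t := by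
      refine Nat.eq_of_mul_eq_mul_left (show 0 < e by omega) ?_
      zify at h hf ⊢
      linear_combination h + (18 * (p : ℤ) * t - 18 * t) * hf
    have ht1 : t = 1 := by
      have h1 : t ∣ 1 + 18 * f * p * t := h' ▸ dvd_add (((dvd_mul_right t _).mul_right p)) (Dvd.intro_left _ rfl)
      exact Nat.eq_one_of_dvd_one ((Nat.dvd_add_left (Dvd.intro_left _ rfl)).1 h1)
    subst ht1
    rw [one_mul, mul_one, mul_one] at h'
    have h2 : (5 * (e * f) + 18) * p + 36 * f = 2 + 36 * f * p := by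
      rw [← hf]; linarith
    have hf0 : 0 < f := Nat.pos_of_ne_zero fun h0 => by subst h0; omega
    have hp1 : p % e = 1 := by
      obtain ⟨c, hc⟩ := he
      rw [show p = e * c + 1 by omega, Nat.mul_add_mod]
      exact Nat.one_mod_eq_one.2 (by omega)
    rcases (show e = 5 ∨ e = 6 ∨ e = 7 ∨ 8 ≤ e by omega) with rfl | rfl | rfl | he8
    · have hp2 : p % 2 = 1 := hp.eq_two_or_odd.resolve_left (by omega)
      have hp11 : 11 ≤ p := by omega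
      rcases (show f = 1 ∨ f = 2 ∨ 3 ≤ f by omega) with rfl | rfl | hf3
      · omega
      · omega
      · zify at h2 hp11 hf3
        nlinarith [mul_nonneg (show (0 : ℤ) ≤ (p : ℤ) - 11 by linarith) (show (0 : ℤ) ≤ 11 * (f : ℤ) - 33 by linarith)]
    · omega
    · obtain ⟨q, hq⟩ : ∃ q, p = 7 * q + 1 := ⟨p / 7, by omega⟩
      subst hq
      zify at h2
      have : (7 : ℤ) ∣ 646 := ⟨((f : ℤ) - 18) * (q - 5), by linear_combination h2⟩
      norm_num at this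
    · zify at h2 he8 hf0
      nlinarith [mul_nonneg (mul_nonneg (show (0 : ℤ) ≤ (e : ℤ) - 8 by linarith) (show (0 : ℤ) ≤ (f : ℤ) by linarith))
        (show (0 : ℤ) ≤ (p : ℤ) by positivity)]

namespace Setup

variable {F : Type*} [Field F] [Fintype F] (S : Setup F)

lemma mem_zpowers_z {x : GL (Fin 3) F} : x ∈ Subgroup.zpowers S.z ↔ ∃ m, x = S.z ^ m := by
  constructor
  · intro h
    obtain ⟨m, rfl⟩ : x ∈ Submonoid.powers S.z := mem_powers_iff_mem_zpowers.2 h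
    exact ⟨m, rfl⟩
  · rintro ⟨m, rfl⟩
    exact pow_mem (Subgroup.mem_zpowers _) m

/-- The non-central part. -/
def nc (K : Subgroup (GL (Fin 3) F)) : Set (GL (Fin 3) F) := (K : Set (GL (Fin 3) F)) \ (Subgroup.zpowers S.z : Set (GL (Fin 3) F))

lemma mem_nc {K : Subgroup (GL (Fin 3) F)} {x : GL (Fin 3) F} : x ∈ S.nc K ↔ x ∈ K ∧ ∀ m, x ≠ S.z ^ m := by
  simp only [nc, Set.mem_sdiff, SetLike.mem_coe, mem_zpowers_z, not_exists]

lemma ncard_nc {K : Subgroup (GL (Fin 3) F)} (hz : S.z ∈ K) : (S.nc K).ncard + 3 = Nat.card K := by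
  have e : (Subgroup.zpowers S.z : Set (GL (Fin 3) F)).ncard = 3 := by
    rw [← Nat.card_coe_set_eq, SetLike.coe_sort_coe, Nat.card_zpowers, S.orderOf_z]
  have h := Set.ncard_sdiff_add_ncard_of_subset (s := (Subgroup.zpowers S.z : Set (GL (Fin 3) F)))
    (t := (K : Set (GL (Fin 3) F))) (Subgroup.zpowers_le.2 hz)
  rw [e, ← Nat.card_coe_set_eq (K : Set (GL (Fin 3) F)), SetLike.coe_sort_coe] at h
  exact h

lemma Lone.conj {x q : GL (Fin 3) F} (hx : S.Lone x) (hq : q ∈ S.M) : S.Lone (q * x * q⁻¹) := by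
  refine ⟨mul_mem (mul_mem hq hx.mem) (inv_mem hq), fun m => S.conj_ne_z hx.ne_z m, fun w hw hww hw1 hc => ?_,
    fun g hg hR => hx.no_R (g * q) (mul_mem hg hq) ?_⟩
  · refine hx.no_invol (q⁻¹ * w * q) (mul_mem (mul_mem (inv_mem hq) hw) hq) ?_ ?_ ?_
    · rw [show q⁻¹ * w * q * (q⁻¹ * w * q) = q⁻¹ * (w * w) * q by group, hww, mul_one, inv_mul_cancel]
    · intro e
      rw [mul_assoc, inv_mul_eq_one, right_eq_mul] at e
      exact hw1 e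
    · have e := commute_conj hc q⁻¹
      rwa [inv_inv, show q⁻¹ * (q * x * q⁻¹) * q = x by group] at e
  · rwa [show g * q * x * (g * q)⁻¹ = g * (q * x * q⁻¹) * g⁻¹ by group]

variable (hF : S.Fused)
include hF

/-- The outside elements with sixth power the involution. -/
def DY (T : S.Torus) : Set (GL (Fin 3) F) := {g | g ∈ S.H ∧ g ∉ T.T ∧ g ^ 6 = S.t}

variable (T : S.Torus)
include T

lemma nonscalar_DY {g : GL (Fin 3) F} (hg : g ∈ S.DY T) (m : ℕ) : g ≠ S.z ^ m := fun e =>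
  hg.2.1 (e ▸ pow_mem T.z_mem m)

lemma class_cases {x : GL (Fin 3) F} (hx : x ∈ S.M) (hns : ∀ m, x ≠ S.z ^ m) :
    x ∈ conjSet S.M (S.nc T.T) ∨ x ∈ conjSet S.M (S.DY T) ∨ x ∈ conjSet S.M (S.nc S.R) ∨ S.Lone x := by
  have back : ∀ {q : GL (Fin 3) F} {D : Set (GL (Fin 3) F)}, q ∈ S.M → q * x * q⁻¹ ∈ D → x ∈ conjSet S.M D :=
    fun {q D} hq h => ⟨q⁻¹, inv_mem hq, _, h, by group⟩
  by_cases hi : ∃ w ∈ S.M, w * w = 1 ∧ w ≠ 1 ∧ w * x = x * w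
  · obtain ⟨w, hw, hww, hw1, hwx⟩ := hi
    obtain ⟨q, hq, -, hH⟩ := S.exists_conj_H hF T hx hw hww hw1 hwx
    by_cases hT : q * x * q⁻¹ ∈ T.T
    · exact Or.inl (back hq (S.mem_nc.2 ⟨hT, fun m => S.conj_ne_z hns m⟩))
    rcases (T.outside _ hH hT).1 with h6 | h6
    swap
    · exact Or.inr (Or.inl (back hq ⟨hH, hT, h6⟩))
    obtain ⟨y, hy⟩ : ∃ y, y = q * x * q⁻¹ := ⟨_, rfl⟩
    rw [← hy] at hH hT h6
    have hc : y ^ 3 * y ^ 3 = 1 := by rw [← pow_add]; exact h6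
    have hc1 : y ^ 3 ≠ 1 := fun e => by
      obtain ⟨i, hi⟩ := S.three_H hF ⟨y, hH⟩ (n := 1) (Subtype.ext (by simpa using e))
      exact S.conj_ne_z hns i (hy.symm.trans hi)
    obtain ⟨g, hg, hgc⟩ := T.conj_invol (y ^ 3) (pow_mem (S.mem_H.1 hH).1 3) hc hc1
    have hg3 : (g * y * g⁻¹) ^ 3 = S.t := by rw [conj_pow, hgc]
    have hgH : g * y * g⁻¹ ∈ S.H := S.mem_H.2 ⟨mul_mem (mul_mem hg (S.mem_H.1 hH).1) (inv_mem hg), by
      rw [← hg3, ← pow_succ', ← pow_succ]⟩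
    have hgT : g * y * g⁻¹ ∈ T.T := by
      by_contra hn
      have h2 := T.shift _ hgH _ hgH hn hn
      refine hn ?_
      have := mul_mem (inv_mem h2) (hg3.symm ▸ T.t_mem : (g * y * g⁻¹) ^ 3 ∈ T.T)
      rwa [pow_succ, pow_two, inv_mul_cancel_left] at this
    refine Or.inl (back (q := g * q) (mul_mem hg hq) (S.mem_nc.2 ⟨?_, fun m => S.conj_ne_z hns m⟩))
    rwa [show g * q * x * (g * q)⁻¹ = g * (q * x * q⁻¹) * g⁻¹ by group, ← hy]
  · by_cases hR : ∃ q ∈ S.M, q * x * q⁻¹ ∈ S.R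
    · obtain ⟨q, hq, hqR⟩ := hR
      exact Or.inr (Or.inr (Or.inl (back hq (S.mem_nc.2 ⟨hqR, fun m => S.conj_ne_z hns m⟩))))
    · push Not at hR hi
      exact Or.inr (Or.inr (Or.inr ⟨hx, hns, fun w hw hww hw1 => hi w hw hww hw1, hR⟩))

set_option maxHeartbeats 1000000 in
lemma class_equation :
    Nat.card S.M * (5 * T.k + 9) = 108 * T.k + 36 * T.k * {x | S.Lone x}.ncard := by
  have hne : ∀ {D : Set (GL (Fin 3) F)}, (∀ x ∈ D, x ∈ S.M ∧ ∀ m, x ≠ S.z ^ m) → ∀ y ∈ conjSet S.M D,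
      y ∈ S.M ∧ ∀ m, y ≠ S.z ^ m := by
    rintro D h _ ⟨g, hg, x, hx, rfl⟩
    exact ⟨mul_mem (mul_mem hg (h x hx).1) (inv_mem hg), fun m => S.conj_ne_z (h x hx).2 m⟩
  have hTM : ∀ x ∈ S.nc T.T, x ∈ S.M ∧ ∀ m, x ≠ S.z ^ m := fun x hx =>
    ⟨(S.mem_H.1 (T.le (S.mem_nc.1 hx).1)).1, (S.mem_nc.1 hx).2⟩
  have hYM : ∀ x ∈ S.DY T, x ∈ S.M ∧ ∀ m, x ≠ S.z ^ m := fun x hx => ⟨(S.mem_H.1 hx.1).1, S.nonscalar_DY hF T hx⟩
  have hRM : ∀ x ∈ S.nc S.R, x ∈ S.M ∧ ∀ m, x ≠ S.z ^ m := fun x hx => ⟨S.R_le (S.mem_nc.1 hx).1, (S.mem_nc.1 hx).2⟩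
  set UT := conjSet S.M (S.nc T.T)
  set UY := conjSet S.M (S.DY T)
  set UR := conjSet S.M (S.nc S.R)
  set L := {x | S.Lone x}
  have hinvH : ∀ {g x : GL (Fin 3) F}, x ∈ S.H → g * S.t * g⁻¹ * (g * x * g⁻¹) = g * x * g⁻¹ * (g * S.t * g⁻¹) :=
    fun {g x} hx => commute_conj (S.mem_H.1 hx).2.symm g
  have hinv1 : ∀ g : GL (Fin 3) F, g * S.t * g⁻¹ * (g * S.t * g⁻¹) = 1 ∧ g * S.t * g⁻¹ ≠ 1 := fun g =>
    ⟨by rw [show g * S.t * g⁻¹ * (g * S.t * g⁻¹) = g * (S.t * S.t) * g⁻¹ by group, S.t_sq, mul_one, mul_inv_cancel],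
      fun e => S.t_ne_one (by rwa [mul_inv_eq_one, mul_eq_left] at e)⟩
  have hTY : Disjoint UT UY := Set.disjoint_left.2 fun y hy hy' => by
    obtain ⟨g, hg, x, hx, rfl⟩ := hy
    obtain ⟨g', hg', u, hu, e⟩ := hy'
    obtain ⟨hxT, hxns⟩ := S.mem_nc.1 hx
    obtain ⟨k, hk, hkM⟩ : ∃ k, k = g'⁻¹ * g ∧ k ∈ S.M := ⟨_, rfl, mul_mem (inv_mem hg') hg⟩
    have e' : k * x * k⁻¹ = u := by
      rw [hk, show g'⁻¹ * g * x * (g'⁻¹ * g)⁻¹ = g'⁻¹ * (g * x * g⁻¹) * g' by group, e]; group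
    have h6 : k * x ^ 6 * k⁻¹ = S.t := by rw [← conj_pow, e', hu.2.2]
    have hns6 : ∀ m, x ^ 6 ≠ S.z ^ m := fun m hm => by
      rw [hm, ← S.z_pow_comm, mul_inv_cancel_right] at h6
      have a := congrArg (fun A : GL (Fin 3) F => (A : Matrix (Fin 3) (Fin 3) F) 1 2) h6
      simp [S.z_pow_val, S.t_val] at a
    have hkH := T.ti k hkM (x ^ 6) (pow_mem hxT 6) hns6 (h6 ▸ T.t_mem)
    exact hu.2.1 (e' ▸ T.normal k hkH x hxT)
  have hR' : ∀ y ∈ UR, ∀ w ∈ S.M, w * w = 1 → w ≠ 1 → w * y ≠ y * w := by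
    rintro _ ⟨g, hg, x, hx, rfl⟩ w hw hww hw1 hc
    refine S.no_invol_R hF (S.mem_nc.1 hx).1 (S.mem_nc.1 hx).2 (w := g⁻¹ * w * g) (mul_mem (mul_mem (inv_mem hg) hw) hg) ?_ ?_ ?_
    · rw [show g⁻¹ * w * g * (g⁻¹ * w * g) = g⁻¹ * (w * w) * g by group, hww, mul_one, inv_mul_cancel]
    · intro e
      rw [mul_assoc, inv_mul_eq_one, right_eq_mul] at e
      exact hw1 e
    · have e := commute_conj hc g⁻¹
      rwa [inv_inv, show g⁻¹ * (g * x * g⁻¹) * g = x by group] at e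
  have hI : ∀ y ∈ UT ∪ UY, ∃ w ∈ S.M, w * w = 1 ∧ w ≠ 1 ∧ w * y = y * w := by
    intro y hy
    obtain ⟨g, hg, x, hx, rfl⟩ | ⟨g, hg, x, hx, rfl⟩ := hy
    · exact ⟨_, mul_mem (mul_mem hg S.t_mem) (inv_mem hg), (hinv1 g).1, (hinv1 g).2, hinvH (T.le (S.mem_nc.1 hx).1)⟩
    · exact ⟨_, mul_mem (mul_mem hg S.t_mem) (inv_mem hg), (hinv1 g).1, (hinv1 g).2, hinvH hx.1⟩
  have hTYR : Disjoint (UT ∪ UY) UR := Set.disjoint_left.2 fun y hy hy' => by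
    obtain ⟨w, hw, a, b, c⟩ := hI y hy
    exact hR' y hy' w hw a b c
  have hL : Disjoint (UT ∪ UY ∪ UR) L := Set.disjoint_left.2 fun y hy hy' => by
    rcases hy with hy | ⟨g, hg, x, hx, rfl⟩
    · obtain ⟨w, hw, a, b, c⟩ := hI y hy
      exact hy'.no_invol w hw a b c
    · exact hy'.no_R g⁻¹ (inv_mem hg) (by
        rw [inv_inv, show g⁻¹ * (g * x * g⁻¹) * g = x by group]; exact (S.mem_nc.1 hx).1)
  have hall : S.nc S.M = UT ∪ UY ∪ UR ∪ L := by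
    refine Set.ext fun x => ⟨fun hx => ?_, fun hx => S.mem_nc.2 ?_⟩
    · rcases S.class_cases hF T (S.mem_nc.1 hx).1 (S.mem_nc.1 hx).2 with h | h | h | h
      · exact Or.inl (Or.inl (Or.inl h))
      · exact Or.inl (Or.inl (Or.inr h))
      · exact Or.inl (Or.inr h)
      · exact Or.inr h
    · rcases hx with ((h | h) | h) | h
      · exact hne hTM x h
      · exact hne hYM x h
      · exact hne hRM x h
      · exact ⟨h.mem, h.ne_z⟩
  have hcard := S.ncard_nc S.z_mem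
  rw [hall, Set.ncard_union_eq hL (Set.toFinite _) (Set.toFinite _),
    Set.ncard_union_eq hTYR (Set.toFinite _) (Set.toFinite _),
    Set.ncard_union_eq hTY (Set.toFinite _) (Set.toFinite _)] at hcard
  have hHM : S.H ≤ S.M := fun g hg => (S.mem_H.1 hg).1
  have eT := card_conjSet S.M S.H (S.nc T.T) hHM (fun g hg x hx => S.mem_nc.2
    ⟨T.normal g hg x (S.mem_nc.1 hx).1, fun m => S.conj_ne_z (S.mem_nc.1 hx).2 m⟩)
    (fun g hg x hx hgx => T.ti g hg x (S.mem_nc.1 hx).1 (S.mem_nc.1 hx).2 (S.mem_nc.1 hgx).1)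
  have eY := card_conjSet S.M S.H (S.DY T) hHM (fun g hg x hx => by
      refine ⟨mul_mem (mul_mem hg hx.1) (inv_mem hg), fun h => hx.2.1 ?_, ?_⟩
      · have := T.normal g⁻¹ (inv_mem hg) _ h
        rwa [inv_inv, show g⁻¹ * (g * x * g⁻¹) * g = x by group] at this
      · rw [conj_pow, hx.2.2, (S.mem_H.1 hg).2, mul_inv_cancel_right])
    (fun g hg x hx hgx => S.mem_H.2 ⟨hg, mul_inv_eq_iff_eq_mul.1 (by
      have h := hgx.2.2
      rwa [conj_pow, hx.2.2] at h)⟩)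
  have eR := card_conjSet S.M S.X (S.nc S.R) inf_le_left (fun g hg x hx => S.mem_nc.2
    ⟨S.conj_mem_R hg (S.mem_nc.1 hx).1, fun m => S.conj_ne_z (S.mem_nc.1 hx).2 m⟩)
    (fun g hg x hx hgx => S.ti_R hF hg (S.mem_nc.1 hx).1 (S.mem_nc.1 hx).2 (S.mem_nc.1 hgx).1)
  have cT : (S.nc T.T).ncard + 3 = 6 * T.k := (S.ncard_nc T.z_mem).trans T.card_T
  have cR : (S.nc S.R).ncard + 3 = 27 := (S.ncard_nc S.z_mem_R).trans S.card_R
  have cY : (S.DY T).ncard = 3 * T.k := T.card_Y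
  rw [T.card_H] at eT eY
  rw [cY] at eY
  rw [S.card_X (S.no_nine hF), show (S.nc S.R).ncard = 24 by omega] at eR
  change UR.ncard * 216 = _ at eR
  change UT.ncard * _ = _ at eT
  change UY.ncard * _ = _ at eY
  have eR' : UR.ncard * 9 = Nat.card S.M := by omega
  zify at hcard eT eY eR' cT ⊢
  linear_combination (-36 * (T.k : ℤ)) * hcard + 3 * eT + 3 * eY + (4 * (T.k : ℤ)) * eR' + (3 * (Nat.card S.M : ℤ)) * cT

end Setup

end CfsgLib.Geo.SL3.Hessian
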