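/-
No fused configuration.
-/
import Cfsg.Agent.Geo.SLThree.Hessian.Count

set_option autoImplicit false
set_option linter.unusedSectionVars false

namespace CfsgLib.Geo.SL3.Hessian

open Matrix Cfsg Cfsg.Geo CfsgLib.Geo CfsgLib.Dickson

namespace Setup

variable {F : Type*} [Field F] [Fintype F] (S : Setup F) (hF : S.Fused) (T : S.Torus)
include hF T

/-- No lone element has centraliser of order prime to the characteristic. -/
lemma no_lone_prime_to_p {x : GL (Fin 3) F} (hx : S.Lone x) : S.p ∣ Nat.card (S.Cent x) := by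
  by_contra hp
  obtain ⟨N, hNdef⟩ : ∃ N, N = (S.M ⊓ Subgroup.normalizer (S.Cent x : Set (GL (Fin 3) F)) : Subgroup (GL (Fin 3) F)) :=
    ⟨_, rfl⟩
  have hN := Lone.card_normaliser S hF T hx hp
  rw [← hNdef] at hN
  have hzC : S.z ∈ S.Cent x := S.mem_Cent.2 ⟨S.z_mem, S.z_comm x⟩
  have hU := card_conjSet S.M N (S.nc (S.Cent x)) (hNdef ▸ inf_le_left)
    (fun g hg y hy => by
      rw [hNdef] at hg
      exact S.mem_nc.2 ⟨(Subgroup.mem_normalizer_iff.1 hg.2 y).1 (S.mem_nc.1 hy).1,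
        fun m => S.conj_ne_z (S.mem_nc.1 hy).2 m⟩)
    (fun g hg y hy hgy => by
      obtain ⟨hyC, hyns⟩ := S.mem_nc.1 hy
      obtain ⟨hgyC, hgyns⟩ := S.mem_nc.1 hgy
      rw [hNdef]
      have e1 := Lone.cent_eq S hF T hx hp hyC hyns
      have e2 := Lone.cent_eq S hF T hx hp hgyC hgyns
      refine ⟨hg, Subgroup.mem_normalizer_fintype (S := (S.Cent x : Set (GL (Fin 3) F))) fun k hk => ?_⟩
      rw [SetLike.mem_coe, ← e1] at hk
      rw [SetLike.mem_coe, ← e2]
      obtain ⟨hkM, hky⟩ := S.mem_Cent.1 hk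
      exact S.mem_Cent.2 ⟨mul_mem (mul_mem hg hkM) (inv_mem hg), commute_conj hky g⟩)
  have hsub : conjSet S.M (S.nc (S.Cent x)) ⊆ {x | S.Lone x} := by
    rintro _ ⟨g, hg, y, hy, rfl⟩
    obtain ⟨hyM, hyx⟩ := S.mem_Cent.1 (S.mem_nc.1 hy).1
    exact Lone.conj S (Lone.of_commute S hF T hx hyM (S.mem_nc.1 hy).2 hyx.symm) hg
  have h1 := Set.ncard_le_ncard hsub (Set.toFinite _)
  have h15 := Lone.fifteen S hF T hx
  have hc := S.ncard_nc hzC
  have heq := S.class_equation hF T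
  have hk := T.four_le
  have hM : 0 < Nat.card S.M := Nat.card_pos
  generalize {x | S.Lone x}.ncard = L at h1 heq
  generalize (conjSet S.M (S.nc (S.Cent x))).ncard = U at h1 hU
  generalize (S.nc (S.Cent x)).ncard = D at hc hU
  generalize Nat.card (S.Cent x) = A at hc h15 hN
  generalize Nat.card N = n at hN hU
  generalize Nat.card S.M = M at heq hU hM
  have h2 : M * D ≤ L * (3 * A) := hU ▸ Nat.mul_le_mul h1 hN
  have h3 : 4 * M ≤ 15 * L := by
    by_contra hlt
    push Not at hlt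
    have := Nat.mul_lt_mul_of_pos_right hlt (show 0 < A by omega)
    have h5 : 4 * A ≤ 5 * D := by omega
    have := Nat.mul_le_mul_left M h5
    nlinarith
  zify at heq h3 hk hM
  nlinarith [mul_le_mul_of_nonneg_left h3 (show (0 : ℤ) ≤ (T.k : ℤ) by positivity),
    mul_pos hM (show (0 : ℤ) < 23 * (T.k : ℤ) - 45 by linarith)]

omit hF in
lemma two_pow_coprime : Nat.Coprime (4 * T.k) 27 := by
  have h3 : Nat.Coprime 3 T.k := (Nat.Prime.coprime_iff_not_dvd Nat.prime_three).2 T.not_three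
  have h : Nat.Coprime (4 * T.k) (3 ^ 3) := Nat.Coprime.pow_right _ (Nat.Coprime.mul_left (by norm_num) h3.symm)
  simpa using h

/-- The fused case does not occur. -/
lemma false_of_torus : False := by
  haveI := S.fact
  have hk := T.four_le
  have h216 : 216 ∣ Nat.card S.M := S.card_X (S.no_nine hF) ▸ Subgroup.card_dvd_of_le (inf_le_left : S.X ≤ S.M)
  have h12 : 12 * T.k ∣ Nat.card S.M := T.card_H ▸ Subgroup.card_dvd_of_le (fun g hg => (S.mem_H.1 hg).1 : S.H ≤ S.M)
  have heq := S.class_equation hF T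
  have hM : 0 < Nat.card S.M := Nat.card_pos
  by_cases hpM : S.p ∣ Nat.card S.M
  swap
  · have hL : {x | S.Lone x} = ∅ := Set.eq_empty_of_forall_notMem fun x hx =>
      hpM ((S.no_lone_prime_to_p hF T hx).trans (Subgroup.card_dvd_of_le inf_le_left))
    rw [hL, Set.ncard_empty, mul_zero, add_zero] at heq
    obtain ⟨c, hc⟩ := h12
    rw [hc] at heq hM
    have h9 : c * (5 * T.k + 9) = 9 := Nat.eq_of_mul_eq_mul_left (show 0 < 12 * T.k by omega) (by linarith)
    have hc0 : 0 < c := Nat.pos_of_mul_pos_left hM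
    have := Nat.le_mul_of_pos_left (5 * T.k + 9) hc0
    omega
  obtain ⟨w₀, hw₀⟩ := exists_prime_orderOf_dvd_card' S.p hpM
  obtain ⟨w, hwM, hwp, hw1⟩ : ∃ w, w ∈ S.M ∧ w ^ S.p = 1 ∧ w ≠ 1 := by
    refine ⟨w₀, w₀.2, ?_, fun e => ?_⟩
    · rw [← SubgroupClass.coe_pow, ← hw₀, pow_orderOf_eq_one, OneMemClass.coe_one]
    · rw [show w₀ = 1 from Subtype.ext e, orderOf_one] at hw₀
      exact S.prime.ne_one hw₀.symm
  have hzC : S.z ∈ S.Cent w := S.mem_Cent.2 ⟨S.z_mem, S.z_comm w⟩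
  have hp7 := S.seven_le
  have hodd : Odd (Nat.card (S.Cent w)) := by
    rw [S.card_cent_w hwM hwp hw1]
    exact (show Odd 3 by decide).mul (S.prime.odd_of_ne_two (by
      intro e
      have : S.p = 2 := e
      omega))
  have hLP : {x | S.Lone x} = conjSet S.M (S.nc (S.Cent w)) := by
    ext x
    constructor
    · intro hx
      obtain ⟨u, hu⟩ := exists_prime_orderOf_dvd_card' S.p (S.no_lone_prime_to_p hF T hx)
      obtain ⟨huM, hux⟩ := S.mem_Cent.1 u.2
      have hup : (u : GL (Fin 3) F) ^ S.p = 1 := by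
        rw [← SubgroupClass.coe_pow, ← hu, pow_orderOf_eq_one, OneMemClass.coe_one]
      have hu1 : (u : GL (Fin 3) F) ≠ 1 := fun e => by
        rw [show u = 1 from Subtype.ext e, orderOf_one] at hu
        exact S.prime.ne_one hu.symm
      obtain ⟨q, hq, hqu⟩ := S.conj_p hwM hwp hw1 huM hup
      refine ⟨q⁻¹, inv_mem hq, q * x * q⁻¹, S.mem_nc.2 ⟨S.mem_Cent.2 ⟨mul_mem (mul_mem hq hx.mem) (inv_mem hq), ?_⟩,
        fun m => S.conj_ne_z hx.ne_z m⟩, by group⟩
      obtain ⟨j, hj⟩ : q * (u : GL (Fin 3) F) * q⁻¹ ∈ Submonoid.powers w := mem_powers_iff_mem_zpowers.2 hqu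
      have hj' : w ^ j = q * (u : GL (Fin 3) F) * q⁻¹ := hj
      have hco : Nat.Coprime j (orderOf w) := by
        rw [S.orderOf_w hwM hwp hw1, Nat.coprime_comm]
        refine (Nat.Prime.coprime_iff_not_dvd S.prime).2 fun ⟨c, hc⟩ => hu1 ?_
        have hc' : j = S.p * c := hc
        rw [hc', pow_mul, hwp, one_pow, eq_comm, mul_inv_eq_one, mul_eq_left] at hj'
        exact hj'
      obtain ⟨m, hm⟩ := exists_pow_eq_self_of_coprime hco
      have e : Commute (q * x * q⁻¹) (w ^ j) := hj' ▸ commute_conj hux.symm q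
      exact hm ▸ (e.pow_right m).eq
    · rintro ⟨g, hg, y, hy, rfl⟩
      obtain ⟨hyC, hyns⟩ := S.mem_nc.1 hy
      obtain ⟨hyM, hyw⟩ := S.mem_Cent.1 hyC
      obtain ⟨i, n, hy'⟩ := S.centraliser_p hwM hwp hw1 hyM hyw
      have hn : ¬ S.p ∣ n := fun ⟨c, hc⟩ => hyns i (by rw [hy', hc, pow_mul, hwp, one_pow, mul_one])
      have h3n : Nat.Coprime (n * 3) (orderOf w) := by
        rw [S.orderOf_w hwM hwp hw1, Nat.coprime_comm]
        refine (Nat.Prime.coprime_iff_not_dvd S.prime).2 fun hd => ?_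
        rcases (Nat.Prime.dvd_mul S.prime).1 hd with h | h
        · exact hn h
        · have := Nat.le_of_dvd (by norm_num) h
          have : S.p ≤ 3 := this
          omega
      have hy3 : y ^ 3 = w ^ (n * 3) := by
        rw [hy', ((show Commute S.z w from S.z_comm w).pow_pow i n).mul_pow, ← pow_mul, mul_comm i, pow_mul, S.z_cube,
          one_pow, one_mul, ← pow_mul]
      obtain ⟨m, hm⟩ := exists_pow_eq_self_of_coprime h3n
      refine Lone.conj S ⟨hyM, hyns, fun s hs hss hs1 hc => hs1 ?_, fun q hq hR => ?_⟩ hg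
      · have e : Commute s w := hm ▸ (hy3 ▸ (show Commute s y from hc).pow_right 3 : Commute s (w ^ (n * 3))).pow_right m
        have h2 : (⟨s, S.mem_Cent.2 ⟨hs, e.eq⟩⟩ : S.Cent w) ^ 2 = 1 := Subtype.ext (by
          rw [SubmonoidClass.coe_pow, pow_two, hss, OneMemClass.coe_one])
        exact congrArg Subtype.val (pow_eq_one_of_coprime (Nat.coprime_two_left.2 hodd) h2 pow_card_eq_one')
      · have h := S.cube_of_mem_R hF hR
        rw [conj_pow, mul_inv_eq_one, mul_eq_left, hy3] at h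
        exact hw1 (by rw [← hm, h, one_pow])
  obtain ⟨e, hep, hNcard, n, hn, hne⟩ := S.np_data hwM hwp hw1
  have hU := card_conjSet S.M (Np S w) (S.nc (S.Cent w)) inf_le_left
    (fun g hg y hy => S.mem_nc.2 ⟨S.conj_cent_p hwM hwp hw1 hg (S.mem_nc.1 hy).1,
      fun m => S.conj_ne_z (S.mem_nc.1 hy).2 m⟩)
    (fun g hg y hy hgy => S.ti_p hwM hwp hw1 hg (S.mem_nc.1 hy).1 (S.mem_nc.1 hy).2 (S.mem_nc.1 hgy).1)
  rw [← hLP, hNcard] at hU
  have hD := S.ncard_nc hzC
  rw [S.card_cent_w hwM hwp hw1] at hD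
  have hpow : ∀ {g : GL (Fin 3) F} {m i : ℕ}, (g * n * g⁻¹) ^ m = S.z ^ i → e ∣ m := fun {g m i} h => hne m ⟨i, by
    rw [conj_pow, mul_inv_eq_iff_eq_mul, S.z_pow_comm] at h
    exact mul_left_cancel h⟩
  have hcase : e ∣ 4 ∨ e ∣ 3 ∨ e ∣ 2 * T.k := by
    by_cases hnz : ∀ m, n ≠ S.z ^ m
    swap
    · push Not at hnz
      obtain ⟨m, hm⟩ := hnz
      exact Or.inl ((hne 1 ⟨m, by rw [pow_one]; exact hm⟩).trans (one_dvd 4))
    rcases S.class_cases hF T hn.1 hnz with h | h | h | h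
    · obtain ⟨g, hg, y, hy, hny⟩ := h
      obtain ⟨i, hi⟩ := T.pow_mem y (S.mem_nc.1 hy).1
      exact Or.inr (Or.inr (hpow (g := g⁻¹) (i := i) (by rw [hny, ← hi]; group)))
    · obtain ⟨g, hg, y, hy, hny⟩ := h
      obtain ⟨i, hi⟩ := (T.outside y hy.1 hy.2.1).2
      exact Or.inl (hpow (g := g⁻¹) (i := i) (by rw [hny, ← hi]; group))
    · obtain ⟨g, hg, y, hy, hny⟩ := h
      exact Or.inr (Or.inl (hne 3 ⟨0, by rw [hny, conj_pow, S.cube_of_mem_R hF (S.mem_nc.1 hy).1]; simp⟩))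
    · rw [← Set.mem_setOf_eq (p := fun x => S.Lone x), hLP] at h
      obtain ⟨g, hg, y, hy, hny⟩ := h
      obtain ⟨i, j, hij⟩ := S.centraliser_p hwM hwp hw1 (S.mem_Cent.1 (S.mem_nc.1 hy).1).1 (S.mem_Cent.1 (S.mem_nc.1 hy).1).2
      have h3p : e ∣ 3 * S.p := hne (3 * S.p) ⟨0, by
        rw [hny, conj_pow, hij, ((show Commute S.z w from S.z_comm w).pow_pow i j).mul_pow, ← pow_mul, ← pow_mul,
          show i * (3 * S.p) = 3 * (i * S.p) by ring, show j * (3 * S.p) = S.p * (3 * j) by ring, pow_mul S.z, pow_mul w,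
          S.z_cube, hwp]
        simp⟩
      refine Or.inr (Or.inl (Nat.Coprime.dvd_of_dvd_mul_right ?_ h3p))
      rw [Nat.coprime_comm]
      refine (Nat.Prime.coprime_iff_not_dvd S.prime).2 fun hd => ?_
      have h1 : S.p ∣ S.p - 1 := dvd_trans hd hep
      have := Nat.le_of_dvd (by omega) h1
      omega
  -- the numbers
  have h27 : 27 ∣ Nat.card S.M := dvd_trans (by norm_num) h216
  have h4k : 4 * T.k ∣ Nat.card S.M := dvd_trans ⟨3, by ring⟩ h12
  have hp108 : Nat.Coprime (4 * T.k * 27) S.p := by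
    rw [Nat.coprime_comm]
    refine (Nat.Prime.coprime_iff_not_dvd S.prime).2 fun hd => ?_
    rcases (Nat.Prime.dvd_mul S.prime).1 hd with h | h
    · rcases (Nat.Prime.dvd_mul S.prime).1 h with h | h
      · have := Nat.le_of_dvd (by norm_num) h
        have : S.p ≤ 4 := this
        omega
      · exact T.not_p h
    · have := (Nat.prime_dvd_prime_iff_eq S.prime Nat.prime_three).1 (S.prime.dvd_of_dvd_pow (show _ ∣ 3 ^ 3 by simpa using h))
      have : S.p = 3 := this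
      omega
  obtain ⟨t, ht⟩ := hp108.mul_dvd_of_dvd_of_dvd ((S.two_pow_coprime T).mul_dvd_of_dvd_of_dvd h4k h27) hpM
  refine no_solution hk T.not_three S.prime hp7 hep hcase (t := t) ?_
  have hD' : (S.nc (S.Cent w)).ncard + 3 = 3 * S.p := hD
  change t * (5 * T.k + 9) * S.p * e + 36 * T.k * t = e + 36 * T.k * S.p * t
  have hpos : 0 < 108 * T.k * S.p := by positivity
  refine Nat.eq_of_mul_eq_mul_left hpos ?_
  rw [ht] at heq hU
  zify at heq hU hD' ⊢
  linear_combination ((S.p : ℤ) * e) * heq + (12 * (T.k : ℤ)) * hU + (12 * (T.k : ℤ) * (4 * T.k * 27 * S.p * t)) * hD'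

end Setup

end CfsgLib.Geo.SL3.Hessian
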