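/-
The symplectic-type data in dimension three: an exponent-three group of order 27.
-/
import Cfsg.Agent.Elusive.Heisenberg
import Cfsg.Prelude.Def_GeometricClasses

set_option autoImplicit false
set_option linter.unusedSectionVars false

namespace CfsgLib.Geo.SL3.Hessian

open Matrix Cfsg Cfsg.Geo

variable {F : Type*} [Field F] [Fintype F]

set_option maxHeartbeats 1000000 in
lemma data_of_symplectic {R : Subgroup (GL (Fin 3) F)} (h : IsLinearSymplecticTypeData 3 R) :
    (∀ x ∈ R, x ^ 3 = 1) ∧ Monoid.exponent R = 3 ∧ ¬ IsMulCommutative R ∧ Nat.card R = 27 ∧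
      ((3 : ℕ) : F) ≠ 0 ∧ ∃ μ : F, IsPrimitiveRoot μ 3 := by
  classical
  haveI : Fact (Nat.Prime 3) := ⟨Nat.prime_three⟩
  obtain ⟨p, e, hp3, hmin, hcase⟩ := h.field
  obtain ⟨-, -, hc3, m, hm, hcard⟩ :
      Odd 3 ∧ Odd e ∧ Nat.card (Subgroup.center R) = 3 ∧ ∃ m : ℕ, 1 ≤ m ∧ Nat.card R = 3 ^ (1 + 2 * m) := by
    rcases hcase with h | h | h
    · exact h
    · exact absurd h.1 (by norm_num)
    · exact absurd h.1 (by norm_num)
  haveI := hmin.2.1
  have h3 : ((3 : ℕ) : F) ≠ 0 := fun e => by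
    have h := (CharP.cast_eq_zero_iff F p 3).1 e
    exact hp3 ((Nat.prime_dvd_prime_iff_eq hmin.1 Nat.prime_three).1 h).symm
  have h3' : (3 : F) ≠ 0 := by exact_mod_cast h3
  have hexp : Monoid.exponent R = 3 := by
    have := h.symplecticType.exponent_eq
    simpa using this
  have hcube : ∀ x ∈ R, x ^ 3 = 1 := fun x hx => by
    have := congrArg Subtype.val (Monoid.pow_exponent_eq_one (⟨x, hx⟩ : R))
    rw [hexp] at this
    simpa using this
  have hna : ¬ IsMulCommutative R := fun hc => by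
    have htop : Subgroup.center R = ⊤ := eq_top_iff.2 fun x _ => Subgroup.mem_center_iff.2 fun y => hc.is_comm.comm y x
    rw [htop, Subgroup.card_top, hcard] at hc3
    have : (3 : ℕ) ^ 3 ≤ 3 ^ (1 + 2 * m) := Nat.pow_le_pow_right (by norm_num) (by omega)
    omega
  -- the centre is scalar
  have hscal : ∀ x : R, x ∈ Subgroup.center R →
      ∃ c : F, ((x : GL (Fin 3) F) : Matrix (Fin 3) (Fin 3) F) = c • 1 := by
    intro x hx
    refine h.absIrred.2 _ ?_
    rintro _ ⟨g, hg, rfl⟩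
    have e := congrArg (fun k : R => ((k : GL (Fin 3) F) : Matrix (Fin 3) (Fin 3) F)) (Subgroup.mem_center_iff.1 hx ⟨g, hg⟩)
    simpa using e.symm
  have hcentral : ∀ x : R, ∀ c : F, ((x : GL (Fin 3) F) : Matrix (Fin 3) (Fin 3) F) = c • 1 → x ∈ Subgroup.center R :=
    fun x c hc => Subgroup.mem_center_iff.2 fun y => Subtype.ext (Units.ext (by
      rw [Subgroup.coe_mul, Subgroup.coe_mul, Units.val_mul, Units.val_mul, hc]
      simp))
  haveI : Nontrivial (Subgroup.center R) := Finite.one_lt_card_iff_nontrivial.1 (by omega)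
  obtain ⟨z₀, hz₀⟩ := exists_ne (1 : Subgroup.center R)
  obtain ⟨μ, hμ⟩ := hscal z₀ z₀.2
  have hprim : IsPrimitiveRoot μ 3 := by
    have h1 : μ ^ 3 = 1 := by
      have := congrArg (Units.val : GL (Fin 3) F → Matrix (Fin 3) (Fin 3) F) (hcube _ (z₀ : R).2)
      rw [Units.val_pow_eq_pow_val, hμ, smul_pow, one_pow, Units.val_one] at this
      simpa using congrFun (congrFun this 0) 0
    have h2 : μ ≠ 1 := fun e => hz₀ (Subtype.ext (Subtype.ext (Units.ext (by rw [hμ, e, one_smul]; rfl))))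
    exact IsPrimitiveRoot.iff_def _ _ |>.2 ⟨h1, fun l hl => by
      by_contra hd
      have hco : Nat.Coprime 3 l := (Nat.Prime.coprime_iff_not_dvd Nat.prime_three).2 hd
      have := pow_gcd_eq_one.2 ⟨h1, hl⟩
      rw [hco.gcd_eq_one, pow_one] at this
      exact h2 this⟩
  -- a second-central element
  obtain ⟨n, hn⟩ : ∃ n, Nat.card R = 3 ^ n := ⟨_, hcard⟩
  have hRp : IsPGroup 3 R := h.symplecticType.pGroup
  haveI : Nontrivial (R ⧸ Subgroup.center R) := by
    rw [← Finite.one_lt_card_iff_nontrivial]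
    by_contra hle
    have h1 := (Subgroup.center R).card_mul_index
    rw [hc3, Subgroup.index_eq_card, hcard] at h1
    have : (3 : ℕ) ^ 3 ≤ 3 ^ (1 + 2 * m) := Nat.pow_le_pow_right (by norm_num) (by omega)
    omega
  haveI := IsPGroup.center_nontrivial (hRp.to_quotient (Subgroup.center R))
  obtain ⟨q, hq⟩ := exists_ne (1 : Subgroup.center (R ⧸ Subgroup.center R))
  obtain ⟨b, hb⟩ := QuotientGroup.mk_surjective (q : R ⧸ Subgroup.center R)
  have hbnc : b ∉ Subgroup.center R := fun hb' => hq (Subtype.ext (by rw [← hb]; exact (QuotientGroup.eq_one_iff b).2 hb'))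
  have hbc : ∀ g : R, g * b * g⁻¹ * b⁻¹ ∈ Subgroup.center R := fun g => by
    refine (QuotientGroup.eq_one_iff _).1 ?_
    have e := Subgroup.mem_center_iff.1 q.2 (g : R ⧸ Subgroup.center R)
    simp only [QuotientGroup.mk_mul, QuotientGroup.mk_inv, hb]
    rw [e]
    group
  -- the centraliser of b has index at most three
  let ψ : R →* Subgroup.center R :=
    { toFun := fun g => ⟨g * b * g⁻¹ * b⁻¹, hbc g⟩
      map_one' := Subtype.ext (by simp)
      map_mul' := fun g k => Subtype.ext (by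
        show g * k * b * (g * k)⁻¹ * b⁻¹ = g * b * g⁻¹ * b⁻¹ * (k * b * k⁻¹ * b⁻¹)
        have e := Subgroup.mem_center_iff.1 (hbc k)
        calc g * k * b * (g * k)⁻¹ * b⁻¹ = g * (k * b * k⁻¹ * b⁻¹) * (b * g⁻¹ * b⁻¹) := by group
          _ = g * ((b * g⁻¹ * b⁻¹) * (k * b * k⁻¹ * b⁻¹)) := by rw [mul_assoc, ← e]
          _ = _ := by simp only [mul_assoc]) }
  obtain ⟨g, hg⟩ : ∃ g : R, g * b ≠ b * g := by
    by_contra hcon
    push Not at hcon
    exact hbnc (Subgroup.mem_center_iff.2 hcon)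
  obtain ⟨ζ, hζ⟩ := hscal _ (hbc g)
  have hζ1 : ζ ≠ 1 := fun e => hg (by
    have h1 : g * b * g⁻¹ * b⁻¹ = 1 := Subtype.ext (Units.ext (by rw [hζ, e, one_smul]; rfl))
    rwa [mul_inv_eq_one, mul_inv_eq_iff_eq_mul] at h1)
  have hζ3 : ζ ^ 3 = 1 := by
    have := congrArg (Units.val : GL (Fin 3) F → Matrix (Fin 3) (Fin 3) F) (hcube _ (g * b * g⁻¹ * b⁻¹).2)
    rw [Units.val_pow_eq_pow_val, hζ, smul_pow, one_pow, Units.val_one] at this
    simpa using congrFun (congrFun this 0) 0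
  set B := ((b : GL (Fin 3) F) : Matrix (Fin 3) (Fin 3) F)
  set G := ((g : GL (Fin 3) F) : Matrix (Fin 3) (Fin 3) F)
  have hGB : G * B = ζ • (B * G) := by
    have e : g * b = (g * b * g⁻¹ * b⁻¹) * (b * g) := by group
    have e' := congrArg (fun k : R => ((k : GL (Fin 3) F) : Matrix (Fin 3) (Fin 3) F)) e
    simp only [Subgroup.coe_mul, Units.val_mul] at e'
    rw [Subgroup.coe_mul, Subgroup.coe_mul, Units.val_mul, Units.val_mul] at hζ
    rw [show G * B = _ from e']
    simp only [Subgroup.coe_mul, Units.val_mul, ← mul_assoc] at hζ ⊢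
    rw [hζ]
    simp [mul_assoc, B, G]
  obtain ⟨v, lam, hv, hlam⟩ : ∃ (v : Fin 3 → F) (lam : F), v ≠ 0 ∧ B *ᵥ v = lam • v := by
    have hB3 : B ^ 3 = 1 := by
      rw [← Units.val_pow_eq_pow_val, hcube _ b.2, Units.val_one]
    have hμs : 1 + μ + μ ^ 2 = 0 := by
      have := hprim.geom_sum_eq_zero (by norm_num)
      rwa [Finset.sum_range_succ, Finset.sum_range_succ, Finset.sum_range_succ, Finset.sum_range_zero,
        zero_add, pow_zero, pow_one] at this
    have hprod : (B - (1 : F) • (1 : Matrix (Fin 3) (Fin 3) F)) * (B - μ • 1) * (B - μ ^ 2 • 1) = 0 := by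
      have e : (B - (1 : F) • (1 : Matrix (Fin 3) (Fin 3) F)) * (B - μ • 1) * (B - μ ^ 2 • 1) =
          B ^ 3 - (1 + μ + μ ^ 2) • B ^ 2 + (μ * (1 + μ + μ ^ 2)) • B - μ ^ 3 • (1 : Matrix (Fin 3) (Fin 3) F) := by
        simp only [sub_mul, mul_sub, smul_mul_assoc, mul_smul_comm, smul_sub, smul_smul, one_mul, mul_one, one_smul,
          add_smul, mul_add, pow_succ, pow_zero]
        module
      rw [e, hμs, hB3, hprim.pow_eq_one]
      simp
    have hdet := congrArg Matrix.det hprod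
    rw [Matrix.det_mul, Matrix.det_mul, Matrix.det_zero, mul_eq_zero, mul_eq_zero] at hdet
    have key : ∀ c : F, (B - c • 1).det = 0 → ∃ (v : Fin 3 → F) (lam : F), v ≠ 0 ∧ B *ᵥ v = lam • v := fun c hc => by
      obtain ⟨v, hv, hBv⟩ := Matrix.exists_mulVec_eq_zero_iff.2 hc
      rw [Matrix.sub_mulVec, Matrix.smul_mulVec, Matrix.one_mulVec, sub_eq_zero] at hBv
      exact ⟨v, c, hv, hBv⟩
    rcases hdet with (h | h) | h
    exacts [key _ h, key _ h, key _ h]
  have hBu : IsUnit B.det := (Matrix.isUnit_iff_isUnit_det B).1 ⟨(b : GL (Fin 3) F), rfl⟩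
  have hGu : IsUnit G.det := (Matrix.isUnit_iff_isUnit_det G).1 ⟨(g : GL (Fin 3) F), rfl⟩
  have hGinj : ∀ w, G *ᵥ w = 0 → w = 0 := fun w hw => Matrix.eq_zero_of_mulVec_eq_zero hGu.ne_zero hw
  have hlam0 : lam ≠ 0 := fun e => hv (Matrix.eq_zero_of_mulVec_eq_zero hBu.ne_zero (by rw [hlam, e, zero_smul]))
  have hζ0 : ζ ≠ 0 := fun e => by rw [e] at hζ3; simp at hζ3
  have hstep : ∀ (w : Fin 3 → F) (l : F), B *ᵥ w = l • w → B *ᵥ (G *ᵥ w) = (l * ζ ^ 2) • (G *ᵥ w) := by
    intro w l hw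
    have e : B * G = ζ ^ 2 • (G * B) := by rw [hGB, smul_smul, ← pow_succ, hζ3, one_smul]
    rw [Matrix.mulVec_mulVec, e, Matrix.smul_mulVec, ← Matrix.mulVec_mulVec, hw, Matrix.mulVec_smul, smul_smul, mul_comm]
  obtain ⟨d, hd⟩ : ∃ d : Fin 3 → F, d = ![lam, lam * ζ ^ 2, lam * ζ ^ 2 * ζ ^ 2] := ⟨_, rfl⟩
  obtain ⟨vs, hvs⟩ : ∃ vs : Fin 3 → Fin 3 → F, vs = ![v, G *ᵥ v, G *ᵥ (G *ᵥ v)] := ⟨_, rfl⟩
  have hev : ∀ i, B *ᵥ vs i = d i • vs i := by
    intro i
    rw [hd, hvs]
    fin_cases i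
    exacts [hlam, hstep _ _ hlam, hstep _ _ (hstep _ _ hlam)]
  have hdinj : Function.Injective d := by
    have hz2 : ζ ^ 2 ≠ 1 := fun e => hζ1 (by linear_combination hζ3 - ζ * e)
    have hz4 : ζ ^ 2 * ζ ^ 2 = ζ := by linear_combination ζ * hζ3
    rw [hd, mul_assoc lam, hz4]
    intro i j hij
    fin_cases i <;> fin_cases j <;> simp [hlam0, hz2, hz2.symm, hζ1, Ne.symm hζ1] at hij ⊢
    all_goals exact absurd hij (by intro h'; first | exact hζ1 (by linear_combination hζ3 - ζ * h') | exact hζ1 (mul_left_cancel₀ hζ0 (by linear_combination -h')) | exact hζ1 (mul_left_cancel₀ hζ0 (by linear_combination h')))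
  have hvne : ∀ i, vs i ≠ 0 := by
    intro i
    rw [hvs]
    fin_cases i
    exacts [hv, fun e => hv (hGinj _ e), fun e => hv (hGinj _ (hGinj _ e))]
  have hli : LinearIndependent F vs := Module.End.eigenvectors_linearIndependent' (Matrix.toLin' B) d hdinj vs fun i => by
    rw [Module.End.hasEigenvector_iff, Module.End.mem_eigenspace_iff, Matrix.toLin'_apply]
    exact ⟨hev i, hvne i⟩
  let Q : Matrix (Fin 3) (Fin 3) F := Matrix.of fun r c => vs c r
  have hQ : IsUnit Q.det := by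
    rw [← Matrix.isUnit_iff_isUnit_det, ← Matrix.linearIndependent_cols_iff_isUnit]
    exact hli
  let QQ : GL (Fin 3) F := Matrix.GeneralLinearGroup.mkOfDetNeZero Q hQ.ne_zero
  have hBQ : B * Q = Q * Matrix.diagonal d := by
    ext r c
    rw [Matrix.mul_diagonal, mul_comm]
    exact congrFun (hev c) r
  -- count
  have hker : Nat.card ψ.ker ≤ 27 := by
    let S : Finset (Fin 3 → F) := Fintype.piFinset fun _ => ({1, μ, μ ^ 2} : Finset F)
    have hf : ∀ k : ψ.ker, ∃ c ∈ S, ((k : R) : GL (Fin 3) F).val * Q = Q * Matrix.diagonal c := by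
      intro k
      set K := (((k : R) : GL (Fin 3) F) : Matrix (Fin 3) (Fin 3) F)
      have hk : (k : R) * b * (k : R)⁻¹ * b⁻¹ = 1 := congrArg Subtype.val k.2
      rw [mul_inv_eq_one, mul_inv_eq_iff_eq_mul] at hk
      have hKB : K * B = B * K := by
        have e := congrArg (fun k : R => ((k : GL (Fin 3) F) : Matrix (Fin 3) (Fin 3) F)) hk
        simpa using e
      obtain ⟨A, hA⟩ : ∃ A, A = ((QQ⁻¹ : GL (Fin 3) F) : Matrix (Fin 3) (Fin 3) F) * K * Q := ⟨_, rfl⟩
      have hKQ : K * Q = Q * A := by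
        rw [hA, ← mul_assoc, ← mul_assoc, show Q = (QQ : Matrix (Fin 3) (Fin 3) F) from rfl, Units.mul_inv, one_mul]
      have hAd : A * Matrix.diagonal d = Matrix.diagonal d * A := by
        refine (Matrix.isUnit_iff_isUnit_det Q).2 hQ |>.mul_left_cancel ?_
        rw [← mul_assoc, ← hKQ, mul_assoc, ← hBQ, ← mul_assoc, hKB, mul_assoc, hKQ, ← mul_assoc, hBQ, mul_assoc]
      have hdiag : A = Matrix.diagonal fun i => A i i := by
        ext i j
        by_cases hij : i = j
        · subst hij; simp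
        · rw [Matrix.diagonal_apply_ne _ hij]
          have e := congrFun (congrFun hAd i) j
          rw [Matrix.mul_diagonal, Matrix.diagonal_mul, mul_comm] at e
          exact (mul_eq_zero.1 (show (d j - d i) * A i j = 0 by linear_combination e)).resolve_left
            (sub_ne_zero.2 (hdinj.ne (Ne.symm hij)))
      refine ⟨fun i => A i i, Fintype.mem_piFinset.2 fun i => ?_, hdiag ▸ hKQ⟩
      have hpow : ∀ n : ℕ, K ^ n * Q = Q * A ^ n := by
        intro n
        induction n with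
        | zero => simp
        | succ n ih => rw [pow_succ, mul_assoc, hKQ, ← mul_assoc, ih, mul_assoc, ← pow_succ]
      have hA3 : A ^ 3 = 1 := by
        refine (Matrix.isUnit_iff_isUnit_det Q).2 hQ |>.mul_left_cancel ?_
        rw [← hpow 3, mul_one, ← Units.val_pow_eq_pow_val, hcube _ (k : R).2, Units.val_one, one_mul]
      rw [hdiag, Matrix.diagonal_pow, ← Matrix.diagonal_one] at hA3
      have h1 : A i i ^ 3 = 1 := congrFun (Matrix.diagonal_injective hA3) i
      obtain ⟨j, hj, hji⟩ := hprim.eq_pow_of_pow_eq_one h1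
      rw [← hji]
      interval_cases j <;> simp
    choose c hcS hc using hf
    have hinj : Function.Injective fun k : ψ.ker => (⟨c k, hcS k⟩ : S) := fun k k' e => by
      refine Subtype.ext (Subtype.ext (Units.ext ?_))
      refine (Matrix.isUnit_iff_isUnit_det Q).2 hQ |>.mul_right_cancel ?_
      exact (hc k).trans ((congrArg (fun x : S => Q * Matrix.diagonal (x : Fin 3 → F)) e).trans (hc k').symm)
    refine (Nat.card_le_card_of_injective _ hinj).trans ?_
    rw [Nat.card_eq_fintype_card, Fintype.card_coe, Fintype.card_piFinset]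
    calc (∏ _i : Fin 3, ({1, μ, μ ^ 2} : Finset F).card) ≤ ∏ _i : Fin 3, 3 :=
          Finset.prod_le_prod (fun _ _ => Nat.zero_le _) fun _ _ => Finset.card_le_three
      _ = 27 := by simp
  have hle : Nat.card R ≤ 81 := by
    rw [← ψ.ker.card_mul_index, Subgroup.index_ker]
    have h1 : Nat.card ψ.range ≤ 3 := (Subgroup.card_le_card_group ψ.range).trans hc3.le
    calc Nat.card ψ.ker * Nat.card ψ.range ≤ 27 * 3 := Nat.mul_le_mul hker h1
      _ = 81 := rfl
  refine ⟨hcube, hexp, hna, ?_, h3, μ, hprim⟩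
  have hm1 : m = 1 := by
    by_contra hne
    have : (3 : ℕ) ^ 5 ≤ 3 ^ (1 + 2 * m) := Nat.pow_le_pow_right (by norm_num) (by omega)
    omega
  rw [hcard, hm1]
  rfl

end CfsgLib.Geo.SL3.Hessian
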