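/-
If the involution is not fused in its centraliser then the extraspecial group is normal.
-/
import Cfsg.Agent.Geo.SLThree.Hessian.NoAbelian
import Cfsg.Agent.S3017
import Cfsg.Agent.Solvable.Basics
import Cfsg.Agent.OddEnd.FourteenFinal

set_option autoImplicit false
set_option linter.unusedSectionVars false

namespace CfsgLib.Geo.SL3.Hessian

open Matrix Cfsg Cfsg.Geo CfsgLib.Geo

universe u

/-- An isolated involution generates an extremely closed subgroup. -/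
lemma extremelyClosed_of_isolated {G : Type u} [Group G] [Finite G] {τ : G} (hτ : τ * τ = 1)
    (hiso : ∀ g : G, g * τ * g⁻¹ * τ = τ * (g * τ * g⁻¹) → g * τ * g⁻¹ = τ) :
    Cfsg.IsExtremelyClosed (Subgroup.zpowers τ) := by
  intro g
  rw [MonoidHom.map_zpowers]
  set τ' := (MulAut.conj g).toMonoidHom τ with hτ'
  have hτ'e : τ' = g * τ * g⁻¹ := by simp [τ']
  refine le_antisymm ?_ (le_inf le_sup_left Subgroup.le_normalizer)
  rcases eq_or_ne τ' τ with heq | hne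
  · rw [heq, sup_idem]
    exact inf_le_left
  intro d hd
  obtain ⟨hd1, hd2⟩ := hd
  have hτi : τ⁻¹ = τ := inv_eq_of_mul_eq_one_right hτ
  have hτ2 : τ' * τ' = 1 := by rw [hτ', ← map_mul, hτ, map_one]
  set x := τ * τ' with hx
  have hsemi : ∀ n : ℤ, τ * x ^ n = x ^ (-n) * τ := by
    have h : SemiconjBy τ x x⁻¹ := by
      show τ * x = x⁻¹ * τ
      rw [hx, ← mul_assoc, hτ, one_mul, _root_.mul_inv_rev, inv_eq_of_mul_eq_one_right hτ2, hτi, mul_assoc, hτ, mul_one]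
    intro n
    rw [_root_.zpow_neg, ← _root_.inv_zpow]
    exact (h.zpow_right n).eq
  have hform : ∃ n : ℤ, d = x ^ n ∨ d = x ^ n * τ := by
    have hd' : d ∈ Subgroup.closure ({τ, τ'} : Set G) := by
      rwa [Subgroup.zpowers_eq_closure, Subgroup.zpowers_eq_closure, ← Subgroup.closure_union,
        Set.singleton_union] at hd1
    clear hd2 hd1
    induction hd' using Subgroup.closure_induction_left with
    | one => exact ⟨0, Or.inl (_root_.zpow_zero x).symm⟩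
    | mul_left y hy d _ ih =>
      have e' : τ' = x ^ (-1 : ℤ) * τ := by
        rw [← hsemi, _root_.zpow_one, hx, ← mul_assoc, hτ, one_mul]
      obtain ⟨n, hn | hn⟩ := ih
      all_goals rcases hy with rfl | rfl
      · exact ⟨-n, Or.inr (by rw [hn, hsemi])⟩
      · refine ⟨-1 + -n, Or.inr ?_⟩
        rw [hn, e', mul_assoc, hsemi, ← mul_assoc, ← _root_.zpow_add]
      · exact ⟨-n, Or.inl (by rw [hn, ← mul_assoc, hsemi, mul_assoc, hτ, mul_one])⟩
      · refine ⟨-1 + -n, Or.inl ?_⟩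
        rw [hn, e', mul_assoc, ← mul_assoc τ, hsemi, mul_assoc, hτ, mul_one, ← _root_.zpow_add]
    | inv_mul_cancel y hy d _ ih =>
      have e' : τ' = x ^ (-1 : ℤ) * τ := by
        rw [← hsemi, _root_.zpow_one, hx, ← mul_assoc, hτ, one_mul]
      obtain ⟨n, hn | hn⟩ := ih
      all_goals rcases hy with rfl | rfl
      · exact ⟨-n, Or.inr (by rw [hn, hτi, hsemi])⟩
      · refine ⟨-1 + -n, Or.inr ?_⟩
        rw [hn, inv_eq_of_mul_eq_one_right hτ2, e', mul_assoc, hsemi, ← mul_assoc, ← _root_.zpow_add]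
      · exact ⟨-n, Or.inl (by rw [hn, hτi, ← mul_assoc, hsemi, mul_assoc, hτ, mul_one])⟩
      · refine ⟨-1 + -n, Or.inl ?_⟩
        rw [hn, inv_eq_of_mul_eq_one_right hτ2, e', mul_assoc, ← mul_assoc τ, hsemi, mul_assoc, hτ, mul_one, ← _root_.zpow_add]
  have hdτ : d * τ = τ * d := by
    have h1 := (Subgroup.mem_normalizer_iff.1 hd2 τ).1 (Subgroup.mem_zpowers τ)
    obtain ⟨k, hk⟩ := Subgroup.mem_zpowers_iff.1 h1
    rcases Int.even_or_odd k with ⟨l, rfl⟩ | ⟨l, rfl⟩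
    · rw [← two_mul, _root_.zpow_mul, _root_.zpow_two, hτ, _root_.one_zpow] at hk
      have : τ = 1 := by simpa using hk.symm
      simp [this]
    · rw [_root_.zpow_add, _root_.zpow_mul, _root_.zpow_two, hτ, _root_.one_zpow, one_mul, _root_.zpow_one] at hk
      exact (eq_mul_inv_iff_mul_eq.1 hk).symm
  have hcase : ∀ n : ℤ, τ * x ^ n = x ^ n * τ → x ^ n = 1 := by
    intro n hn
    rw [hsemi] at hn
    have h2 : x ^ (2 * n) = 1 := by
      have h1 : x ^ (-n) = x ^ n := mul_right_cancel hn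
      rw [two_mul, _root_.zpow_add]
      nth_rw 1 [← h1]
      rw [_root_.zpow_neg, inv_mul_cancel]
    rcases Nat.even_or_odd (orderOf x) with ⟨l, hl⟩ | hodd
    · exfalso
      have hl0 : 0 < l := by have := orderOf_pos x; omega
      set s := x ^ (l : ℤ) * τ with hs
      have hsl : x ^ (-(l : ℤ)) = x ^ (l : ℤ) := by
        rw [_root_.zpow_neg, inv_eq_iff_mul_eq_one, ← _root_.zpow_add, ← Nat.cast_add, ← hl, _root_.zpow_natCast, pow_orderOf_eq_one]
      have hscomm : s * τ = τ * s := by rw [hs, ← mul_assoc τ, hsemi, hsl]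
      obtain ⟨h, hh⟩ : ∃ h : G, s = h * τ * h⁻¹ := by
        rcases Nat.even_or_odd l with ⟨i, hi⟩ | ⟨i, hi⟩
        · refine ⟨x ^ (i : ℤ), ?_⟩
          rw [hs, hi, Nat.cast_add, _root_.zpow_add, ← _root_.zpow_neg, mul_assoc (x ^ (i : ℤ)) τ, hsemi, neg_neg, ← mul_assoc]
        · refine ⟨x ^ (i : ℤ) * τ * g, ?_⟩
          rw [show x ^ (i : ℤ) * τ * g * τ * (x ^ (i : ℤ) * τ * g)⁻¹ =
              x ^ (i : ℤ) * τ * (g * τ * g⁻¹) * τ⁻¹ * (x ^ (i : ℤ))⁻¹ by group, ← hτ'e, hτi, mul_assoc (x ^ (i : ℤ)) τ, ← hx,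
            ← _root_.zpow_neg, mul_assoc (x ^ (i : ℤ) * x), hsemi, neg_neg, ← mul_assoc, hs, hi]
          congr 1
          rw [← _root_.zpow_add_one, ← _root_.zpow_add]
          congr 1
          push_cast
          ring
      have hsτ : s = τ := hh ▸ hiso h (hh ▸ hscomm)
      have : x ^ l = 1 := by
        rw [← _root_.zpow_natCast]; rw [hs] at hsτ; exact mul_eq_right.1 hsτ
      have := Nat.le_of_dvd hl0 (orderOf_dvd_of_pow_eq_one this)
      omega
    · have h3 : (orderOf x : ℤ) ∣ n := by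
        refine Int.dvd_of_dvd_mul_right_of_gcd_one (orderOf_dvd_iff_zpow_eq_one.2 h2) ?_
        rw [show Int.gcd (orderOf x : ℤ) 2 = Nat.gcd (orderOf x) 2 from rfl]
        exact Nat.coprime_two_right.2 hodd
      exact orderOf_dvd_iff_zpow_eq_one.1 h3
  obtain ⟨n, rfl | rfl⟩ := hform
  · rw [hcase n hdτ.symm]; exact one_mem _
  · rw [hcase n ?_, one_mul]
    · exact Subgroup.mem_zpowers τ
    · exact (mul_right_cancel (b := τ) (hdτ.trans (mul_assoc τ _ _).symm)).symm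

namespace Setup

variable {F : Type*} [Field F] [Fintype F] (S : Setup F)

set_option maxHeartbeats 2000000 in
/-- Isolation of the involution forces the group to normalise the extraspecial group. -/
theorem normal_of_isolated
    (hiso : ∀ g ∈ S.M, g * S.t * g⁻¹ * S.t = S.t * (g * S.t * g⁻¹) → g * S.t * g⁻¹ = S.t) :
    S.M ≤ S.X := by
  classical
  set τ : S.M := ⟨S.t, S.t_mem⟩
  have hτ : τ * τ = 1 := Subtype.ext S.t_sq
  have hH2 : IsPGroup 2 (Subgroup.zpowers τ) := fun h => ⟨1, by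
    obtain ⟨k, hk⟩ := Subgroup.mem_zpowers_iff.1 h.2
    refine Subtype.ext ?_
    rw [SubmonoidClass.coe_pow, ← hk, pow_one, pow_two, ← (Commute.refl τ).mul_zpow, hτ, _root_.one_zpow]
    rfl⟩
  have hcl := extremelyClosed_of_isolated hτ fun g hg => Subtype.ext (hiso g g.2 (congrArg Subtype.val hg))
  have htop := Cfsg.Agent.S3017.result (Subgroup.zpowers τ) hH2 ⟨⟨fun a b => by
    obtain ⟨i, hi⟩ := Subgroup.mem_zpowers_iff.1 a.2
    obtain ⟨j, hj⟩ := Subgroup.mem_zpowers_iff.1 b.2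
    refine Subtype.ext ?_
    rw [Subgroup.coe_mul, Subgroup.coe_mul, ← hi, ← hj, ← _root_.zpow_add, ← _root_.zpow_add, add_comm]⟩⟩ hcl
  set O := Cfsg.oddCore S.M
  haveI hOn : O.Normal := by
    show (Cfsg.pPrimeCore 2 S.M).Normal
    infer_instance
  have hOodd : Odd (Nat.card O) := Nat.coprime_two_right.1 (CfsgLib.Solvable.coprime_card_pPrimeCore 2)
  have hinO : ∀ (x : GL (Fin 3) F) (hx : x ∈ S.R), S.t * x = x ^ 2 * S.t → x ^ 3 = 1 → (⟨x, S.R_le hx⟩ : S.M) ∈ O := by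
    intro x hx htx hx3
    set g : S.M := ⟨x, S.R_le hx⟩
    obtain ⟨h, hh, o, ho, hho⟩ := Subgroup.mem_sup_of_normal_right.1 (htop ▸ Subgroup.mem_top g :
      g ∈ Subgroup.normalizer (Subgroup.zpowers τ : Set S.M) ⊔ O)
    have hhτ : h * τ = τ * h := by
      have h1 := (Subgroup.mem_normalizer_iff.1 hh τ).1 (Subgroup.mem_zpowers τ)
      obtain ⟨k, hk⟩ := Subgroup.mem_zpowers_iff.1 h1
      rcases Int.even_or_odd k with ⟨l, rfl⟩ | ⟨l, rfl⟩
      · rw [← two_mul, _root_.zpow_mul, _root_.zpow_two, hτ, _root_.one_zpow] at hk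
        have : τ = 1 := by simpa using hk.symm
        simp [this]
      · rw [_root_.zpow_add, _root_.zpow_mul, _root_.zpow_two, hτ, _root_.one_zpow, one_mul, _root_.zpow_one] at hk
        exact (eq_mul_inv_iff_mul_eq.1 hk).symm
    have hτi : τ⁻¹ = τ := inv_eq_of_mul_eq_one_right hτ
    have hmem : τ * g * τ * g⁻¹ ∈ O := by
      have e : τ * g * τ * g⁻¹ = h * (τ * o * τ⁻¹ * o⁻¹) * h⁻¹ := by
        rw [← hho, hτi, show τ * (h * o) * τ * (h * o)⁻¹ = τ * h * (o * τ * o⁻¹) * h⁻¹ by group, ← hhτ]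
        group
      rw [e]
      exact hOn.conj_mem _ (mul_mem (hOn.conj_mem o ho τ) (inv_mem ho)) h
    have e : τ * g * τ * g⁻¹ = g := by
      refine Subtype.ext ?_
      show S.t * x * S.t * x⁻¹ = x
      rw [htx, mul_assoc (x ^ 2), S.t_sq, mul_one, pow_two, mul_inv_cancel_right]
    rwa [e] at hmem
  have haO := hinO S.a S.a_mem_R S.t_a S.a_cube
  have hbO := hinO S.b S.b_mem_R S.t_b S.b_cube
  -- a minimal normal non-central subgroup of the core
  haveI hsol : Group.IsSolvable O := CfsgLib.OddEnd.odd_solvable O hOodd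
  let Good : Set (Subgroup S.M) := {Q | Q.Normal ∧ Q ≤ O ∧ ∃ q ∈ Q, ∀ m, (q : GL (Fin 3) F) ≠ S.z ^ m}
  have hGood : O ∈ Good := ⟨hOn, le_rfl, _, haO, fun m => S.not_scalar_a m⟩
  obtain ⟨Q, hQg, hmin⟩ := Set.exists_min_image Good (fun Q => Nat.card Q) (Set.toFinite _) ⟨O, hGood⟩
  obtain ⟨hQn, hQO, q₀, hq₀, hq₀ns⟩ := hQg
  haveI := hQn
  have hcomm : ∀ x ∈ Q, ∀ y ∈ Q, ∃ m, ((x * y * x⁻¹ * y⁻¹ : S.M) : GL (Fin 3) F) = S.z ^ m := by
    by_contra hcon
    push Not at hcon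
    obtain ⟨x, hx, y, hy, hxy⟩ := hcon
    have hd : ⁅Q, Q⁆ ∈ Good := ⟨Subgroup.commutator_normal Q Q, (Subgroup.commutator_le_left Q Q).trans hQO,
      _, Subgroup.commutator_mem_commutator hx hy, hxy⟩
    have he : ⁅Q, Q⁆ = Q := Subgroup.eq_of_le_of_card_ge (Subgroup.commutator_le_left Q Q) (hmin _ hd)
    let Q' : Subgroup O := Q.subgroupOf O
    have hQ' : Q'.map O.subtype = Q := by rw [Subgroup.subgroupOf_map_subtype, inf_eq_left.2 hQO]
    have hne : Q' ≠ ⊥ := fun e => hq₀ns 0 (by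
      rw [e, Subgroup.map_bot] at hQ'
      rw [← hQ', Subgroup.mem_bot] at hq₀
      rw [hq₀, pow_zero, OneMemClass.coe_one])
    have hlt := Group.IsSolvable.commutator_lt_of_ne_bot hne
    refine hlt.ne (Subgroup.map_injective O.subtype_injective ?_)
    rw [Subgroup.map_commutator, hQ', he]
  have hZcomm : ∀ m, ∀ g : GL (Fin 3) F, S.z ^ m * g = g * S.z ^ m := fun m g => S.z_pow_comm m g
  -- the centre of Q
  let A : Subgroup (GL (Fin 3) F) := (Subgroup.center Q).map (S.M.subtype.comp Q.subtype)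
  have hAM : A ≤ S.M := by rintro _ ⟨y, -, rfl⟩; exact (y : S.M).2
  have hA := S.normal_abelian_central hAM (fun g hg x hx => by
    obtain ⟨y, hy, rfl⟩ := hx
    refine ⟨⟨⟨g, hg⟩ * (y : S.M) * ⟨g, hg⟩⁻¹, hQn.conj_mem _ y.2 _⟩, ?_, rfl⟩
    refine Subgroup.mem_center_iff.2 fun w => Subtype.ext ?_
    have hw : (⟨g, hg⟩ : S.M)⁻¹ * (w : S.M) * ⟨g, hg⟩ ∈ Q := by
      simpa using hQn.conj_mem _ w.2 (⟨g, hg⟩ : S.M)⁻¹
    have h1 := congrArg Subtype.val (Subgroup.mem_center_iff.1 hy ⟨_, hw⟩)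
    simp only [Subgroup.coe_mul] at h1 ⊢
    set G0 : S.M := ⟨g, hg⟩
    calc (w : S.M) * (G0 * (y : S.M) * G0⁻¹) = G0 * (G0⁻¹ * (w : S.M) * G0 * (y : S.M)) * G0⁻¹ := by group
      _ = G0 * ((y : S.M) * (G0⁻¹ * (w : S.M) * G0)) * G0⁻¹ := by rw [h1]
      _ = _ := by group) (fun x hx y hy => by
    obtain ⟨x', hx', rfl⟩ := hx
    obtain ⟨y', hy', rfl⟩ := hy
    rw [← map_mul, ← map_mul, Subgroup.mem_center_iff.1 hy' x'])
  have hcube : ∀ x ∈ Q, ∃ m, ((x ^ 3 : S.M) : GL (Fin 3) F) = S.z ^ m := by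
    intro x hx
    refine hA _ ⟨⟨x ^ 3, pow_mem hx 3⟩, Subgroup.mem_center_iff.2 fun w => ?_, rfl⟩
    obtain ⟨m, hm⟩ := hcomm x hx (w : S.M) w.2
    refine Subtype.ext (Subtype.ext ?_)
    show ((w : S.M) : GL (Fin 3) F) * (x : GL (Fin 3) F) ^ 3 = (x : GL (Fin 3) F) ^ 3 * ((w : S.M) : GL (Fin 3) F)
    set X' := (x : GL (Fin 3) F)
    set W := ((w : S.M) : GL (Fin 3) F)
    have hXW : X' * W * X'⁻¹ = S.z ^ m * W := by
      rw [← hm]
      show X' * W * X'⁻¹ = X' * W * X'⁻¹ * W⁻¹ * W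
      group
    have hstep : ∀ i : ℕ, X' ^ i * W * (X' ^ i)⁻¹ = S.z ^ (i * m) * W := by
      intro i
      induction i with
      | zero => simp
      | succ i ih =>
        rw [show X' ^ (i + 1) * W * (X' ^ (i + 1))⁻¹ = X' * (X' ^ i * W * (X' ^ i)⁻¹) * X'⁻¹ by
          rw [pow_succ']; group, ih, ← mul_assoc X', ← hZcomm, mul_assoc (S.z ^ (i * m)), mul_assoc (S.z ^ (i * m)),
          hXW, ← mul_assoc, ← pow_add, add_mul, one_mul]
    have := hstep 3
    rw [pow_mul, S.z_cube, one_pow, one_mul, mul_inv_eq_iff_eq_mul] at this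
    exact this.symm
  -- the image of Q modulo the centre
  let Zm : Subgroup S.M := Subgroup.zpowers ⟨S.z, S.z_mem⟩
  haveI : Zm.Normal := ⟨fun y hy g => by
    obtain ⟨k, rfl⟩ := Subgroup.mem_zpowers_iff.1 hy
    have : Commute g (⟨S.z, S.z_mem⟩ : S.M) := Subtype.ext (S.z_comm g).symm
    rw [(this.zpow_right k).eq, mul_inv_cancel_right]
    exact hy⟩
  have hmemZ : ∀ y : S.M, y ∈ Zm ↔ ∃ m, (y : GL (Fin 3) F) = S.z ^ m := fun y => by
    constructor
    · intro h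
      obtain ⟨m, hm⟩ : y ∈ Submonoid.powers (⟨S.z, S.z_mem⟩ : S.M) := mem_powers_iff_mem_zpowers.2 h
      exact ⟨m, by rw [← hm]; rfl⟩
    · rintro ⟨m, hm⟩
      rw [show y = ⟨S.z, S.z_mem⟩ ^ m from Subtype.ext hm]
      exact Subgroup.pow_mem _ (Subgroup.mem_zpowers _) m
  let Qb : Subgroup (S.M ⧸ Zm) := Q.map (QuotientGroup.mk' Zm)
  haveI : Qb.Normal := hQn.map _ (QuotientGroup.mk'_surjective Zm)
  have h3 : 3 ∣ Nat.card Qb := by
    have hne : (QuotientGroup.mk' Zm q₀) ≠ 1 := fun e => by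
      obtain ⟨m, hm⟩ := (hmemZ q₀).1 ((QuotientGroup.eq_one_iff q₀).1 e)
      exact hq₀ns m hm
    have ho : orderOf (QuotientGroup.mk' Zm q₀) = 3 := by
      haveI : Fact (Nat.Prime 3) := ⟨Nat.prime_three⟩
      refine orderOf_eq_prime ?_ hne
      rw [← map_pow]
      exact (QuotientGroup.eq_one_iff _).2 ((hmemZ _).2 (hcube q₀ hq₀))
    exact (dvd_of_eq ho.symm).trans (Qb.orderOf_dvd_natCard ⟨q₀, hq₀, rfl⟩)
  let ρ : S.R →* MulAut Qb :=
    (MulAut.conjNormal).comp ((QuotientGroup.mk' Zm).comp (Subgroup.inclusion S.R_le))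
  letI := MulAction.compHom Qb ρ
  haveI : Fact (Nat.Prime 3) := ⟨Nat.prime_three⟩
  have hRp : IsPGroup 3 S.R := IsPGroup.of_card (n := 3) (S.card_R.trans (by norm_num))
  obtain ⟨⟨_, q, hq, rfl⟩, hfix, hq1⟩ := hRp.exists_fixed_point_of_prime_dvd_card_of_fixed_point Qb h3
    (a := 1) (fun r => map_one (ρ r))
  have hfixr : ∀ (r : GL (Fin 3) F) (hr : r ∈ S.R), ∃ m, r * (q : GL (Fin 3) F) * r⁻¹ * (q : GL (Fin 3) F)⁻¹ = S.z ^ m := by
    intro r hr
    have h1 := congrArg Subtype.val (hfix ⟨r, hr⟩)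
    have h2 : QuotientGroup.mk' Zm (⟨r, S.R_le hr⟩ * q * ⟨r, S.R_le hr⟩⁻¹ * q⁻¹) = 1 := by
      rw [map_mul, map_mul, map_mul, map_inv, map_inv, mul_inv_eq_one]
      exact h1
    obtain ⟨m, hm⟩ := (hmemZ _).1 ((QuotientGroup.eq_one_iff _).1 h2)
    exact ⟨m, hm⟩
  have hqR : (q : GL (Fin 3) F) ∈ S.R := by
    obtain ⟨i, hi⟩ := hfixr S.a S.a_mem_R
    obtain ⟨j, hj⟩ := hfixr S.b S.b_mem_R
    have key : ∀ (r : GL (Fin 3) F) (i : ℕ), r * (q : GL (Fin 3) F) * r⁻¹ * (q : GL (Fin 3) F)⁻¹ = S.z ^ i →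
        (q : GL (Fin 3) F) * r = S.z ^ (2 * i) * r * q := by
      intro r i h
      rw [mul_inv_eq_iff_eq_mul, mul_inv_eq_iff_eq_mul] at h
      calc (q : GL (Fin 3) F) * r = (S.z ^ 3) ^ i * ((q : GL (Fin 3) F) * r) := by rw [S.z_cube, one_pow, one_mul]
        _ = S.z ^ (2 * i) * (S.z ^ i * (q : GL (Fin 3) F) * r) := by
            rw [← pow_mul, show 3 * i = 2 * i + i by ring, pow_add]; simp only [mul_assoc]
        _ = _ := by rw [← h]; simp only [mul_assoc]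
    exact S.mem_R_of_central q.2 (key _ _ hi) (key _ _ hj)
  have hqns : ∀ m, (q : GL (Fin 3) F) ≠ S.z ^ m := fun m hm => hq1 (Subtype.ext
    ((QuotientGroup.eq_one_iff q).2 ((hmemZ q).2 ⟨m, hm⟩)).symm)
  have hRQ := S.R_le_of_invariant (Q := Q.map S.M.subtype) (fun g hg x hx => by
    obtain ⟨y, hy, rfl⟩ := hx
    exact ⟨_, hQn.conj_mem y hy ⟨g, hg.1⟩, rfl⟩) hqR ⟨q, hq, rfl⟩ hqns
  have hQR : ∀ x ∈ Q, (x : GL (Fin 3) F) ∈ S.R := by
    intro x hx
    have key : ∀ r ∈ S.R, ∃ i, (x : GL (Fin 3) F) * r = S.z ^ i * r * x := fun r hr => by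
      obtain ⟨r', hr', e⟩ := hRQ hr
      obtain ⟨m, hm⟩ := hcomm x hx r' hr'
      refine ⟨m, ?_⟩
      rw [show r = (r' : GL (Fin 3) F) from e.symm, ← hm, Subgroup.coe_mul, Subgroup.coe_mul, Subgroup.coe_mul,
        Subgroup.coe_inv, Subgroup.coe_inv]
      group
    obtain ⟨i, hi⟩ := key S.a S.a_mem_R
    obtain ⟨j, hj⟩ := key S.b S.b_mem_R
    exact S.mem_R_of_central x.2 hi hj
  intro g hg
  refine S.mem_X_of_rel hg (x := g * S.a * g⁻¹) (inv_mul_cancel_right _ _).symm (y := g * S.b * g⁻¹)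
    (inv_mul_cancel_right _ _).symm ?_ ?_
  · obtain ⟨a', ha', e⟩ := hRQ S.a_mem_R
    have := hQR _ (hQn.conj_mem a' ha' ⟨g, hg⟩)
    rw [← e]; exact this
  · obtain ⟨b', hb', e⟩ := hRQ S.b_mem_R
    have := hQR _ (hQn.conj_mem b' hb' ⟨g, hg⟩)
    rw [← e]; exact this

end Setup

end CfsgLib.Geo.SL3.Hessian
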