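/-
The normaliser of the extraspecial group of order 27 is maximal.
-/
import Cfsg.Agent.Geo.SLThree.Hessian.Data
import Cfsg.Agent.Geo.SLThree.Hessian.CountFinal
import Cfsg.Agent.Geo.SLThree.Hessian.Isolated
import Cfsg.Agent.Geo.SLThree.Hessian.Tv

set_option autoImplicit false
set_option linter.unusedSectionVars false

namespace CfsgLib.Geo.SL3.Hessian

open Matrix Cfsg Cfsg.Geo CfsgLib.Geo CfsgLib.Elusive

variable {F : Type*} [Field F] [Fintype F]

lemma Setup.M_le_X (S : Setup F) : S.M ≤ S.X := by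
  by_cases hF : S.Fused
  · exact (S.false_of_torus hF (S.exists_torus hF).some).elim
  · refine S.normal_of_isolated fun g hg hc => ?_
    by_contra hne
    exact hF ⟨g, hg, hc, hne⟩

set_option maxHeartbeats 1000000 in
lemma charP_of_card_prime {F : Type*} [Field F] [Fintype F] (h : (Fintype.card F).Prime) :
    CharP F (Fintype.card F) := by
  obtain ⟨r, hr⟩ := CharP.exists F
  obtain ⟨n, hr', hn⟩ := FiniteField.card F r
  rw [hn] at h
  rwa [hn, Nat.Prime.eq_one_of_pow h, pow_one]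

lemma seven_le_of_mod {p : ℕ} (h : p % 3 = 1) (hp : p.Prime) : 7 ≤ p := by
  have := hp.two_le
  by_contra hlt
  interval_cases p <;> first | omega | exact absurd hp (by decide)

lemma slope_of_prime {F : Type*} [Field F] [Fintype F] (h : (Fintype.card F).Prime) (Q g : GL (Fin 3) F) (a b c : F)
    (hg : ((Q⁻¹ * g * Q : GL (Fin 3) F) : Matrix (Fin 3) (Fin 3) F) = !![a, 0, 0; b, a, 0; c, b, a]) :
    ∃ n : ℕ, b = n * a := by
  have ha : a ≠ 0 := fun e => by
    have hd := ((Matrix.isUnit_iff_isUnit_det _).1 (Q⁻¹ * g * Q).isUnit).ne_zero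
    rw [hg, Matrix.det_fin_three, e] at hd
    simp at hd
  obtain ⟨n, hn⟩ := exists_natCast h (b / a)
  exact ⟨n, by rw [← hn, div_mul_cancel₀ _ ha]⟩

/-- The normaliser of the Hessian group is maximal. -/
theorem symplectic_maximal {p : ℕ} {R : Subgroup (GL (Fin 3) F)} (hp : p.Prime) (hcard : Fintype.card F = p)
    (hmod : p % 3 = 1) (h : IsLinearSymplecticTypeData 3 R) :
    IsMaximalIn (specialLinear (Fin 3) F) (subgroupNormalizer R ⊓ specialLinear (Fin 3) F) := by
  obtain ⟨hcube, hexp, hna, h27, h3, ω, hω⟩ := data_of_symplectic h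
  obtain ⟨μ, P, a₀, b₀, z₀, hμ, ha₀, hb₀, -, -, hPa, hPb, hR⟩ := exists_heisenberg_frame hω h3 R h27 hexp hna
  have h3' : (3 : F) ≠ 0 := by exact_mod_cast h3
  have hμ3 := hμ.pow_eq_one
  obtain ⟨c, hc⟩ : ∃ c, c = MulAut.conj P⁻¹ := ⟨_, rfl⟩
  have hcv : ∀ g, c g = P⁻¹ * g * P := fun g => by rw [hc, MulAut.conj_apply, inv_inv]
  have hcdet : ∀ g, c g ∈ specialLinear (Fin 3) F ↔ g ∈ specialLinear (Fin 3) F := fun g => by
    rw [hcv, mem_specialLinear, mem_specialLinear, Units.val_mul, Units.val_mul, Matrix.det_mul, Matrix.det_mul,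
      mul_comm _ ((g : Matrix (Fin 3) (Fin 3) F).det), mul_assoc, ← Matrix.det_mul, Units.inv_mul, Matrix.det_one, mul_one]
  obtain ⟨a, ha⟩ : ∃ a, a = c a₀ := ⟨_, rfl⟩
  obtain ⟨b, hb⟩ : ∃ b, b = c b₀ := ⟨_, rfl⟩
  have hav : (a : Matrix (Fin 3) (Fin 3) F) = Matrix.diagonal ![1, μ, μ ^ 2] := by rw [ha, hcv]; exact hPa
  have hbv : (b : Matrix (Fin 3) (Fin 3) F) = cycMat F := by rw [hb, hcv]; exact hPb
  have hR' : R.map c.toMonoidHom = Subgroup.closure {a, b} := by
    rw [hR, MonoidHom.map_closure, Set.image_pair, ha, hb]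
    rfl
  refine isMaximalIn_of_key ?_ fun M hM hMI hMX => ?_
  · intro hle
    obtain ⟨g, hg⟩ : ∃ g : GL (Fin 3) F, (g : Matrix (Fin 3) (Fin 3) F) = !![1, 1, 0; 0, 1, 0; 0, 0, 1] :=
      ⟨Matrix.GeneralLinearGroup.mkOfDetNeZero !![1, 1, 0; 0, 1, 0; 0, 0, 1] (by simp [Matrix.det_fin_three]), rfl⟩
    obtain ⟨g₀, rfl⟩ := c.surjective g
    have hgN := hle ((hcdet g₀).1 (mem_specialLinear.2 (by rw [hg]; simp [Matrix.det_fin_three])))
    have hmem : a₀ * (g₀ * a₀⁻¹ * g₀⁻¹) ∈ R := mul_mem ha₀ ((Subgroup.mem_normalizer_iff.1 hgN _).1 (inv_mem ha₀))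
    have h1 := congrArg c (hcube _ hmem)
    rw [map_pow, map_one, map_mul, map_mul, map_mul, map_inv, map_inv, ← ha, ← mul_assoc, ← mul_assoc] at h1
    generalize c g₀ = g at hg h1
    have hgi : ((g⁻¹ : GL (Fin 3) F) : Matrix (Fin 3) (Fin 3) F) = !![1, -1, 0; 0, 1, 0; 0, 0, 1] := by
      rw [Matrix.coe_units_inv, hg]
      refine Matrix.inv_eq_right_inv ?_
      ext i j
      fin_cases i <;> fin_cases j <;> simp [Matrix.mul_apply, Fin.sum_univ_three]
    have hai : ((a⁻¹ : GL (Fin 3) F) : Matrix (Fin 3) (Fin 3) F) = Matrix.diagonal ![1, μ ^ 2, μ] := by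
      rw [Matrix.coe_units_inv, hav]
      refine Matrix.inv_eq_right_inv ?_
      rw [Matrix.diagonal_mul_diagonal, ← Matrix.diagonal_one]
      congr 1; funext i; fin_cases i <;> simp <;> grind
    have hk : ((a * g * a⁻¹ * g⁻¹ : GL (Fin 3) F) : Matrix (Fin 3) (Fin 3) F) = !![1, μ ^ 2 - 1, 0; 0, 1, 0; 0, 0, 1] := by
      rw [Units.val_mul, Units.val_mul, Units.val_mul, hav, hg, hai, hgi]
      ext i j
      fin_cases i <;> fin_cases j <;> simp [Matrix.mul_apply, Fin.sum_univ_three, Matrix.diagonal_apply] <;> grind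
    have h2 := congrArg (Units.val : GL (Fin 3) F → Matrix (Fin 3) (Fin 3) F) h1
    rw [Units.val_pow_eq_pow_val, hk, Units.val_one] at h2
    have h4 := congrFun (congrFun h2 0) 1
    simp [pow_succ, Matrix.mul_apply, Fin.sum_univ_three] at h4
    have hμ2 : μ ^ 2 = 1 := by
      have h5 : (3 : F) * (μ ^ 2 - 1) = 0 := by linear_combination h4
      exact sub_eq_zero.1 ((mul_eq_zero.1 h5).resolve_left h3')
    exact hμ.ne_one (by norm_num) (by linear_combination hμ3 - μ * hμ2)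
  · obtain ⟨M', hM'⟩ : ∃ M', M' = M.map c.toMonoidHom := ⟨_, rfl⟩
    have hM'I : M' ≤ specialLinear (Fin 3) F := by
      rintro _ hx
      rw [hM'] at hx
      obtain ⟨x, hx, rfl⟩ := hx
      exact (hcdet x).2 (hMI hx)
    have back : specialLinear (Fin 3) F ≤ M' → specialLinear (Fin 3) F ≤ M := fun hle x hx => by
      have h1 := hle ((hcdet x).2 hx)
      rw [hM'] at h1
      exact (Subgroup.mem_map_iff_mem (f := c.toMonoidHom) c.injective).1 h1
    have hmem : ∀ g ∈ specialLinear (Fin 3) F, g * a * g⁻¹ ∈ Subgroup.closure {a, b} →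
        g * b * g⁻¹ ∈ Subgroup.closure {a, b} → g ∈ M' := by
      intro g hg hga hgb
      obtain ⟨g₀, rfl⟩ := c.surjective g
      rw [hM']
      refine ⟨g₀, hM ⟨?_, (hcdet g₀).1 hg⟩, rfl⟩
      refine mem_normalizer_of_gen hR ?_ ?_
      · rw [← hR'] at hga
        refine (Subgroup.mem_map_iff_mem (f := c.toMonoidHom) c.injective).1 ?_
        simpa [ha] using hga
      · rw [← hR'] at hgb
        refine (Subgroup.mem_map_iff_mem (f := c.toMonoidHom) c.injective).1 ?_
        simpa [hb] using hgb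
    have hprime : (Fintype.card F).Prime := hcard ▸ hp
    have hframe : HasFrame μ M' := by
      refine ⟨hμ, h3', ⟨a, hmem a (mem_specialLinear.2 ?_) ?_ ?_, hav⟩, ⟨b, hmem b (mem_specialLinear.2 ?_) ?_ ?_, hbv⟩⟩
      · rw [hav, Matrix.det_diagonal, Fin.prod_univ_three]; simp; linear_combination hμ3
      · simpa using Subgroup.subset_closure (by simp : a ∈ ({a, b} : Set (GL (Fin 3) F)))
      · exact mul_mem (mul_mem (Subgroup.subset_closure (by simp)) (Subgroup.subset_closure (by simp)))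
          (inv_mem (Subgroup.subset_closure (by simp)))
      · rw [hbv, Matrix.det_fin_three]; simp [cycMat]
      · exact mul_mem (mul_mem (Subgroup.subset_closure (by simp)) (Subgroup.subset_closure (by simp)))
          (inv_mem (Subgroup.subset_closure (by simp)))
      · simpa using Subgroup.subset_closure (by simp : b ∈ ({a, b} : Set (GL (Fin 3) F)))
    by_cases htv : ∃ w φ : Fin 3 → F, w ≠ 0 ∧ φ ≠ 0 ∧ HasTv M' w φ
    · obtain ⟨w, φ, hw, hφ, hwφ⟩ := htv
      exact back (sl_of_tv (exists_natCast hprime) hframe hw hφ hwφ)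
    · push Not at htv
      exfalso
      have hsum : 1 + μ + μ ^ 2 = 0 := by
        have := hμ.geom_sum_eq_zero (by norm_num)
        rwa [Finset.sum_range_succ, Finset.sum_range_succ, Finset.sum_range_succ, Finset.sum_range_zero,
          zero_add, pow_zero, pow_one] at this
      have hμ0 : μ ≠ 0 := hμ.ne_zero (by norm_num)
      have hd : μ ^ 2 - μ ≠ 0 := by
        rw [show μ ^ 2 - μ = μ * (μ - 1) by ring]
        exact mul_ne_zero hμ0 (sub_ne_zero.2 (hμ.ne_one (by norm_num)))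
      obtain ⟨z, hz⟩ : ∃ z : GL (Fin 3) F, (z : Matrix (Fin 3) (Fin 3) F) = μ • 1 :=
        ⟨Matrix.GeneralLinearGroup.mkOfDetNeZero (μ • 1) (by simp [hμ0]), rfl⟩
      obtain ⟨t, ht⟩ : ∃ t : GL (Fin 3) F, (t : Matrix (Fin 3) (Fin 3) F) = !![-1, 0, 0; 0, 0, -1; 0, -1, 0] :=
        ⟨Matrix.GeneralLinearGroup.mkOfDetNeZero !![-1, 0, 0; 0, 0, -1; 0, -1, 0] (by simp [Matrix.det_fin_three]), rfl⟩
      have hdu : (((μ ^ 2 - μ) / 3) • !![1, 1, 1; 1, μ, μ ^ 2; 1, μ ^ 2, μ]).det = 1 := by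
        rw [Matrix.det_smul, Matrix.det_fin_three, Fintype.card_fin]
        simp
        field_simp
        grind
      have hdv : (((μ ^ 2 - μ) / 3) • !![1, μ ^ 2, μ ^ 2; μ, μ, μ ^ 2; μ, μ ^ 2, μ]).det = 1 := by
        rw [Matrix.det_smul, Matrix.det_fin_three, Fintype.card_fin]
        simp
        field_simp
        grind
      obtain ⟨u, hu⟩ : ∃ u : GL (Fin 3) F,
          (u : Matrix (Fin 3) (Fin 3) F) = ((μ ^ 2 - μ) / 3) • !![1, 1, 1; 1, μ, μ ^ 2; 1, μ ^ 2, μ] :=
        ⟨Matrix.GeneralLinearGroup.mkOfDetNeZero _ (hdu.trans_ne one_ne_zero), rfl⟩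
      obtain ⟨v, hv⟩ : ∃ v : GL (Fin 3) F,
          (v : Matrix (Fin 3) (Fin 3) F) = ((μ ^ 2 - μ) / 3) • !![1, μ ^ 2, μ ^ 2; μ, μ, μ ^ 2; μ, μ ^ 2, μ] :=
        ⟨Matrix.GeneralLinearGroup.mkOfDetNeZero _ (hdv.trans_ne one_ne_zero), rfl⟩
      let S : Setup F :=
        { M := M', μ := μ, a := a, b := b, z := z, t := t, u := u, v := v, prim := hμ, three := h3', a_val := hav,
          b_val := hbv, z_val := hz, t_val := ht, u_val := hu, v_val := hv, le_sl := hM'I, p := Fintype.card F,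
          prime := hprime, charP := charP_of_card_prime hprime, seven_le := seven_le_of_mod (hcard ▸ hmod) hprime,
          slope := fun _ _ g _ Q α β γ _ hg => slope_of_prime hprime Q g α β γ hg, noTv := fun w φ hw hwφ => by
            by_contra hφ
            exact htv w φ hw hφ hwφ,
          mem_of_normalizes := hmem }
      refine hMX fun g hg => ?_
      have hgX : c g ∈ S.X := S.M_le_X (show c g ∈ M' by rw [hM']; exact ⟨g, hg, rfl⟩)
      have hN : ∀ r ∈ R, g * r * g⁻¹ ∈ R := fun r hr => by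
        refine (Subgroup.mem_map_iff_mem (f := c.toMonoidHom) c.injective).1 ?_
        rw [hR']
        have h1 : c r ∈ S.R := by
          show c r ∈ Subgroup.closure {a, b}
          rw [← hR']; exact ⟨r, hr, rfl⟩
        have h2 := S.conj_mem_R hgX h1
        show c (g * r * g⁻¹) ∈ _
        rw [map_mul, map_mul, map_inv]
        exact h2
      exact mem_normalizer_of_gen hR (hN _ ha₀) (hN _ hb₀)

end CfsgLib.Geo.SL3.Hessian
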